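import Cfsg.Agent.Sp6Local.SpSixFin
import Cfsg.Agent.Chev.WeylAll

/-!
# A quotient of `W(E₇)` without central involution is `Sp(6,2)`
-/

set_option autoImplicit false
set_option maxHeartbeats 1000000
set_option maxRecDepth 100000

namespace Cfsg.Agent.Sp6Local

open Cfsg.Agent.Compute Cfsg.Agent.StemCert Cfsg.Agent.SympMult.SpSix Cfsg.Agent.Classical Subgroup

theorem isSimpleGroup_Sp : IsSimpleGroup Sp := by
  have hc : center Sp = ⊥ := by
    apply Subgroup.eq_bot_of_card_eq
    rw [Classical.card_center_symplectic (by norm_num), z2_card]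
    rfl
  have := Classical.isSimpleGroup_psp (F := ZMod 2) (m := 3) (by norm_num) (fun h => by omega)
  exact (((QuotientGroup.quotientMulEquivOfEq hc).trans QuotientGroup.quotientBot).isSimpleGroup_congr).1 this

/-- The Coxeter exponents of the seven transvections, checked on the basis. -/
theorem e7_rel : allBelow 7 (fun i => allBelow 7 fun j =>
    sameW ((List.replicate ((Chev.e7Cox.getD i []).getD j 0)
      [[32, 2, 6, 16, 3, 8, 1].getD i 0, [32, 2, 6, 16, 3, 8, 1].getD j 0]).flatten) []) = true := by
  decide +kernel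

theorem e7_vec_code : ∀ i : Fin 7, e7Vec i = [32, 2, 6, 16, 3, 8, 1].getD (i : ℕ) 0 := by decide

theorem ew_replicate (u v : ℕ) : ∀ n : ℕ, ew ((List.replicate n [u, v]).flatten) = (tv u * tv v) ^ n
  | 0 => by simp
  | n + 1 => by
    rw [List.replicate_succ, List.flatten_cons, ew_append, ew_replicate u v n, pow_succ', ew_cons, ew_single]

theorem tv_liftable : CoxeterMatrix.E₇.IsLiftable (fun i => tv (e7Vec i)) := fun i j => by
  have h := allBelow_eq_true.1 (allBelow_eq_true.1 e7_rel i i.2) j j.2
  show (tv (e7Vec i) * tv (e7Vec j)) ^ CoxeterMatrix.E₇ i j = 1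
  rw [Chev.e7_coxMatrix, e7_vec_code, e7_vec_code, ← ew_replicate, sameW_spec h, ew_nil]

/-- The natural map. -/
noncomputable def toSp : CoxeterMatrix.E₇.Group →* Sp :=
  CoxeterMatrix.E₇.toCoxeterSystem.lift ⟨_, tv_liftable⟩

theorem toSp_simple (i : Fin 7) : toSp (CoxeterMatrix.E₇.toCoxeterSystem.simple i) = tv (e7Vec i) :=
  CoxeterSystem.lift_apply_simple _ tv_liftable i

/-- One step of the orbit of the seven vectors. -/
noncomputable def grow (S : ℕ) : ℕ :=
  List.rec (motive := fun _ => ℕ) S (fun v _ acc =>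
    Nat.rec (motive := fun _ => ℕ) acc (fun x acc' =>
      cond (Nat.testBit S x) (Nat.lor acc' (Nat.shiftLeft 1 (tvImg v x))) acc') 64) [32, 2, 6, 16, 3, 8, 1]

/-- The orbit after the given number of steps. -/
noncomputable def orb : ℕ → ℕ :=
  Nat.rec ((([32, 2, 6, 16, 3, 8, 1] : List ℕ)).foldr (fun v s => Nat.lor (Nat.shiftLeft 1 v) s) 0) fun _ S => grow S

theorem gen7_mem : ∀ v ∈ [32, 2, 6, 16, 3, 8, 1], tv v ∈ toSp.range := by
  intro v hv
  obtain ⟨i, rfl⟩ : ∃ i : Fin 7, e7Vec i = v := by
    simp only [List.mem_cons, List.not_mem_nil, or_false] at hv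
    rcases hv with rfl | rfl | rfl | rfl | rfl | rfl | rfl
    exacts [⟨0, rfl⟩, ⟨1, rfl⟩, ⟨2, rfl⟩, ⟨3, rfl⟩, ⟨4, rfl⟩, ⟨5, rfl⟩, ⟨6, rfl⟩]
  exact ⟨_, toSp_simple i⟩

theorem step_mem {v x : ℕ} (hv : tv v ∈ toSp.range) (hx : tv x ∈ toSp.range) :
    tv (tvImg v x) ∈ toSp.range := by
  have e : tv v * tv x * (tv v)⁻¹ = tv (tvImg v x) := conj_tv _ (tvec_mulVec z2_card v x)
  rw [← e]
  exact mul_mem (mul_mem hv hx) (inv_mem hv)

theorem orb_mem : ∀ n x, Nat.testBit (orb n) x = true → tv x ∈ toSp.range := by
  intro n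
  induction n with
  | zero =>
    intro x hx
    have hb : ∀ (l : List ℕ), Nat.testBit (l.foldr (fun v s => Nat.lor (Nat.shiftLeft 1 v) s) 0) x = true → x ∈ l := by
      intro l
      induction l with
      | nil => simp
      | cons a l ih =>
        intro h
        change Nat.testBit ((1 <<< a) ||| _) x = true at h
        rw [Nat.testBit_or, Bool.or_eq_true, Nat.one_shiftLeft, Nat.testBit_two_pow] at h
        rcases h with h | h
        · simp at h
          simp [h]
        · exact List.mem_cons_of_mem _ (ih h)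
    exact gen7_mem x (hb _ hx)
  | succ n ih =>
    intro x hx
    change Nat.testBit (grow (orb n)) x = true at hx
    generalize orb n = S at ih hx
    unfold grow at hx
    have inner : ∀ (v : ℕ), tv v ∈ toSp.range → ∀ (m acc : ℕ),
        (∀ y, Nat.testBit acc y = true → tv y ∈ toSp.range) →
        ∀ y, Nat.testBit (Nat.rec (motive := fun _ => ℕ) acc (fun x acc' =>
          cond (Nat.testBit S x) (Nat.lor acc' (Nat.shiftLeft 1 (tvImg v x))) acc') m) y = true →
          tv y ∈ toSp.range := by
      intro v hv m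
      induction m with
      | zero => exact fun acc h => h
      | succ m ihm =>
        intro acc hacc y hy
        change Nat.testBit (cond (Nat.testBit S m) _ _) y = true at hy
        cases hS : Nat.testBit S m with
        | false => rw [hS] at hy; exact ihm acc hacc y hy
        | true =>
          rw [hS] at hy
          change Nat.testBit (_ ||| (1 <<< tvImg v m)) y = true at hy
          rw [Nat.testBit_or, Bool.or_eq_true, Nat.one_shiftLeft, Nat.testBit_two_pow] at hy
          rcases hy with hy | hy
          · exact ihm acc hacc y hy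
          · simp at hy
            subst hy
            exact step_mem hv (ih m hS)
    have outer : ∀ (l : List ℕ), (∀ v ∈ l, tv v ∈ toSp.range) → ∀ y,
        Nat.testBit (List.rec (motive := fun _ => ℕ) S (fun v _ acc =>
          Nat.rec (motive := fun _ => ℕ) acc (fun x acc' =>
            cond (Nat.testBit S x) (Nat.lor acc' (Nat.shiftLeft 1 (tvImg v x))) acc') 64) l) y = true →
          tv y ∈ toSp.range := by
      intro l
      induction l with
      | nil => exact fun _ => ih
      | cons a l ihl =>
        intro hl y hy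
        exact inner a (hl a List.mem_cons_self) 64 _
          (ihl fun v hv => hl v (List.mem_cons_of_mem _ hv)) y hy
    exact outer _ gen7_mem x hx

theorem orb_full : allBelow 63 (fun x => Nat.testBit (orb 16) (Nat.add x 1)) = true := by decide +kernel

theorem tv_mem {x : ℕ} (hx : x < 64) (h0 : x ≠ 0) : tv x ∈ toSp.range := by
  have h := allBelow_eq_true.1 orb_full (x - 1) (by omega)
  rw [show Nat.add (x - 1) 1 = x by show x - 1 + 1 = x; omega] at h
  exact orb_mem 16 x h

theorem gens_words : allB (fun w => allB (fun v => Nat.blt 0 v && Nat.blt v 64) w) tvWords = true := by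
  decide +kernel

theorem toSp_surjective : Function.Surjective toSp := by
  intro y
  have hy := g_gen z2_card y
  refine (Submonoid.closure_le (S := toSp.range.toSubmonoid)).2 ?_ hy
  rintro _ ⟨s, hs, rfl⟩
  show g s ∈ toSp.range
  have hw : ∀ w : List ℕ, (∀ v ∈ w, tv v ∈ toSp.range) → evalW (tvec (ZMod 2)) w ∈ toSp.range := by
    intro w hw
    refine Subgroup.list_prod_mem _ fun z hz => ?_
    obtain ⟨v, hv, rfl⟩ := List.mem_map.1 hz
    exact hw v hv
  rw [g, if_pos (show s < 6 from hs)]
  refine hw _ fun v hv => ?_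
  have hl : tvWords.getD s [] ∈ tvWords ∨ tvWords.getD s [] = [] := by
    rw [List.getD_eq_getElem?_getD]
    rcases h : tvWords[s]? with _ | a
    · exact Or.inr rfl
    · exact Or.inl (List.mem_of_getElem? h)
  rcases hl with hl | hl
  · have := allB_spec (allB_spec gens_words _ hl) v hv
    simp only [Bool.and_eq_true, Nat.blt_eq] at this
    exact tv_mem this.2 (by omega)
  · rw [hl] at hv
    simp at hv

theorem finite_W : Finite CoxeterMatrix.E₇.Group :=
  Nat.finite_of_card_ne_zero (by rw [Chev.e7_card_coxeterGroup]; norm_num)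

theorem toSp_ker_card : Nat.card toSp.ker = 2 := by
  have h := Subgroup.card_eq_card_quotient_mul_card_subgroup toSp.ker
  rw [Chev.e7_card_coxeterGroup,
    Nat.card_congr (QuotientGroup.quotientKerEquivOfSurjective _ toSp_surjective).toEquiv,
    SympMult.SpSix.card_sp z2_card] at h
  omega

universe u

/-- A group generated by seven elements with the relations of `E₇` and without central involutions. -/
theorem exists_iso_of_cox {G : Type u} [Group G] (g : Fin 7 → G)
    (hrel : ∀ i j, (g i * g j) ^ CoxeterMatrix.E₇ i j = 1)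
    (hz : ∀ z ∈ closure (Set.range g), z * z = 1 → (∀ i, z * g i = g i * z) → z = 1) (h0 : g 0 ≠ 1) :
    ∃ e : closure (Set.range g) ≃* Sp, ∀ i, e ⟨g i, subset_closure ⟨i, rfl⟩⟩ = tv (e7Vec i) := by
  have := finite_W
  let cs := CoxeterMatrix.E₇.toCoxeterSystem
  let ψ : CoxeterMatrix.E₇.Group →* G := cs.lift ⟨g, hrel⟩
  have hψ : ∀ i, ψ (cs.simple i) = g i := fun i => CoxeterSystem.lift_apply_simple _ hrel i
  have hrange : ψ.range = closure (Set.range g) := by
    rw [MonoidHom.range_eq_map, ← cs.subgroup_closure_range_simple, MonoidHom.map_closure, ← Set.range_comp]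
    congr 1
    exact congrArg Set.range (funext hψ)
  have hker : toSp.ker ≤ ψ.ker := by
    intro k hk
    have hk2 : k * k = 1 := by
      have : (⟨k, hk⟩ : toSp.ker) ^ 2 = 1 := by
        have h := pow_card_eq_one' (x := (⟨k, hk⟩ : toSp.ker))
        rwa [toSp_ker_card] at h
      simpa [pow_two] using congrArg Subtype.val this
    have hkc : ∀ w, k * w = w * k := by
      intro w
      have hn : w * k * w⁻¹ ∈ toSp.ker := toSp.normal_ker.conj_mem k hk w
      by_cases hk1 : k = 1
      · simp [hk1]
      · have huniq : ∀ a ∈ toSp.ker, a ≠ 1 → a = k := by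
          intro a ha ha1
          by_contra hne
          have : Fintype toSp.ker := Fintype.ofFinite _
          have h3 : 2 < Fintype.card toSp.ker := Fintype.two_lt_card_iff.2
            ⟨⟨a, ha⟩, ⟨k, hk⟩, 1, fun h => hne (congrArg Subtype.val h), fun h => ha1 (congrArg Subtype.val h),
              fun h => hk1 (congrArg Subtype.val h)⟩
          rw [Fintype.card_eq_nat_card, toSp_ker_card] at h3
          omega
        have := huniq _ hn (fun h => hk1 (conj_eq_one_iff.1 h))
        exact (mul_inv_eq_iff_eq_mul.1 this).symm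
    refine hz (ψ k) (hrange ▸ ⟨k, rfl⟩) (by rw [← map_mul, hk2, map_one]) fun i => ?_
    rw [← hψ i, ← map_mul, ← map_mul, hkc]
  let φ : Sp →* G := (toSp.liftOfRightInverse _ (Function.rightInverse_surjInv toSp_surjective)) ⟨ψ, hker⟩
  have hφ : ∀ w, φ (toSp w) = ψ w := fun w =>
    toSp.liftOfRightInverse_comp_apply _ (Function.rightInverse_surjInv toSp_surjective) ⟨ψ, hker⟩ w
  have hφr : φ.range = closure (Set.range g) := by
    rw [← hrange]
    ext x
    constructor
    · rintro ⟨y, rfl⟩
      obtain ⟨w, rfl⟩ := toSp_surjective y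
      exact ⟨w, (hφ w).symm⟩
    · rintro ⟨w, rfl⟩
      exact ⟨_, hφ w⟩
  have hinj : Function.Injective φ := by
    have := isSimpleGroup_Sp
    rcases φ.normal_ker.eq_bot_or_eq_top with h | h
    · exact (MonoidHom.ker_eq_bot_iff φ).1 h
    · exfalso
      have h1 : toSp (cs.simple 0) ∈ φ.ker := by rw [h]; exact mem_top _
      rw [MonoidHom.mem_ker, hφ, hψ] at h1
      exact h0 h1
  let e₀ : Sp ≃* closure (Set.range g) :=
    (MonoidHom.ofInjective hinj).trans (MulEquiv.subgroupCongr hφr)
  refine ⟨e₀.symm, fun i => ?_⟩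
  rw [MulEquiv.symm_apply_eq]
  apply Subtype.ext
  show g i = φ (tv (e7Vec i))
  rw [← toSp_simple i, hφ, hψ]

end Cfsg.Agent.Sp6Local
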