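import Cfsg.Agent.Sym9ThreeLocal.Basic
import Cfsg.Agent.PSp43Amalgam.Setup

/-!
# The configuration for `PSp(4,3)`, its automorphism group and `Sp(6,2)`

An element `x` of order three whose centraliser is an extension of an extraspecial group of order 27 by
`SL(2,3)`, and the normaliser of an elementary subgroup of order 27 in the monomial model.
-/

set_option autoImplicit false
set_option synthInstance.maxSize 4000
set_option synthInstance.maxHeartbeats 400000

namespace Cfsg.Agent.Sp6Local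

open Subgroup Cfsg.Agent.Sym9ThreeLocal

universe u

/-- The configuration. -/
structure Conf (G : Type u) [Group G] where
  /-- The kind of the automiser. -/
  k : Kind
  /-- The normaliser of the elementary subgroup. -/
  φ : Mk k →* G
  inj : Function.Injective φ
  norm : ∀ g : G, (∀ a : A, ∃ b : A, g * φ (inlA k a) * g⁻¹ = φ (inlA k b)) → g ∈ φ.range
  sig : ∀ H : Subgroup G, (Nat.card H).Coprime 3 →
    (∀ a : A, H.map (MulAut.conj (φ (inlA k a))).toMonoidHom = H) → H = ⊥
  /-- The extraspecial subgroup. -/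
  R : Subgroup G
  cardR : Nat.card R = 27
  cubeR : ∀ r ∈ R, r ^ 3 = 1
  centerR : ∀ r, r ∈ zpowers (φ (inlA k xA)) ↔ r ∈ R ∧ ∀ s ∈ R, r * s = s * r
  projX : ∃ f : centralizer ({φ (inlA k xA)} : Set G) →* PSp43Amalgam.SL3, Function.Surjective f ∧
    ∀ g, f g = 1 ↔ (g : G) ∈ R
  leR : R ≤ centralizer ({φ (inlA k xA)} : Set G)

namespace Conf

variable {G : Type u} [Group G] (h : Conf G)

/-- The embedding of the elementary group. -/
def j : A →* G := h.φ.comp (inlA h.k)

/-- The embedding of the automiser. -/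
def q : KG h.k →* G := h.φ.comp (inrK h.k)

/-- The element of order three whose centraliser is given. -/
abbrev x : G := h.j xA

/-- The elementary subgroup. -/
def J : Subgroup G := h.j.range

/-- Its normaliser. -/
def N : Subgroup G := h.φ.range

theorem j_inj : Function.Injective h.j := h.inj.comp fun a b e =>
  SemidirectProduct.inl_injective (congrArg Subtype.val e)

theorem q_inj : Function.Injective h.q := h.inj.comp fun a b e =>
  Subtype.ext (SemidirectProduct.inr_injective (congrArg Subtype.val e))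

theorem j_mem (a : A) : h.j a ∈ h.J := ⟨a, rfl⟩

theorem q_mem_N (w : KG h.k) : h.q w ∈ h.N := ⟨_, rfl⟩

theorem j_mem_N (a : A) : h.j a ∈ h.N := ⟨_, rfl⟩

theorem J_le_N : h.J ≤ h.N := by rintro _ ⟨a, rfl⟩; exact h.j_mem_N a

theorem j_comm (a b : A) : h.j a * h.j b = h.j b * h.j a := by rw [← map_mul, ← map_mul, mul_comm]

theorem J_comm : ∀ a ∈ h.J, ∀ b ∈ h.J, a * b = b * a := by
  rintro _ ⟨a, rfl⟩ _ ⟨b, rfl⟩; exact h.j_comm a b

theorem J_cube : ∀ a ∈ h.J, a ^ 3 = 1 := by
  rintro _ ⟨a, rfl⟩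
  rw [← map_pow, A_cube, map_one]

theorem J_card : Nat.card h.J = 27 := by
  rw [← card_A]; exact (Nat.card_congr (MonoidHom.ofInjective h.j_inj).toEquiv).symm

theorem j_ne {a : A} (ha : a ≠ 1) : h.j a ≠ 1 := fun e => ha (h.j_inj (e.trans h.j.map_one.symm))

theorem order_j {a : A} (ha : a ≠ 1) : orderOf (h.j a) = 3 := by
  haveI : Fact (Nat.Prime 3) := ⟨Nat.prime_three⟩
  exact orderOf_eq_prime (h.J_cube _ (h.j_mem a)) (h.j_ne ha)

theorem conj_j (w : KG h.k) (a : A) : h.q w * h.j a * (h.q w)⁻¹ = h.j (act w a) := by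
  show h.φ (inrK h.k w) * h.φ (inlA h.k a) * (h.φ (inrK h.k w))⁻¹ = h.φ (inlA h.k (act w a))
  rw [← map_inv, ← map_mul, ← map_mul]
  congr 1
  refine Subtype.ext ?_
  show SemidirectProduct.inr (w : W) * SemidirectProduct.inl a * (SemidirectProduct.inr (w : W))⁻¹ =
    (SemidirectProduct.inl (act w a) : Mf)
  rw [← map_inv, ← SemidirectProduct.inl_aut, theta_apply]

/-- Every element of the normaliser is a translation times an element of the automiser. -/
theorem exists_split {g : G} (hg : g ∈ h.N) : ∃ (a : A) (w : KG h.k), g = h.j a * h.q w := by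
  obtain ⟨m, rfl⟩ := hg
  exact ⟨m.1.left, ⟨m.1.right, m.2⟩, by
    show h.φ m = h.φ (inlA h.k m.1.left) * h.φ (inrK h.k _)
    rw [← map_mul, ← Mk_split]⟩

theorem mem_N_iff {g : G} : g ∈ h.N ↔ ∀ a : A, ∃ b : A, g * h.j a * g⁻¹ = h.j b := by
  refine ⟨fun hg a => ?_, fun hg => h.norm g hg⟩
  obtain ⟨c, w, rfl⟩ := h.exists_split hg
  refine ⟨act w a, ?_⟩
  calc h.j c * h.q w * h.j a * (h.j c * h.q w)⁻¹ = h.j c * (h.q w * h.j a * (h.q w)⁻¹) * (h.j c)⁻¹ := by group
    _ = _ := by rw [h.conj_j, h.j_comm, mul_inv_cancel_right]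

theorem N_eq [Finite G] : h.N = normalizer (h.J : Set G) := by
  ext g
  rw [h.mem_N_iff]
  constructor
  · intro hg
    refine mem_normalizer_fintype fun y hy => ?_
    obtain ⟨a, rfl⟩ := hy
    obtain ⟨b, hb⟩ := hg a
    exact ⟨b, hb.symm⟩
  · intro hg a
    obtain ⟨b, hb⟩ := (mem_normalizer_iff.1 hg _).1 (h.j_mem a)
    exact ⟨b, hb.symm⟩

/-- The action of an element of the normaliser on the elementary subgroup. -/
theorem exists_act {g : G} (hg : g ∈ h.N) :
    ∃ w : KG h.k, (∀ a, g * h.j a * g⁻¹ = h.j (act w a)) ∧ ∃ c, g = h.j c * h.q w := by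
  obtain ⟨c, w, rfl⟩ := h.exists_split hg
  refine ⟨w, fun a => ?_, c, rfl⟩
  calc h.j c * h.q w * h.j a * (h.j c * h.q w)⁻¹ = h.j c * (h.q w * h.j a * (h.q w)⁻¹) * (h.j c)⁻¹ := by group
    _ = _ := by rw [h.conj_j, h.j_comm, mul_inv_cancel_right]

/-- The elementary subgroup is self-centralising. -/
theorem cent_J {g : G} (hg : ∀ a, g * h.j a = h.j a * g) : g ∈ h.J := by
  have hN : g ∈ h.N := h.mem_N_iff.2 fun a => ⟨a, by rw [hg a, mul_inv_cancel_right]⟩
  obtain ⟨w, hw, c, rfl⟩ := h.exists_act hN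
  have h1 : (w : W) = 1 := act_inj _ fun a => h.j_inj (by rw [← hw a, hg a, mul_inv_cancel_right])
  rw [show w = 1 from Subtype.ext h1, map_one, mul_one]
  exact h.j_mem c

end Conf

end Cfsg.Agent.Sp6Local
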