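import Cfsg.Agent.Sp6Local.CentX
import Cfsg.Agent.Sym9ThreeLocal.FactsProof

/-!
# The facts about a configuration
-/

set_option autoImplicit false
set_option synthInstance.maxSize 4000
set_option synthInstance.maxHeartbeats 400000

namespace Cfsg.Agent.Sp6Local

open Cfsg Cfsg.Agent Subgroup Cfsg.Agent.Sym9ThreeLocal

universe u

namespace Conf

variable {G : Type u} [Group G] [Finite G] (h : Conf G)

/-- The large case. -/
theorem big (hk : h.k = .eight) (hb : ¬ centralizer ({h.j e1} : Set G) ≤ h.N) :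
    ∃ π : centralizer ({h.j e1} : Set G) →* Equiv.Perm (Fin 6), Function.Surjective π ∧
      ∀ y, π y = 1 ↔ (y : G) ∈ zpowers (h.j e1) := by
  classical
  haveI : Fact (Nat.Prime 3) := ⟨Nat.prime_three⟩
  obtain ⟨hx, hcard, ht2, hw2, hte, hwe, h4, h2, he1⟩ := big_model
  have hfix : ∀ u : KG h.k, act u e1 = e1 → h.q u ∈ centralizer ({h.j e1} : Set G) := fun u hu =>
    mem_centralizer_singleton_iff.2 (mul_inv_eq_iff_eq_mul.1 ((h.conj_j u e1).trans (congrArg h.j hu)))
  set C := centralizer ({h.j e1} : Set G) with hC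
  set Z : Subgroup C := (zpowers (h.j e1)).subgroupOf C with hZ
  haveI hZn : Z.Normal := ⟨fun y hy d => by
    rw [hZ, mem_subgroupOf] at hy ⊢
    obtain ⟨i, hi⟩ := mem_zpowers_iff.1 hy
    have hd : Commute (d : G) (h.j e1) := mem_centralizer_singleton_iff.1 d.2
    show (d : G) * y * (d : G)⁻¹ ∈ zpowers (h.j e1)
    rw [← hi, (hd.zpow_right i).eq, mul_inv_cancel_right]
    exact zpow_mem (mem_zpowers _) i⟩
  set π : C →* C ⧸ Z := QuotientGroup.mk' Z with hπdef
  have hπ : ∀ d : C, π d = 1 ↔ (d : G) ∈ zpowers (h.j e1) := fun d => by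
    rw [hπdef, QuotientGroup.mk'_apply, QuotientGroup.eq_one_iff, hZ, mem_subgroupOf]
  obtain ⟨T, hnine, hmem, hnorm, hN⟩ :=
    h.exists_nine he1 (hk ▸ hx) π (QuotientGroup.mk'_surjective Z) hπ
  have hin : ∀ u : W, inK h.k u := fun u => hk ▸ trivial
  let St : Subgroup W :=
    { carrier := {u | act u e1 = e1}
      one_mem' := act_one e1
      mul_mem' := fun {a b} ha hb => (act_mul a b e1).trans (by rw [hb, ha])
      inv_mem' := fun {a} ha => by
        show act a⁻¹ e1 = e1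
        nth_rewrite 1 [← show act a e1 = e1 from ha]
        rw [← act_mul, inv_mul_cancel, act_one] }
  let ρ : St →* C :=
    { toFun := fun u => ⟨h.q ⟨u, hin _⟩, hfix _ u.2⟩
      map_one' := Subtype.ext h.q.map_one
      map_mul' := fun u v => Subtype.ext (h.q.map_mul ⟨u, hin _⟩ ⟨v, hin _⟩) }
  obtain ⟨ψ, hψ⟩ : ∃ ψ : St →* C ⧸ Z, ψ = π.comp ρ := ⟨_, rfl⟩
  have key : ∀ u : St, ψ u = 1 ↔ (u : W) = 1 := fun u => by
    refine ⟨fun e => ?_, fun e => by rw [show u = 1 from Subtype.ext e, map_one]⟩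
    rw [hψ, MonoidHom.comp_apply, hπ] at e
    obtain ⟨i, hi⟩ := mem_zpowers_iff.1 e
    rw [← map_zpow] at hi
    have e2 : inlA h.k (e1 ^ i) = inrK h.k ⟨u, hin _⟩ := h.inj hi
    exact (congrArg SemidirectProduct.right (congrArg Subtype.val e2)).symm
  obtain ⟨st, hst⟩ : ∃ st : St, (st : W) = wt := ⟨⟨wt, hte⟩, rfl⟩
  obtain ⟨sw, hsw⟩ : ∃ sw : St, (sw : W) = wq 0 1 0 (.r 0) := ⟨⟨_, hwe⟩, rfl⟩
  have hNψ : ∀ u : St, ψ u ∈ normalizer ((T : Subgroup (C ⧸ Z)) : Set (C ⧸ Z)) := fun u => by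
    rw [hψ, MonoidHom.comp_apply, hnorm]
    exact h.q_mem_N _
  have hgens : ThreeWreath.Gens T (ψ st) (ψ sw) := by
    refine ⟨hnine.comm, hnine.cube, hnine.card, hnine.cent, hnine.loc, ?_, hNψ st, hNψ sw, ?_, ?_, ?_, ?_⟩
    · rw [hN, hk, hcard]
    · rw [← map_mul, key, Subgroup.coe_mul, hst]; exact ht2
    · rw [← map_mul, key, Subgroup.coe_mul, hsw]; exact hw2
    · rw [← map_mul, ← map_mul, ← map_mul, key]
      simp only [Subgroup.coe_mul, hst, hsw]
      exact h4
    · rw [← map_mul, ← map_mul, Ne, key]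
      simp only [Subgroup.coe_mul, hst, hsw]
      exact h2
  rcases ThreeTINine.Wreath.main hgens with htop | ⟨⟨e⟩⟩
  · exact absurd (fun d hd => (hnorm ⟨d, hd⟩).1 (htop ▸ mem_top _)) hb
  · exact ⟨e.toMonoidHom.comp π, e.surjective.comp (QuotientGroup.mk'_surjective Z), fun y =>
      (map_eq_one_iff e e.injective).trans (hπ y)⟩

/-- The facts hold in every configuration. -/
theorem facts : h.Facts where
  pair _ _ hv hw := h.pair hv hw
  ctrl := h.ctrl
  loc _ hv hx he := h.loc hv hx he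
  card_x := h.card_x
  card_x_inf := h.card_x_inf
  line := h.line
  core_x := h.core_x
  S_card := h.S_card
  sylow := h.sylow
  three := h.three
  big := h.big

end Conf

end Cfsg.Agent.Sp6Local
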