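import Cfsg.Agent.Sp6Local.CoordX
import Cfsg.Agent.Sym9ThreeLocal.Lift
import Cfsg.Agent.Core.Gaschutz

/-!
# Every group satisfying the hypotheses has a configuration
-/

set_option autoImplicit false
set_option synthInstance.maxSize 4000
set_option synthInstance.maxHeartbeats 400000

namespace Cfsg.Agent.Sp6Local

open Subgroup Cfsg.Agent.Sym9ThreeLocal

universe u

variable {G : Type u} [Group G] [Finite G]

theorem pow_mod_natCard_aux {x : G} {J : Subgroup G} {a : G} {R : Subgroup G} (hx : x ∈ J)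
    (h : CentHyp a R J) {n : ℕ} : x ^ n = x ^ (n % 3) :=
  pow_eq_pow_mod n (h.cubeJ x hx)

theorem inlA_range_one' (n : Mk .one) (t : A) :
    n * inlA .one t * n⁻¹ = inlA .one (act n.1.right t) := inlA_range_one n t

/-- The permutation part, as a word in two elements. -/
theorem dih_facts : (∀ k : ZMod 3, (DihedralGroup.r k : DihedralGroup 3) = DihedralGroup.r 1 ^ k.val) ∧
    act wc e1 = e2 ∧ act wc e2 = e3 ∧ act wc e3 = e1 ∧ act wt e1 = e1 ∧ act wt e2 = e3 ∧ act wt e3 = e2 ∧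
    (∀ d : DihedralGroup 3, ∃ k : ZMod 3, d = .r k ∨ d = .sr k) ∧
    (SemidirectProduct.inr (DihedralGroup.r 1 : DihedralGroup 3) : W) = wc ∧
    (SemidirectProduct.inr (DihedralGroup.sr 0 : DihedralGroup 3) : W) = wt ∧
    (∀ t : A, ∃ i l m : Fin 3, t = e1 ^ (i : ℕ) * e2 ^ (l : ℕ) * e3 ^ (m : ℕ)) ∧ xA = e1 * e2 * e3 ∧
    (∀ k : ZMod 3, (DihedralGroup.sr k : DihedralGroup 3) = DihedralGroup.sr 0 * DihedralGroup.r k) := by
  refine ⟨by decide +kernel, by decide +kernel, by decide +kernel, by decide +kernel, by decide +kernel,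
    by decide +kernel, by decide +kernel, ?_, by decide +kernel, by decide +kernel, by decide +kernel,
    by decide +kernel, by decide +kernel⟩
  rintro (k | k)
  · exact ⟨k, Or.inl rfl⟩
  · exact ⟨k, Or.inr rfl⟩

/-- The coordinates of the given centraliser. -/
theorem exists_coordinates {a : G} {R J : Subgroup G} (h : CentHyp a R J) :
    ∃ ψ : Mk .one →* G, Function.Injective ψ ∧
      ψ.range = normalizer (J : Set G) ⊓ centralizer ({a} : Set G) ∧
      ψ (inlA .one xA) = a ∧ (ψ.comp (inlA .one)).range = J := by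
  classical
  obtain ⟨x1, c, i, hx1, hcR, hcJ, hiC, hi2, hix, hic, hcN, hiN, hsum, hgen, hcard⟩ := h.exists_basis
  have hii : i⁻¹ = i := inv_eq_of_mul_eq_one_right hi2
  set x2 := c * x1 * c⁻¹ with hx2d
  set x3 := c⁻¹ * x1 * c with hx3d
  have hc3 : c ^ 3 = 1 := h.cubeR c hcR
  have hx2 : x2 ∈ J := (mem_normalizer_iff.1 hcN x1).1 hx1
  have hx3 : x3 ∈ J := (mem_normalizer_iff''.1 hcN x1).1 hx1
  have hcc : c * c = c⁻¹ := (inv_eq_of_mul_eq_one_right (by rw [← pow_three]; exact hc3)).symm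
  -- the map on the elementary group
  let j0 : A →* G := MonoidHom.mk'
    (fun t => x1 ^ t.toAdd.1.val * x2 ^ t.toAdd.2.1.val * x3 ^ t.toAdd.2.2.val) fun s t => by
      have hp : ∀ {x : G}, x ∈ J → ∀ p q : ZMod 3, x ^ (p + q).val = x ^ p.val * x ^ q.val := by
        intro x hx p q
        rw [← pow_add, ZMod.val_add, ← pow_mod_natCard_aux hx h]
      show x1 ^ (s.toAdd + t.toAdd).1.val * x2 ^ (s.toAdd + t.toAdd).2.1.val *
        x3 ^ (s.toAdd + t.toAdd).2.2.val = _
      simp only [Prod.fst_add, Prod.snd_add, hp hx1, hp hx2, hp hx3]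
      have c12 : ∀ p q : ℕ, Commute (x1 ^ p) (x2 ^ q) := fun p q =>
        (show Commute x1 x2 from h.commJ _ hx1 _ hx2).pow_pow p q
      have c13 : ∀ p q : ℕ, Commute (x1 ^ p) (x3 ^ q) := fun p q =>
        (show Commute x1 x3 from h.commJ _ hx1 _ hx3).pow_pow p q
      have c23 : ∀ p q : ℕ, Commute (x2 ^ p) (x3 ^ q) := fun p q =>
        (show Commute x2 x3 from h.commJ _ hx2 _ hx3).pow_pow p q
      set a1 := s.toAdd.1.val; set a2 := s.toAdd.2.1.val; set a3 := s.toAdd.2.2.val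
      set b1 := t.toAdd.1.val; set b2 := t.toAdd.2.1.val; set b3 := t.toAdd.2.2.val
      calc x1 ^ a1 * x1 ^ b1 * (x2 ^ a2 * x2 ^ b2) * (x3 ^ a3 * x3 ^ b3)
          = x1 ^ a1 * (x1 ^ b1 * x2 ^ a2) * x2 ^ b2 * x3 ^ a3 * x3 ^ b3 := by group
        _ = x1 ^ a1 * (x2 ^ a2 * x1 ^ b1) * x2 ^ b2 * x3 ^ a3 * x3 ^ b3 := by rw [(c12 b1 a2).eq]
        _ = x1 ^ a1 * x2 ^ a2 * ((x1 ^ b1 * x2 ^ b2) * x3 ^ a3) * x3 ^ b3 := by group
        _ = x1 ^ a1 * x2 ^ a2 * (x3 ^ a3 * (x1 ^ b1 * x2 ^ b2)) * x3 ^ b3 := by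
          rw [((c13 b1 a3).mul_left (c23 b2 a3)).eq]
        _ = _ := by group
  have hj : j0 e1 = x1 ∧ j0 e2 = x2 ∧ j0 e3 = x3 := by
    have h1 : (1 : ZMod 3).val = 1 := rfl
    have h0 : (0 : ZMod 3).val = 0 := rfl
    refine ⟨?_, ?_, ?_⟩
    · show x1 ^ (1 : ZMod 3).val * x2 ^ (0 : ZMod 3).val * x3 ^ (0 : ZMod 3).val = x1
      rw [h1, h0]; simp
    · show x1 ^ (0 : ZMod 3).val * x2 ^ (1 : ZMod 3).val * x3 ^ (0 : ZMod 3).val = x2
      rw [h1, h0]; simp
    · show x1 ^ (0 : ZMod 3).val * x2 ^ (0 : ZMod 3).val * x3 ^ (1 : ZMod 3).val = x3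
      rw [h1, h0]; simp
  have hj0J : ∀ t, j0 t ∈ J := fun t => mul_mem (mul_mem (pow_mem hx1 _) (pow_mem hx2 _)) (pow_mem hx3 _)
  have hj0r : j0.range = J := le_antisymm (by rintro _ ⟨t, rfl⟩; exact hj0J t) (hgen.trans
    ((closure_le _).2 (by
      rintro y (rfl | rfl | rfl)
      exacts [⟨e1, hj.1⟩, ⟨e2, hj.2.1⟩, ⟨e3, hj.2.2⟩])))
  have hj0inj : Function.Injective j0 := by
    have hbij : Function.Bijective j0.rangeRestrict := (Nat.bijective_iff_surjective_and_card _).2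
      ⟨j0.rangeRestrict_surjective, by rw [hj0r, h.cardJ, card_A]⟩
    exact fun s t e => hbij.1 (Subtype.ext e)
  -- the permutation part
  let q0 : DihedralGroup 3 → G := fun d => match d with
    | .r k => c ^ k.val
    | .sr k => i * c ^ k.val
  have hcp : ∀ p q : ZMod 3, c ^ (p + q).val = c ^ p.val * c ^ q.val := fun p q => by
    rw [← pow_add, ZMod.val_add, ← pow_eq_pow_mod _ hc3]
  have hicn : ∀ n : ℕ, c ^ n * i = i * (c ^ n)⁻¹ := fun n => by
    have h1 := conj_pow (a := i) (b := c) (i := n)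
    rw [hii, hic, inv_pow] at h1
    rw [h1]
    calc c ^ n * i = i * i * (c ^ n * i) := by rw [hi2, one_mul]
      _ = _ := by group
  have hneg : ∀ p : ZMod 3, c ^ (-p).val = (c ^ p.val)⁻¹ := fun p =>
    eq_inv_of_mul_eq_one_left (by rw [← hcp, neg_add_cancel]; simp)
  let Q : DihedralGroup 3 →* G := MonoidHom.mk' q0 fun d d' => by
    rcases d with p | p <;> rcases d' with q | q
    · exact hcp p q
    · show i * c ^ (q - p).val = c ^ p.val * (i * c ^ q.val)
      rw [← mul_assoc, hicn, mul_assoc, sub_eq_neg_add, hcp, hneg]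
    · show i * c ^ (p + q).val = i * c ^ p.val * c ^ q.val
      rw [hcp, mul_assoc]
    · show c ^ (q - p).val = i * c ^ p.val * (i * c ^ q.val)
      rw [mul_assoc, ← mul_assoc (c ^ p.val), hicn, ← mul_assoc, ← mul_assoc, hi2, one_mul, sub_eq_neg_add,
        hcp, hneg]
  have hQr : Q (.r 1) = c := by show c ^ (1 : ZMod 3).val = c; rw [show (1 : ZMod 3).val = 1 from rfl, pow_one]
  have hQs : Q (.sr 0) = i := by
    show i * c ^ (0 : ZMod 3).val = i
    rw [show (0 : ZMod 3).val = 0 from rfl, pow_zero, mul_one]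
  obtain ⟨hr, a1, a2, a3, b1, b2, b3, hdc, hwc, hwt, hcoord, hxA, hsr⟩ := dih_facts
  -- compatibility
  have hcom : ∀ d : DihedralGroup 3, ∀ t : A,
      Q d * j0 t * (Q d)⁻¹ = j0 (act (SemidirectProduct.inr d) t) := by
    let D : Subgroup (DihedralGroup 3) :=
      { carrier := {d | ∀ t : A, Q d * j0 t * (Q d)⁻¹ = j0 (act (SemidirectProduct.inr d) t)}
        one_mem' := fun t => by rw [map_one, map_one, act_one]; group
        mul_mem' := fun {d d'} hd hd' t => by
          rw [map_mul, map_mul, act_mul, ← hd, ← hd']; group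
        inv_mem' := fun {d} hd t => by
          have h1 := hd (act (SemidirectProduct.inr d⁻¹) t)
          rw [← act_mul, ← map_mul, mul_inv_cancel, map_one, act_one] at h1
          rw [map_inv Q, ← h1]; group }
    have hgenA : ∀ g : G, ∀ w : W, g * x1 * g⁻¹ = j0 (act w e1) → g * x2 * g⁻¹ = j0 (act w e2) →
        g * x3 * g⁻¹ = j0 (act w e3) → ∀ t, g * j0 t * g⁻¹ = j0 (act w t) := by
      intro g w u1 u2 u3 t
      obtain ⟨n1, n2, n3, rfl⟩ := hcoord t
      rw [show act w (e1 ^ (n1 : ℕ) * e2 ^ (n2 : ℕ) * e3 ^ (n3 : ℕ)) =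
        act w e1 ^ (n1 : ℕ) * act w e2 ^ (n2 : ℕ) * act w e3 ^ (n3 : ℕ) by
          simp only [← theta_apply, map_mul, map_pow]]
      simp only [map_mul, map_pow, hj.1, hj.2.1, hj.2.2, ← u1, ← u2, ← u3, conj_pow]
      group
    have m1 : DihedralGroup.r 1 ∈ D := by
      refine hgenA _ _ ?_ ?_ ?_
      · rw [hQr, hwc, a1, hj.2.1]
      · rw [hQr, hwc, a2, hj.2.2, hx2d, hx3d]
        calc c * (c * x1 * c⁻¹) * c⁻¹ = (c * c) * x1 * (c * c)⁻¹ := by group
          _ = _ := by rw [hcc]; group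
      · rw [hQr, hwc, a3, hj.1, hx3d]; group
    have m2 : DihedralGroup.sr 0 ∈ D := by
      refine hgenA _ _ ?_ ?_ ?_
      · rw [hQs, hwt, b1, hj.1, hii, hix]
      · rw [hQs, hwt, b2, hj.2.2, hii, hx2d, hx3d]
        calc i * (c * x1 * c⁻¹) * i = (i * c * i⁻¹) * (i * x1 * i⁻¹) * (i * c⁻¹ * i⁻¹) * (i * i) := by group
          _ = _ := by
            rw [hi2, mul_one, ← conj_inv, hii, hic, hix, inv_inv]
      · rw [hQs, hwt, b3, hj.2.1, hii, hx2d, hx3d]
        calc i * (c⁻¹ * x1 * c) * i = (i * c⁻¹ * i⁻¹) * (i * x1 * i⁻¹) * (i * c * i⁻¹) * (i * i) := by group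
          _ = _ := by
            rw [hi2, mul_one, ← conj_inv, hii, hic, hix, inv_inv]
    intro d t
    have hd : d ∈ D := by
      obtain ⟨k, rfl | rfl⟩ := hdc d
      · rw [hr k]; exact pow_mem m1 _
      · rw [hsr k, hr k]; exact mul_mem m2 (pow_mem m1 _)
    exact hd t
  have hinr : ∀ n : Mk .one, (SemidirectProduct.inr n.1.right.right : W) = n.1.right := fun n =>
    SemidirectProduct.ext (show (1 : V8) = n.1.right.left from (show n.1.right.left = 1 from n.2).symm) rfl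
  let ψ : Mk .one →* G := MonoidHom.mk' (fun n => j0 n.1.left * Q n.1.right.right) fun m n => by
    show j0 (m.1.left * act m.1.right n.1.left) * Q (m.1.right.right * n.1.right.right) = _
    rw [map_mul, map_mul, show act m.1.right n.1.left = act (SemidirectProduct.inr m.1.right.right) n.1.left from
      congrArg (act · n.1.left) (hinr m).symm, ← hcom]
    group
  have hψl : ∀ t, ψ (inlA .one t) = j0 t := fun t => by
    show j0 t * Q 1 = j0 t
    rw [map_one, mul_one]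
  have hψinj : Function.Injective ψ := by
    refine (injective_iff_map_eq_one ψ).2 fun n hn => ?_
    have hq : Q n.1.right.right = (j0 n.1.left)⁻¹ := eq_inv_of_mul_eq_one_right hn
    have h1 : (SemidirectProduct.inr n.1.right.right : W) = 1 := act_inj _ fun t => hj0inj (by
      rw [← hcom, hq, inv_inv, h.commJ _ (inv_mem (hj0J _)) _ (hj0J t), inv_mul_cancel_right])
    rw [hinr n] at h1
    have h2 : j0 n.1.left = 1 := by
      have e : ψ n = 1 := hn
      rwa [show ψ n = j0 n.1.left * Q n.1.right.right from rfl, h1,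
        show (1 : W).right = 1 from rfl, map_one, mul_one] at e
    exact Subtype.ext (SemidirectProduct.ext (hj0inj (h2.trans (map_one j0).symm)) h1)
  refine ⟨ψ, hψinj, ?_, ?_, ?_⟩
  · refine eq_of_le_of_card_ge ?_ ?_
    · rintro _ ⟨n, rfl⟩
      refine mul_mem ⟨Subgroup.le_normalizer (hj0J _), h.leJ (hj0J _)⟩ ?_
      have hQ : ∀ d, Q d ∈ normalizer (J : Set G) ⊓ centralizer ({a} : Set G) := fun d => by
        obtain ⟨k, rfl | rfl⟩ := hdc d
        · exact pow_mem (mem_inf.2 ⟨hcN, h.leR hcR⟩) _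
        · exact mul_mem (mem_inf.2 ⟨hiN, hiC⟩) (pow_mem (mem_inf.2 ⟨hcN, h.leR hcR⟩) _)
      exact hQ _
    · rw [← Nat.card_congr (MonoidHom.ofInjective hψinj).toEquiv]
      refine hcard.trans ?_
      rw [← card_Mk_one, ← Fintype.card_subtype, ← Nat.card_eq_fintype_card]
      exact (Nat.card_congr (Equiv.subtypeEquivRight fun _ => Iff.rfl)).le
  · rw [hψl, hxA, map_mul, map_mul, hj.1, hj.2.1, hj.2.2, hsum]
  · rw [← hj0r]
    exact congrArg MonoidHom.range (MonoidHom.ext hψl)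

/-- The hypotheses give a configuration. -/
theorem exists_conf {x : G} {R J : Subgroup G} (h0 : CentHyp x R J) :
    ∃ h : Conf G, h.J = J ∧ h.x = x := by
  classical
  have hcomm := h0.commJ
  have hJC := h0.leJ
  have hJcard := h0.cardJ
  obtain ⟨ψ, hψ, hψr, hψx, hψJ⟩ := exists_coordinates h0
  set j₀ : A →* G := ψ.comp (inlA .one) with hj₀
  have hj₀inj : Function.Injective j₀ := hψ.comp fun a b e =>
    SemidirectProduct.inl_injective (congrArg Subtype.val e)
  set N : Subgroup G := normalizer (J : Set G) with hN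
  -- the elements acting on `J`
  have hact : ∀ g ∈ N, ∃ f : A →* A, ∀ a, g * j₀ a * g⁻¹ = j₀ (f a) := by
    intro g hg
    have hex : ∀ a, ∃ b, g * j₀ a * g⁻¹ = j₀ b := fun a => by
      have := (mem_normalizer_iff.1 hg (j₀ a)).1 (hψJ ▸ ⟨a, rfl⟩)
      rw [← hψJ] at this
      obtain ⟨b, hb⟩ := this
      exact ⟨b, hb.symm⟩
    choose f hf using hex
    refine ⟨MonoidHom.mk' f fun a b => hj₀inj ?_, hf⟩
    rw [map_mul, ← hf, ← hf, ← hf, map_mul]; group
  set NC : Subgroup G := N ⊓ centralizer ({x} : Set G) with hNC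
  have hCN : NC ≤ N := inf_le_left
  have hψact : ∀ n : Mk .one, ∀ a, ψ n * j₀ a * (ψ n)⁻¹ = j₀ (act n.1.right a) := fun n a => by
    show ψ n * ψ (inlA .one a) * (ψ n)⁻¹ = ψ (inlA .one (act n.1.right a))
    rw [← inlA_range_one n a, map_mul, map_mul, map_inv]
  have hxfix : ∀ g ∈ N, g * j₀ xA * g⁻¹ = j₀ xA → g ∈ ψ.range := fun g hgN hg => by
    rw [hψr]
    refine ⟨hgN, mem_centralizer_singleton_iff.2 (mul_inv_eq_iff_eq_mul.1 ?_)⟩
    rwa [show j₀ xA = x from hψx] at hg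
  let Γ : Set (A →* A) := {f | ∃ g ∈ N, ∀ a, g * j₀ a * g⁻¹ = j₀ (f a)}
  have hΓ : AutSet Γ := by
    refine ⟨?_, ?_, ?_, ?_⟩
    · rintro f ⟨g, hg, e⟩ f' ⟨g', hg', e'⟩
      refine ⟨g * g', N.mul_mem hg hg', fun a => ?_⟩
      show g * g' * j₀ a * (g * g')⁻¹ = j₀ (f (f' a))
      rw [← e, ← e']; group
    · intro w hw
      refine ⟨ψ ⟨SemidirectProduct.inr w, hw⟩, hCN (hψr ▸ ⟨_, rfl⟩), fun a => ?_⟩
      rw [hψact]; rfl
    · rintro f ⟨g, -, e⟩ a b hab
      refine hj₀inj ?_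
      have := (e a).trans ((congrArg j₀ hab).trans (e b).symm)
      simpa using this
    · rintro f ⟨g, hgN, e⟩ hfx
      obtain ⟨n, rfl⟩ : g ∈ ψ.range := hxfix g hgN (by rw [e, hfx])
      exact ⟨n.1.right, n.2, MonoidHom.ext fun a => hj₀inj (by rw [← e, hψact]; rfl)⟩
  obtain ⟨c, hc⟩ := hΓ.exists_coords
  -- new coordinates
  set j : A →* G := j₀.comp (Pf (-c)) with hj
  have hjinj : Function.Injective j := hj₀inj.comp (PfE c).symm.injective
  have hjJ : j.range = J := by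
    rw [← hψJ]
    ext y
    constructor
    · rintro ⟨a, rfl⟩; exact ⟨_, rfl⟩
    · rintro ⟨a, rfl⟩
      exact ⟨Pf c a, by show j₀ (Pf (-c) (Pf c a)) = j₀ a; rw [(Pf_inv' c a).2]⟩
  have hjmem : ∀ a, j a ∈ J := fun a => hjJ ▸ ⟨a, rfl⟩
  have hjx : j xA = j₀ xA := by show j₀ (Pf (-c) xA) = j₀ xA; rw [Pf_xA]
  have hjact : ∀ g ∈ N, ∃ w : W, ∀ a, g * j a * g⁻¹ = j (act w a) := by
    intro g hg
    obtain ⟨f, hf⟩ := hact g hg
    obtain ⟨w, hw⟩ := hc f ⟨g, hg, hf⟩
    exact ⟨w, fun a => by show g * j₀ (Pf (-c) a) * g⁻¹ = _; rw [hf, hw]; rfl⟩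
  have huni : ∀ (g : G) (v w : W), (∀ a, g * j a * g⁻¹ = j (act v a)) →
      (∀ a, g * j a * g⁻¹ = j (act w a)) → v = w := by
    intro g v w hv hw
    have : w⁻¹ * v = 1 := act_inj _ fun a => by
      rw [act_mul, hjinj ((hv a).symm.trans (hw a)), ← act_mul, inv_mul_cancel, act_one]
    exact (eq_of_inv_mul_eq_one this).symm
  let K : Subgroup W :=
    { carrier := {w | ∃ g ∈ N, ∀ a, g * j a * g⁻¹ = j (act w a)}
      one_mem' := ⟨1, N.one_mem, fun a => by rw [act_one]; group⟩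
      mul_mem' := by
        rintro v w ⟨g, hg, e⟩ ⟨g', hg', e'⟩
        exact ⟨g * g', N.mul_mem hg hg', fun a => by rw [act_mul, ← e, ← e']; group⟩
      inv_mem' := by
        rintro v ⟨g, hg, e⟩
        refine ⟨g⁻¹, N.inv_mem hg, fun a => ?_⟩
        have h1 := e (act v⁻¹ a)
        rw [← act_mul, mul_inv_cancel, act_one] at h1
        rw [← h1]; group }
  have hperm : ∀ n : Mk .one, ∀ a, ψ n * j a * (ψ n)⁻¹ = j (act n.1.right a) := fun n a => by
    show ψ n * j₀ (Pf (-c) a) * (ψ n)⁻¹ = j₀ (Pf (-c) (act n.1.right a))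
    rw [hψact, Pf_perm (-c) n.1.right (Or.inl (show n.1.right.left = 1 from n.2))]
  obtain ⟨k, hk⟩ := exists_kind K fun w hw =>
    ⟨ψ ⟨SemidirectProduct.inr w, hw⟩, hCN (hψr ▸ ⟨_, rfl⟩), fun a => hperm _ a⟩
  have hlift : ∀ w : KG k, ∃ g : G, g ∈ N ∧ ∀ a, g * j a * g⁻¹ = j (act w a) := fun w => by
    obtain ⟨g, hg, e⟩ := (hk w).1 w.2
    exact ⟨g, hg, e⟩
  choose lft hlftN hlft using hlift
  have hNJ : ∀ g : G, (∀ a, g * j a * g⁻¹ = j a) → g ∈ N := fun g hg =>
    mem_normalizer_fintype fun y hy => by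
      rw [SetLike.mem_coe, ← hjJ] at hy ⊢
      obtain ⟨a, rfl⟩ := hy
      exact ⟨a, (hg a).symm⟩
  have hkJ : ∀ g : G, (∀ a, g * j a * g⁻¹ = j a) → g ∈ J := by
    intro g hg
    obtain ⟨n, rfl⟩ : g ∈ ψ.range := hxfix g (hNJ g hg) (by rw [← hjx]; exact hg xA)
    have h1 : n.1.right = 1 := act_inj _ fun a => hjinj ((hperm n a).symm.trans (hg a))
    rw [← hψJ]
    exact ⟨n.1.left, congrArg ψ (Subtype.ext (SemidirectProduct.ext rfl h1.symm))⟩
  -- a complement
  have hJN : J ≤ N := Subgroup.le_normalizer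
  set K' : Subgroup N := J.subgroupOf N with hK'
  haveI : K'.Normal := (Subgroup.normal_subgroupOf_iff_le_normalizer hJN).2 le_rfl
  haveI : IsMulCommutative K' :=
    ⟨⟨fun a b => Subtype.ext (Subtype.ext (hcomm _ (mem_subgroupOf.1 a.2) _ (mem_subgroupOf.1 b.2)))⟩⟩
  set U : Subgroup N := NC.subgroupOf N with hU
  have hψN : ∀ n, ψ n ∈ N := fun n => hCN (hψr ▸ ⟨n, rfl⟩)
  let P : Subgroup N := ((inrK .one).range.map ψ).subgroupOf N
  have hcardN : Nat.card N = 27 * Nat.card (KG k) := by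
    rw [← card_A, ← Nat.card_prod]
    refine (Nat.card_congr (Equiv.ofBijective
      (fun p : A × KG k => (⟨j p.1 * lft p.2, N.mul_mem (hJN (hjmem _)) (hlftN _)⟩ : N))
      ⟨?_, ?_⟩)).symm
    · rintro ⟨a, v⟩ ⟨b, w⟩ h
      have h' : j a * lft v = j b * lft w := congrArg Subtype.val h
      have hvw : v = w := Subtype.ext (huni (j a * lft v) v w
        (fun t => by
          rw [show j a * lft v * j t * (j a * lft v)⁻¹ = j a * (lft v * j t * (lft v)⁻¹) * (j a)⁻¹ by group,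
            hlft, ← map_mul, ← map_inv, ← map_mul, mul_comm a, mul_inv_cancel_right])
        (fun t => by
          rw [h', show j b * lft w * j t * (j b * lft w)⁻¹ = j b * (lft w * j t * (lft w)⁻¹) * (j b)⁻¹ by group,
            hlft, ← map_mul, ← map_inv, ← map_mul, mul_comm b, mul_inv_cancel_right]))
      subst hvw
      exact Prod.ext (hjinj (mul_right_cancel h')) rfl
    · rintro ⟨g, hg⟩
      obtain ⟨w, hw⟩ := hjact g hg
      let v : KG k := ⟨w, (hk w).2 ⟨g, hg, hw⟩⟩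
      have : g * (lft v)⁻¹ ∈ J := hkJ _ fun a => by
        have h1 := hlft v (act (w : W)⁻¹ a)
        rw [show ((v : W)) = w from rfl, ← act_mul, mul_inv_cancel, act_one] at h1
        have h2 := hw (act (w : W)⁻¹ a)
        rw [← act_mul, mul_inv_cancel, act_one] at h2
        conv_lhs => rw [← h1]
        conv_rhs => rw [← h2]
        group
      rw [← hjJ] at this
      obtain ⟨a, ha⟩ := this
      exact ⟨(a, v), Subtype.ext (by show j a * lft v = g; rw [ha]; group)⟩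
  have hKU : K' ≤ U := fun g hg => mem_subgroupOf.2 ⟨g.2, hJC (mem_subgroupOf.1 hg)⟩
  have hcardU : Nat.card U = 162 := by
    rw [hU, Nat.card_congr (subgroupOfEquivOfLe hCN).toEquiv, ← hψr,
      ← Nat.card_congr (MonoidHom.ofInjective hψ).toEquiv, ← card_Mk_one, ← Fintype.card_subtype,
      ← Nat.card_eq_fintype_card]
    exact Nat.card_congr (Equiv.subtypeEquivRight fun _ => Iff.rfl)
  have hcop : (Nat.card K').Coprime U.index := by
    rw [hK', Nat.card_congr (subgroupOfEquivOfLe hJN).toEquiv, hJcard]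
    have h1 := U.card_mul_index
    rw [hcardU, hcardN] at h1
    have h2 : Nat.card (KG k) = (Finset.univ.filter fun q : W => inK k q).card := by
      rw [← Fintype.card_subtype, ← Nat.card_eq_fintype_card]
      exact Nat.card_congr (Equiv.subtypeEquivRight fun _ => Iff.rfl)
    obtain ⟨hc1, hc2⟩ := kind_index k
    rw [h2, hc2] at h1
    rwa [show U.index = (Finset.univ.filter fun q : W => inK k q).card / 6 by omega]
  have hPU : P ≤ U := fun g hg => mem_subgroupOf.2 (by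
    obtain ⟨n, -, e⟩ := mem_subgroupOf.1 hg
    rw [← e, ← hψr]; exact ⟨n, rfl⟩)
  have hPK : P ⊓ K' = ⊥ := by
    rw [eq_bot_iff]
    rintro g ⟨hP, hK⟩
    obtain ⟨_, ⟨w, rfl⟩, e⟩ := mem_subgroupOf.1 hP
    replace hK : (g : G) ∈ J := hK
    rw [← hψJ] at hK
    obtain ⟨a, ha⟩ := hK
    have h1 : inrK .one w = inlA .one a := hψ (e.trans ha.symm)
    have h2 : (w : W) = 1 := congrArg (fun m : Mk .one => m.1.right) h1
    refine mem_bot.2 (Subtype.ext ?_)
    rw [← e, show w = 1 from Subtype.ext h2, map_one, map_one]; rfl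
  have hKP : K' ⊔ P = U := by
    refine le_antisymm (sup_le hKU hPU) fun g hg => ?_
    obtain ⟨n, hn⟩ : (g : G) ∈ ψ.range := hψr ▸ mem_subgroupOf.1 hg
    have hJmem : ψ (inlA .one n.1.left) ∈ J := hψJ ▸ ⟨_, rfl⟩
    have e : g = (⟨ψ (inlA .one n.1.left), hψN _⟩ : N) * ⟨ψ (inrK .one ⟨n.1.right, n.2⟩), hψN _⟩ :=
      Subtype.ext (by
        show (g : G) = ψ _ * ψ _
        rw [← map_mul, ← Mk_split, hn])
    rw [e]
    exact mul_mem (mem_sup_left (mem_subgroupOf.2 hJmem))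
      (mem_sup_right (mem_subgroupOf.2 ⟨_, ⟨_, rfl⟩, rfl⟩))
  obtain ⟨H, hH⟩ := Core.gaschutz_exists hKU hcop hPU hPK hKP
  have hsec : ∀ w : KG k, ∃! h : H, ∀ a, ((h : N) : G) * j a * ((h : N) : G)⁻¹ = j (act w a) := by
    intro w
    obtain ⟨⟨⟨t, ht⟩, s⟩, e⟩ := hH.2 ⟨lft w, hlftN w⟩
    have e' : (t : G) * ((s : N) : G) = lft w := congrArg Subtype.val e
    replace ht : (t : G) ∈ J := ht
    refine ⟨s, fun a => ?_, fun s' hs' => ?_⟩
    · have h1 := hlft w a
      rw [← e'] at h1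
      calc ((s : N) : G) * j a * ((s : N) : G)⁻¹ =
          (t : G)⁻¹ * ((t : G) * ((s : N) : G) * j a * ((t : G) * ((s : N) : G))⁻¹) * t := by group
        _ = (t : G)⁻¹ * j (act w a) * t := by rw [h1]
        _ = j (act w a) := by rw [mul_assoc, hcomm _ (hjmem _) _ ht, inv_mul_cancel_left]
    · have h2 : ∀ a, ((s : N) : G) * j a * ((s : N) : G)⁻¹ = j (act w a) := fun a => by
        have h1 := hlft w a
        rw [← e'] at h1
        calc ((s : N) : G) * j a * ((s : N) : G)⁻¹ =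
            (t : G)⁻¹ * ((t : G) * ((s : N) : G) * j a * ((t : G) * ((s : N) : G))⁻¹) * t := by group
          _ = (t : G)⁻¹ * j (act w a) * t := by rw [h1]
          _ = j (act w a) := by rw [mul_assoc, hcomm _ (hjmem _) _ ht, inv_mul_cancel_left]
      have hmem : ((s : N) : G)⁻¹ * ((s' : N) : G) ∈ J := hkJ _ fun a => by
        rw [show ((s : N) : G)⁻¹ * ((s' : N) : G) * j a * (((s : N) : G)⁻¹ * ((s' : N) : G))⁻¹ =
          ((s : N) : G)⁻¹ * (((s' : N) : G) * j a * ((s' : N) : G)⁻¹) * ((s : N) : G) by group, hs', ← h2]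
        group
      have h3 : (s : N)⁻¹ * (s' : N) ∈ K' ⊓ H := ⟨mem_subgroupOf.2 hmem, H.mul_mem (H.inv_mem s.2) s'.2⟩
      rw [disjoint_iff.1 hH.disjoint, mem_bot, inv_mul_eq_one] at h3
      exact Subtype.ext h3.symm
  choose sct hsct hsuni using hsec
  let q : KG k →* G := MonoidHom.mk' (fun w => ((sct w : N) : G)) fun v w => by
    have : sct v * sct w = sct (v * w) := hsuni _ _ fun a => by
      show ((sct v : N) : G) * ((sct w : N) : G) * j a * (((sct v : N) : G) * ((sct w : N) : G))⁻¹ = _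
      rw [show ((sct v : N) : G) * ((sct w : N) : G) * j a * (((sct v : N) : G) * ((sct w : N) : G))⁻¹ =
        ((sct v : N) : G) * (((sct w : N) : G) * j a * ((sct w : N) : G)⁻¹) * ((sct v : N) : G)⁻¹ by group,
        hsct, hsct, ← act_mul]
      rfl
    rw [← this]; rfl
  have hq : ∀ (w : KG k) (a : A), q w * j a * (q w)⁻¹ = j (act w a) := fun w a => hsct w a
  let φ : Mk k →* G := MonoidHom.mk' (fun m => j m.1.left * q ⟨m.1.right, m.2⟩) fun m n => by
    show j (m.1.left * act m.1.right n.1.left) * q (⟨m.1.right, m.2⟩ * ⟨n.1.right, n.2⟩) = _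
    rw [map_mul, map_mul, ← hq ⟨m.1.right, m.2⟩]
    group
  have hφl : ∀ a, φ (inlA k a) = j a := fun a => by
    show j a * q 1 = j a
    rw [map_one, mul_one]
  have hrangeN : φ.range = N := by
    refine le_antisymm ?_ fun g hg => ?_
    · rintro _ ⟨m, rfl⟩
      exact N.mul_mem (hJN (hjmem _)) (sct ⟨m.1.right, m.2⟩).1.2
    · obtain ⟨w, hw⟩ := hjact g hg
      let v : KG k := ⟨w, (hk w).2 ⟨g, hg, hw⟩⟩
      have : g * (q v)⁻¹ ∈ J := hkJ _ fun a => by
        have h1 := hq v (act (w : W)⁻¹ a)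
        rw [show ((v : W)) = w from rfl, ← act_mul, mul_inv_cancel, act_one] at h1
        have h2 := hw (act (w : W)⁻¹ a)
        rw [← act_mul, mul_inv_cancel, act_one] at h2
        conv_lhs => rw [← h1]
        conv_rhs => rw [← h2]
        group
      rw [← hjJ] at this
      obtain ⟨a, ha⟩ := this
      exact ⟨inlA k a * inrK k v, by
        rw [map_mul, hφl, show φ (inrK k v) = q v by show j 1 * q v = q v; rw [map_one, one_mul], ha]
        group⟩
  have hinj : Function.Injective φ := by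
    refine (injective_iff_map_eq_one φ).2 fun m hm => ?_
    have hq1 : q ⟨m.1.right, m.2⟩ = j (m.1.left)⁻¹ := by
      rw [map_inv]; exact eq_inv_of_mul_eq_one_right hm
    have hr : m.1.right = 1 := huni (q ⟨m.1.right, m.2⟩) _ _ (fun a => hq ⟨m.1.right, m.2⟩ a) fun a => by
      rw [hq1, ← map_mul, ← map_inv, ← map_mul, mul_comm _ a, mul_inv_cancel_right, act_one]
    have h1 : j m.1.left = 1 := by
      have e : φ m = 1 := hm
      rwa [show φ m = j m.1.left * q 1 from congrArg (fun w => j m.1.left * q w) (Subtype.ext hr),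
        map_one, mul_one] at e
    exact Subtype.ext (SemidirectProduct.ext (hjinj (h1.trans (map_one j).symm)) hr)
  have hjx' : φ (inlA k xA) = x := by rw [hφl, hjx]; exact hψx
  refine ⟨{ k := k, φ := φ, inj := hinj, norm := ?_, sig := ?_, R := R, cardR := h0.cardR,
            cubeR := h0.cubeR, centerR := ?_, projX := ?_, leR := ?_ }, ?_, hjx'⟩
  · intro g hg
    rw [hrangeN]
    refine mem_normalizer_fintype fun y hy => ?_
    rw [SetLike.mem_coe, ← hjJ] at hy ⊢
    obtain ⟨a, rfl⟩ := hy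
    obtain ⟨b, hb⟩ := hg a
    rw [hφl, hφl] at hb
    exact ⟨b, hb.symm⟩
  · intro L hL hconj
    refine h0.sig L hL fun y hy => ?_
    rw [← hjJ] at hy
    obtain ⟨a, rfl⟩ := hy
    rw [← hφl]
    exact hconj a
  · rw [hjx']; exact h0.centerR
  · rw [hjx']; exact h0.projX
  · rw [hjx']; exact h0.leR
  · refine SetLike.ext fun y => ⟨?_, fun hy => ?_⟩
    · rintro ⟨a, rfl⟩
      exact (hφl a).symm ▸ hjmem a
    · obtain ⟨a, rfl⟩ : y ∈ j.range := hjJ.symm ▸ hy
      exact ⟨a, hφl a⟩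

end Cfsg.Agent.Sp6Local
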