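import Cfsg.Agent.Sp6Local.AutLocal
import Cfsg.Agent.Sp6Local.Lift
import Cfsg.Agent.Sp6Local.FactsProof
import Cfsg.Agent.Core.Gaschutz
import Cfsg.Prelude.Def_Classical

/-!
# The cases by the kind of the automiser
-/

set_option autoImplicit false
set_option synthInstance.maxSize 4000
set_option synthInstance.maxHeartbeats 400000

namespace Cfsg.Agent.Sp6Local

open Cfsg Subgroup Cfsg.Agent.Sym9ThreeLocal

universe u

theorem invert_kind : ∀ k, ∀ w : W, inK k w → act w xA = xA⁻¹ → k = .two ∨ k = .eight := by decide +kernel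

theorem wi_kind : inK .two wi ∧ inK .eight wi ∧ act wi xA = xA⁻¹ := by decide +kernel

/-- The statement in a configuration, given the four recognitions. -/
theorem dispatch {G : Type u} [Group G] [Finite G] (h : Conf G)
    (hone : h.k = .one → ∃ N : Subgroup G, N.Normal ∧ N.index = 3)
    (htwo : h.k = .two → normalizer (zpowers h.x : Set G) = ⊤)
    (hfour : ∀ {H : Type u} [Group H] [Finite H] (h' : Conf H), h'.Facts → h'.k = .four →
      Nonempty (H ≃* Cfsg.PSp 2 (ZMod 3)))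
    (hbig : ∀ hk : h.k = .eight, ¬ centralizer ({h.j e1} : Set G) ≤ h.N →
      Nonempty (G ≃* Matrix.symplecticGroup (Fin 3) (ZMod 2))) :
    ((∀ g : G, g * h.x * g⁻¹ ≠ h.x⁻¹) →
      (∃ N : Subgroup G, N.Normal ∧ N.index = 3) ∨ Nonempty (G ≃* Cfsg.PSp 2 (ZMod 3))) ∧
    ((∃ g : G, g * h.x * g⁻¹ = h.x⁻¹) →
      normalizer (zpowers h.x : Set G) = ⊤ ∨ Nonempty (G ≃* MulAut (Cfsg.PSp 2 (ZMod 3))) ∨
        Nonempty (G ≃* Matrix.symplecticGroup (Fin 3) (ZMod 2))) := by
  have hinv : ∀ hw : inK h.k wi, h.q ⟨wi, hw⟩ * h.x * (h.q ⟨wi, hw⟩)⁻¹ = h.x⁻¹ := fun hw =>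
    (h.conj_j ⟨wi, hw⟩ xA).trans ((congrArg h.j wi_kind.2.2).trans (map_inv h.j xA))
  constructor
  · intro hno
    cases hk : h.k
    · exact Or.inl (hone hk)
    · exact absurd (hinv (hk ▸ wi_kind.1)) (hno _)
    · exact Or.inr (hfour h h.facts hk)
    · exact absurd (hinv (hk ▸ wi_kind.2.1)) (hno _)
  · rintro ⟨g, hg⟩
    obtain ⟨w, hw, hwv⟩ := h.facts.ctrl g xA xA⁻¹ xA_ne (hg.trans (map_inv h.j xA).symm)
    rcases invert_kind h.k w hw hwv with hk | hk
    · exact Or.inl (htwo hk)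
    · right
      by_cases hloc : centralizer ({h.j e1} : Set G) ≤ h.N
      · exact Or.inl (h.aut_of_local_aux hk hloc hfour)
      · exact Or.inr (hbig hk hloc)

/-- The hypotheses in their printed form give the hypotheses on the coordinates. -/
theorem centHyp_of_core {G : Type u} [Group G] [Finite G] (a : G) (ha : orderOf a = 3) (C : Subgroup G)
    (hC : C = centralizer ({a} : Set G)) (hR : Cfsg.IsExtraspecial 3 (Cfsg.pCore 3 C))
    (hRcard : Nat.card (Cfsg.pCore 3 C) = 27) (hRexp : ∀ r ∈ Cfsg.pCore 3 C, r ^ 3 = 1)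
    (e : C ⧸ Cfsg.pCore 3 C ≃* Matrix.SpecialLinearGroup (Fin 2) (ZMod 3))
    (J : Subgroup G) (hJC : J ≤ C) (hJcomm : IsMulCommutative J) (hJexp : ∀ j ∈ J, j ^ 3 = 1)
    (hJcard : Nat.card J = 27)
    (hJsig : ∀ K : Subgroup G, (Nat.card K).Coprime 3 →
      (∀ j ∈ J, K.map (MulAut.conj j).toMonoidHom = K) → K = ⊥) :
    CentHyp a ((Cfsg.pCore 3 C).map C.subtype) J := by
  subst hC
  set C := centralizer ({a} : Set G)
  set R := Cfsg.pCore 3 C
  haveI : Fact (Nat.Prime 3) := ⟨Nat.prime_three⟩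
  set aC : C := ⟨a, mem_centralizer_singleton_iff.2 rfl⟩
  have hca : ∀ g : C, Commute g aC := fun g => Subtype.ext (mem_centralizer_singleton_iff.1 g.2)
  have haR : aC ∈ R := by
    refine le_sSup (s := {N : Subgroup C | N.Normal ∧ IsPGroup 3 N}) ⟨?_, ?_⟩ (mem_zpowers aC)
    · exact ⟨fun y hy d => by
        obtain ⟨i, rfl⟩ := mem_zpowers_iff.1 hy
        rw [((hca d).zpow_right i).eq, mul_inv_cancel_right]
        exact zpow_mem (mem_zpowers _) i⟩
    · exact IsPGroup.of_card (n := 1) (by rw [Nat.card_zpowers, orderOf_mk, ha, pow_one])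
  have hcen : Subgroup.center R = zpowers (⟨aC, haR⟩ : R) := by
    refine (eq_of_le_of_card_ge (zpowers_le.2 (mem_center_iff.2 fun (r : R) =>
      Subtype.ext (show (r : C) * aC = aC * r from (hca (r : C)).eq))) ?_).symm
    rw [hR.2, Nat.card_zpowers, orderOf_mk, orderOf_mk, ha]
  refine ⟨ha, map_subtype_le _, ?_, ?_, ?_, ?_, hJC, fun x hx y hy => congrArg Subtype.val
    (hJcomm.is_comm.comm (⟨x, hx⟩ : J) ⟨y, hy⟩), hJexp, hJcard, hJsig⟩
  · rw [card_map_of_injective C.subtype_injective, hRcard]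
  · rintro _ ⟨r, hr, rfl⟩
    exact congrArg Subtype.val (hRexp r hr)
  · intro r
    constructor
    · rintro ⟨n, rfl⟩
      refine ⟨⟨aC ^ n, zpow_mem haR n, by simp [aC]⟩, ?_⟩
      rintro _ ⟨s, hs, rfl⟩
      exact ((show Commute (s : G) a from mem_centralizer_singleton_iff.1 s.2).zpow_right n).symm.eq
    · rintro ⟨⟨r, hr, rfl⟩, hc⟩
      have hrc : (⟨r, hr⟩ : R) ∈ Subgroup.center R := mem_center_iff.2 fun s =>
        Subtype.ext (Subtype.ext (hc _ ⟨s, s.2, rfl⟩).symm)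
      rw [hcen] at hrc
      obtain ⟨n, hn⟩ := mem_zpowers_iff.1 hrc
      refine mem_zpowers_iff.2 ⟨n, ?_⟩
      have := congrArg (fun x : R => ((x : C) : G)) hn
      simpa [aC] using this
  · refine ⟨e.toMonoidHom.comp (QuotientGroup.mk' R), e.surjective.comp (QuotientGroup.mk'_surjective _),
      fun g => ?_⟩
    show e (QuotientGroup.mk g) = 1 ↔ _
    rw [MulEquiv.map_eq_one_iff, QuotientGroup.eq_one_iff]
    exact ⟨fun hg => ⟨g, hg, rfl⟩, fun ⟨y, hy, e'⟩ => C.subtype_injective e' ▸ hy⟩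

end Cfsg.Agent.Sp6Local
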