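import Cfsg.Agent.Sp6Local.KindLine
import Cfsg.Agent.PSp43Amalgam.CentT
import Cfsg.Agent.PSp43Rec.PSpSide

/-!
The kind four is the projective symplectic group of dimension four over the field with three elements.
-/

set_option autoImplicit false
set_option synthInstance.maxSize 4000
set_option synthInstance.maxHeartbeats 400000

namespace Cfsg.Agent.Sp6Local

open Cfsg Cfsg.Agent Subgroup Cfsg.Agent.Sym9ThreeLocal

universe u

/-- The four lines like the diagonal one. -/
def fourLine : Fin 4 → A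
  | 0 => vec 1 1 1
  | 1 => vec 2 1 1
  | 2 => vec 1 2 1
  | 3 => vec 1 1 2

/-- The image of one of the four lines. -/
def lineIdx (w : W) (i : Fin 4) : Fin 4 :=
  if act w (fourLine i) = fourLine 0 ∨ act w (fourLine i) = (fourLine 0)⁻¹ then 0
  else if act w (fourLine i) = fourLine 1 ∨ act w (fourLine i) = (fourLine 1)⁻¹ then 1
  else if act w (fourLine i) = fourLine 2 ∨ act w (fourLine i) = (fourLine 2)⁻¹ then 2
  else 3

theorem lineIdx_one : ∀ i, lineIdx 1 i = i := by decide +kernel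

theorem lineIdx_mul : ∀ v w : W, ∀ i, lineIdx (v * w) i = lineIdx v (lineIdx w i) := by decide +kernel

/-- The action on the four lines. -/
def lineHom : W →* Equiv.Perm (Fin 4) where
  toFun w :=
    { toFun := lineIdx w
      invFun := lineIdx w⁻¹
      left_inv := fun i => by rw [← lineIdx_mul, inv_mul_cancel, lineIdx_one]
      right_inv := fun i => by rw [← lineIdx_mul, mul_inv_cancel, lineIdx_one] }
  map_one' := Equiv.ext lineIdx_one
  map_mul' v w := Equiv.ext (lineIdx_mul v w)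

theorem lineHom_surj : ∀ p : Equiv.Perm (Fin 4), ∃ w : W, inK .four w ∧ ∀ i, lineIdx w i = p i := by
  decide +kernel

theorem lineHom_ker : ∀ w : W, inK .four w → (∀ i, lineIdx w i = i) → w = 1 := by decide +kernel

theorem sl_normal : ∀ X : PSp43Amalgam.SL3, X ≠ 1 →
    X = -1 ∨ X * X = -1 ∨ X * X * X = -1 ∨
      ∃ Y : PSp43Amalgam.SL3, Y * X * Y⁻¹ * X⁻¹ = -1 ∨ Y * X * Y⁻¹ * X⁻¹ * (Y * X * Y⁻¹ * X⁻¹) = -1 ∨
        Y * X * Y⁻¹ * X⁻¹ * (Y * X * Y⁻¹ * X⁻¹) * (Y * X * Y⁻¹ * X⁻¹) = -1 := by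
  decide +kernel

theorem inK_cast {k k' : Kind} (e : k = k') {w : W} (hw : inK k w) : inK k' w := e ▸ hw

namespace Conf

variable {G : Type u} [Group G] [Finite G] (h : Conf G)

/-- The projection of the normaliser on the symmetric group of the four lines. -/
theorem exists_proj_N (hk : h.k = .four) :
    ∃ f : h.N →* PSp43Amalgam.S4, Function.Surjective f ∧ ∀ a : h.N, f a = 1 ↔ (a : G) ∈ h.J := by
  let e : Mk h.k ≃* h.φ.range := MonoidHom.ofInjective h.inj
  refine ⟨(lineHom.comp ((SemidirectProduct.rightHom : Mf →* W).comp (Mk h.k).subtype)).comp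
    e.symm.toMonoidHom, fun p => ?_, fun a => ?_⟩
  · obtain ⟨w, hw, hwp⟩ := lineHom_surj p
    refine ⟨e (inrK h.k ⟨w, hk ▸ hw⟩), ?_⟩
    show lineHom (((e.symm (e (inrK h.k ⟨w, hk ▸ hw⟩))) : Mk h.k) : Mf).right = p
    rw [MulEquiv.symm_apply_apply]
    exact Equiv.ext hwp
  · obtain ⟨m, rfl⟩ := e.surjective a
    show lineHom ((e.symm (e m) : Mk h.k) : Mf).right = 1 ↔ h.φ m ∈ h.J
    rw [MulEquiv.symm_apply_apply]
    constructor
    · intro hm
      have h1 : (m : Mf).right = 1 :=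
        lineHom_ker _ (inK_cast hk (mem_Mk.1 m.2)) fun i => Equiv.ext_iff.1 hm i
      refine ⟨(m : Mf).left, ?_⟩
      show h.φ (inlA h.k _) = h.φ m
      exact congrArg h.φ (Subtype.ext (SemidirectProduct.ext rfl h1.symm))
    · rintro ⟨c, hc⟩
      have e1 : inlA h.k c = m := h.inj hc
      rw [← e1]
      exact lineHom.map_one

theorem card_N_four (hk : h.k = .four) : Nat.card h.N = 648 := by
  obtain ⟨f, hf, hker⟩ := h.exists_proj_N hk
  have h1 := f.ker.card_mul_index
  rw [show f.ker = h.J.subgroupOf h.N from Subgroup.ext fun a => by rw [MonoidHom.mem_ker, hker, mem_subgroupOf],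
    Nat.card_congr (subgroupOfEquivOfLe h.J_le_N).toEquiv, h.J_card] at h1
  rw [← h1, show h.J.subgroupOf h.N = f.ker from Subgroup.ext fun a => by
      rw [MonoidHom.mem_ker, hker, mem_subgroupOf],
    index_ker, MonoidHom.range_eq_top.2 hf, card_top, Nat.card_perm, Nat.card_fin]
  rfl

/-- The given centraliser acts faithfully on the extraspecial subgroup modulo its centre. -/
theorem nat_x (a : G) (ha : a ∈ centralizer ({h.x} : Set G)) :
    a ∈ h.R ↔ ∀ r ∈ h.R, a * r * a⁻¹ * r⁻¹ ∈ zpowers h.x := by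
  refine ⟨fun h1 r hr => h.R_commutator h1 hr, fun hK => ?_⟩
  set C := centralizer ({h.x} : Set G) with hC
  let K : Subgroup C :=
    { carrier := {b | ∀ r ∈ h.R, (b : G) * r * (b : G)⁻¹ * r⁻¹ ∈ zpowers h.x}
      one_mem' := fun r _ => by simp
      mul_mem' := fun {b c} hb hc r hr => by
        obtain ⟨n, hn⟩ := mem_zpowers_iff.1 (hc r hr)
        have hbx : Commute (b : G) h.x := mem_centralizer_singleton_iff.1 b.2
        have e : (b : G) * ((c : G) * r * (c : G)⁻¹ * r⁻¹) * (b : G)⁻¹ = (c : G) * r * (c : G)⁻¹ * r⁻¹ := by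
          rw [← hn, (hbx.zpow_right n).eq, mul_inv_cancel_right]
        rw [show ((b * c : C) : G) * r * ((b * c : C) : G)⁻¹ * r⁻¹ =
          (b : G) * ((c : G) * r * (c : G)⁻¹ * r⁻¹) * (b : G)⁻¹ * ((b : G) * r * (b : G)⁻¹ * r⁻¹) by
            push_cast; group, e]
        exact mul_mem (hc r hr) (hb r hr)
      inv_mem' := fun {b} hb r hr => by
        obtain ⟨n, hn⟩ := mem_zpowers_iff.1 (inv_mem (hb r hr))
        have hbx : Commute ((b : G)⁻¹) h.x := (Commute.inv_left (mem_centralizer_singleton_iff.1 b.2))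
        rw [show ((b⁻¹ : C) : G) * r * ((b⁻¹ : C) : G)⁻¹ * r⁻¹ =
          (b : G)⁻¹ * ((b : G) * r * (b : G)⁻¹ * r⁻¹)⁻¹ * ((b : G)⁻¹)⁻¹ by push_cast; group, ← hn,
          (hbx.zpow_right n).eq, mul_inv_cancel_right]
        exact zpow_mem (mem_zpowers _) n }
  have hR : ∀ b : C, (b : G) ∈ h.R → b ∈ K := fun b hb r hr => h.R_commutator hb hr
  have hconj : ∀ c : C, ∀ b ∈ K, c * b * c⁻¹ ∈ K := by
    intro c b hb r hr
    have hcx : Commute (c : G) h.x := mem_centralizer_singleton_iff.1 c.2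
    have hr' : (c : G)⁻¹ * r * (c : G) ∈ h.R := by
      simpa using h.R_normal (hcx.inv_left).eq hr
    obtain ⟨n, hn⟩ := mem_zpowers_iff.1 (hb _ hr')
    rw [show ((c * b * c⁻¹ : C) : G) * r * ((c * b * c⁻¹ : C) : G)⁻¹ * r⁻¹ =
      (c : G) * ((b : G) * ((c : G)⁻¹ * r * c) * (b : G)⁻¹ * ((c : G)⁻¹ * r * c)⁻¹) * (c : G)⁻¹ by
        push_cast; group, ← hn, (hcx.zpow_right n).eq, mul_inv_cancel_right]
    exact zpow_mem (mem_zpowers _) n
  obtain ⟨f, hfs, hf⟩ := h.projX'
  by_contra haR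
  have haK : (⟨a, ha⟩ : C) ∈ K := hK
  obtain ⟨b, hb, hfb⟩ : ∃ b ∈ K, f b = -1 := by
    rcases sl_normal (f ⟨a, ha⟩) fun e => haR ((hf _).1 e) with e | e | e | ⟨Y, e⟩
    · exact ⟨_, haK, e⟩
    · exact ⟨_, mul_mem haK haK, by rw [map_mul, e]⟩
    · exact ⟨_, mul_mem (mul_mem haK haK) haK, by rw [map_mul, map_mul, e]⟩
    · obtain ⟨y, rfl⟩ := hfs Y
      have hd : y * ⟨a, ha⟩ * y⁻¹ * (⟨a, ha⟩ : C)⁻¹ ∈ K := mul_mem (hconj y _ haK) (inv_mem haK)
      rcases e with e | e | e
      · exact ⟨_, hd, by simp only [map_mul, map_inv, e]⟩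
      · exact ⟨_, mul_mem hd hd, by simp only [map_mul, map_inv, e]⟩
      · exact ⟨_, mul_mem (mul_mem hd hd) hd, by simp only [map_mul, map_inv, e]⟩
  have hft : f ⟨h.tau, h.tau_mem_cent⟩ = -1 := by
    refine Subtype.ext ((PSp43Amalgam.sl_invol _ (by
      rw [← map_mul, show (⟨h.tau, h.tau_mem_cent⟩ : C) * ⟨h.tau, h.tau_mem_cent⟩ = 1 from Subtype.ext h.tau_mul_self,
        map_one]) fun e => ?_).trans (by rfl))
    have h3 := h.cubeR _ ((hf _).1 e)
    rw [pow_succ, pow_two, h.tau_mul_self, one_mul] at h3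
    exact h.tau_ne_one h3
  have hd : (b⁻¹ * ⟨h.tau, h.tau_mem_cent⟩ : C) ∈ K :=
    hR _ ((hf _).1 (by rw [map_mul, map_inv, hfb, hft, inv_mul_cancel]))
  have hτ : (⟨h.tau, h.tau_mem_cent⟩ : C) ∈ K := by simpa using mul_mem hb hd
  have hz := hτ _ h.R_gens.1
  rw [show ((⟨h.tau, h.tau_mem_cent⟩ : C) : G) = h.tau from rfl, h.tau_conj, line_model.2.2.2.1,
    ← map_inv, ← map_mul, show vz⁻¹ * vz⁻¹ = vz by decide +kernel] at hz
  obtain ⟨n, hn⟩ := mem_zpowers_iff.1 hz
  rw [← map_zpow] at hn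
  exact vz_notMem (mem_zpowers_iff.2 ⟨n, h.j_inj hn⟩)

/-- The kind four. -/
theorem psp_of_four (F : h.Facts) (hk : h.k = .four) : Nonempty (G ≃* Cfsg.PSp 2 (ZMod 3)) := by
  classical
  haveI : Fact (Nat.Prime 3) := ⟨Nat.prime_three⟩
  haveI : Fact (Nat.Prime 2) := ⟨Nat.prime_two⟩
  have hidx : ∀ A : Subgroup G, h.N ⊓ centralizer ({h.x} : Set G) ≤ A → Nat.card A = 648 →
      ¬ 3 ∣ ((h.N ⊓ centralizer ({h.x} : Set G)).subgroupOf A).index := by
    intro A hle hA hd
    have h1 := ((h.N ⊓ centralizer ({h.x} : Set G)).subgroupOf A).card_mul_index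
    rw [Nat.card_congr (subgroupOfEquivOfLe hle).toEquiv, F.card_x_inf, hA] at h1
    omega
  have B : PSp43Amalgam.Base h.N (centralizer ({h.x} : Set G)) h.J h.R (zpowers h.x) :=
    { syl₁ := hidx _ inf_le_left (h.card_N_four hk)
      syl₂ := hidx _ inf_le_right F.card_x
      le₁ := h.J_le_N
      le₂ := h.leR'
      comm₁ := h.J_comm
      cube₁ := h.J_cube
      card₁ := h.J_card
      card₂ := h.cardR
      proj₁ := h.exists_proj_N hk
      proj₂ := h.projX'
      faith := fun a _ hc => h.cent_J fun b => hc _ (h.j_mem b)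
      cardZ := by rw [Nat.card_zpowers, h.order_j xA_ne]
      memZ := h.centerR'
      nat := h.nat_x
      nor₁ := h.N_eq.symm
      nor₂ := h.norm_x_eq F (Or.inr hk)
      sig := fun K hK hn => h.sig K hK fun a =>
        mem_normalizer_iff_map_conj_eq.1 (hn (h.j_mem a)) }
  obtain ⟨ψ, z, t, s, g, e, p, C⟩ := B.exists_coord
  obtain ⟨F₁⟩ := C.exists_frame B
  have hG : ∀ H : Subgroup G, H.index ≠ 2 := by
    intro H hH
    haveI := Subgroup.normal_of_index_eq_two hH
    have hsq : ∀ a : G, a * a ∈ H := Subgroup.mul_self_mem_of_index_two hH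
    have h3 : ∀ q : G, q ^ 3 = 1 → q ∈ H := fun q hq => by
      have h1 := hsq (q * q)
      rwa [show q * q * (q * q) = q ^ 3 * q by simp only [pow_succ, pow_zero, one_mul, mul_assoc],
        hq, one_mul] at h1
    have hA₂ : centralizer ({h.x} : Set G) ≤ H :=
      B.le_of_squares H (fun q hq => h3 q (h.cubeR q hq)) fun a _ => hsq a
    obtain ⟨P, hP⟩ := h.S_isPGroup.exists_le_sylow
    have hPS : (P : Subgroup G) = h.S := by
      obtain ⟨k, hk'⟩ := F.sylow (P : Subgroup G) P.2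
      refine (eq_of_le_of_card_ge hP ?_).symm
      refine Nat.card_le_card_of_injective (fun y : (P : Subgroup G) => (⟨k * y * k⁻¹, hk' y y.2⟩ : h.S))
        fun a b e => Subtype.ext (mul_left_cancel (mul_right_cancel (congrArg Subtype.val e)))
    have hSH : (P : Subgroup G) ≤ H := hPS ▸ h.S_le_cent.trans hA₂
    have htop := Sylow.normalizer_sup_eq_top' P hSH
    have hnorm : normalizer ((P : Subgroup G) : Set G) ≤ H := by
      refine le_trans ?_ hA₂
      intro k hk'
      rw [hPS] at hk'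
      rw [← h.norm_x_eq F (Or.inr hk)]
      have hxk : k * h.x * k⁻¹ ∈ zpowers h.x := by
        refine h.S_center _ ((mem_normalizer_iff.1 hk' _).1 (h.J_le_S (h.j_mem _))) fun r hr => ?_
        have hr' : k⁻¹ * r * k ∈ h.S := by
          refine (mem_normalizer_iff.1 hk' _).2 ?_
          rwa [show k * (k⁻¹ * r * k) * k⁻¹ = r by group]
        calc k * h.x * k⁻¹ * r = k * (h.x * (k⁻¹ * r * k)) * k⁻¹ := by group
          _ = k * ((k⁻¹ * r * k) * h.x) * k⁻¹ := by rw [mem_centralizer_singleton_iff.1 (h.S_le_cent hr')]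
          _ = r * (k * h.x * k⁻¹) := by group
      rw [h.mem_norm_x]
      rcases A9ThreeLocal.zpowers_three_cases h.x_cube hxk with e | e | e
      · exact absurd (conj_eq_one_iff.1 e) h.x_ne
      · exact Or.inl e
      · exact Or.inr e
    have hH' : H = ⊤ := top_unique (htop.symm.le.trans (sup_le hnorm le_rfl))
    rw [hH', Subgroup.index_top] at hH
    norm_num at hH
  have : IsSimpleGroup (Cfsg.PSp 2 (ZMod 3)) :=
    Classical.isSimpleGroup_psp le_rfl fun _ => by simp
  have hbig : 2 < Nat.card (Cfsg.PSp 2 (ZMod 3)) := by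
    have := Subgroup.card_le_card_group
      (Subgroup.centralizer ({PSp43Rec.codePSp 24} : Set (Cfsg.PSp 2 (ZMod 3))))
    rw [PSp43Rec.pspFrame.card_centralizer] at this
    omega
  exact PSp43Rec.unique hG (PSp43Rec.no_index_two_of_simple hbig) F₁ PSp43Rec.pspFrame

end Conf

end Cfsg.Agent.Sp6Local
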