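import Cfsg.Agent.Sp6Local.CentTwoSection
import Cfsg.Agent.Coprime.Generation
import Cfsg.Agent.Core.Solvable
import Cfsg.Agent.SelfCentThree.Small
import Cfsg.Agent.SmallOrder.Order168
import Cfsg.Agent.S3331

/-!
# The two fours commute, and the three local subgroups generate
-/

set_option autoImplicit false

namespace Cfsg.Agent.Sp6Local

open Subgroup

universe u

theorem orderOf_image_dvd {X Y : Type u} [Group X] [Group Y] (f : X →* Y) (x : X) :
    orderOf (f x) ∣ orderOf x := orderOf_map_dvd f x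

theorem fix_seven : ∀ a b : ZMod 7, a ^ 3 = 1 → b ^ 3 = 1 →
    a = 1 ∨ b = 1 ∨ a * b = 1 ∨ a * (b * b) = 1 := by decide

namespace CentTwo

variable {X : Type u} [Group X] [Finite X] {d : CentTwoData X} (hd : CentTwo d)
include hd

/-- The fixed elements of an element of the Sylow subgroup on a normal section are small. -/
theorem no_fixed {M P : Subgroup X} [P.Normal] (hcop : (Nat.card P).Coprime 3) (hPM : P ≤ M)
    (hC : ∀ g ∈ M, g * d.u = d.u * g → g ∈ zpowers d.u) {w : X} (hw : w ∈ W d) (hw1 : w ≠ 1)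
    {m : X} (hm : m ∈ M) {p : ℕ} (hp : p.Prime) (h2 : p ≠ 2) (h3 : p ≠ 3)
    (ho : orderOf (QuotientGroup.mk' P m) = p)
    (hfix : QuotientGroup.mk' P (w * m * w⁻¹) = QuotientGroup.mk' P m) : False := by
  set q := QuotientGroup.mk' P with hq
  set A := zpowers w with hA
  have hA3 : Nat.card A = 3 := by
    have : Fact (Nat.Prime 3) := ⟨Nat.prime_three⟩
    rw [hA, Nat.card_zpowers, orderOf_eq_prime (hd.W_cube hw) hw1]
  have hAW : A ≤ W d := zpowers_le.2 hw
  have hsol : Group.IsSolvable A := by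
    have : IsMulCommutative A := ⟨⟨fun a b => Subtype.ext (hd.W_comm (hAW a.2) (hAW b.2)).eq⟩⟩
    exact Group.isSolvable_of_comm fun a b => this.is_comm.comm a b
  obtain ⟨n, hn, hc⟩ := Coprime.exists_fixed_mem_leftCoset (A := A) (N := P)
    le_normalizer_of_normal (by rw [hA3]; exact hcop.symm) (Or.inl hsol) (k := m) (fun a ha => by
      obtain ⟨i, rfl⟩ := pow_of_mem_zpowers (hd.W_cube hw) ha
      rw [← QuotientGroup.eq_one_iff, ← QuotientGroup.mk'_apply, ← hq, map_mul, map_inv, inv_mul_eq_one]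
      have key : ∀ i : ℕ, q (w ^ i * m * (w ^ i)⁻¹) = q m := by
        intro i
        induction i with
        | zero => simp
        | succ i ih =>
          rw [show w ^ (i + 1) * m * (w ^ (i + 1))⁻¹ = w * (w ^ i * m * (w ^ i)⁻¹) * w⁻¹ by
            rw [pow_succ']; group, map_mul, map_mul, ih, ← map_mul, ← map_mul, hfix]
      exact (key i).symm)
  have hdvd : p ∣ orderOf (m * n) := by
    have h : q (m * n) = q m := by
      rw [map_mul, show q n = 1 from (QuotientGroup.eq_one_iff n).2 hn, mul_one]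
    rw [← ho, ← h]
    exact orderOf_image_dvd q _
  have hmw : m * n ∈ centralizer ({w} : Set X) := by
    rw [mem_centralizer_iff] at hc
    exact mem_centralizer_singleton_iff.2 (hc w (mem_zpowers w)).symm
  by_cases hu : w ∈ zpowers d.u
  · have hcu : m * n * d.u = d.u * (m * n) := by
      obtain ⟨i, rfl⟩ := pow_of_mem_zpowers hd.u3 hu
      have h := (show Commute (m * n) (d.u ^ i) from mem_centralizer_singleton_iff.1 hmw)
      rw [pow_eq_pow_mod i hd.u3] at h hw1
      have hi : i % 3 < 3 := Nat.mod_lt _ (by norm_num)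
      interval_cases hm' : i % 3
      · exact absurd (pow_zero _) hw1
      · rw [pow_one] at h; exact h.eq
      · have h' := h.pow_right 2
        rw [← pow_mul, pow_two_two d.u hd.u3] at h'
        exact h'.eq
    obtain ⟨j, hj⟩ := pow_of_mem_zpowers hd.u3 (hC _ (M.mul_mem hm (hPM hn)) hcu)
    have : orderOf (m * n) ∣ 3 := orderOf_dvd_of_pow_eq_one (by
      rw [hj, ← pow_mul, mul_comm, pow_mul, hd.u3, one_pow])
    exact h3 ((Nat.prime_dvd_prime_iff_eq hp Nat.prime_three).1 (hdvd.trans this))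
  · have hdc : orderOf (m * n) ∣ 2 ^ 3 * 3 ^ 2 := by
      refine (Subgroup.orderOf_dvd_natCard _ hmw).trans ?_
      rcases hd.card_cent_W hw hu with e | e <;> rw [e] <;> norm_num
    rcases hp.dvd_mul.1 (hdvd.trans hdc) with h | h
    · exact h2 ((Nat.prime_dvd_prime_iff_eq hp Nat.prime_two).1 (hp.dvd_of_dvd_pow h))
    · exact h3 ((Nat.prime_dvd_prime_iff_eq hp Nat.prime_three).1 (hp.dvd_of_dvd_pow h))

/-- The action on a normal section. -/
def sectionAct (M P : Subgroup X) [M.Normal] [P.Normal] (_hd : CentTwo d) :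
    W d →* MulAut (M.map (QuotientGroup.mk' P)) :=
  have : (M.map (QuotientGroup.mk' P)).Normal :=
    Subgroup.Normal.map inferInstance _ (QuotientGroup.mk'_surjective P)
  (MulAut.conjNormal (H := M.map (QuotientGroup.mk' P))).comp ((QuotientGroup.mk' P).comp (W d).subtype)

theorem no_simple {M P : Subgroup X} [M.Normal] [P.Normal] (hcop : (Nat.card P).Coprime 3)
    (hPM : P ≤ M) (hC : ∀ g ∈ M, g * d.u = d.u * g → g ∈ zpowers d.u)
    [IsSimpleGroup (M.map (QuotientGroup.mk' P))]
    (hcard : Nat.card (M.map (QuotientGroup.mk' P)) = 60 ∨ Nat.card (M.map (QuotientGroup.mk' P)) = 168) :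
    False := by
  set Q := M.map (QuotientGroup.mk' P) with hQ
  have hQn : Q.Normal := Subgroup.Normal.map inferInstance _ (QuotientGroup.mk'_surjective P)
  set φ := sectionAct M P hd with hφ
  have hval : ∀ (w : W d) (g : Q),
      ((φ w g : Q) : X ⧸ P) = QuotientGroup.mk' P w * (g : X ⧸ P) * (QuotientGroup.mk' P w)⁻¹ :=
    fun w g => rfl
  have stop : ∀ (w : W d) (g : Q) (p : ℕ), (w : X) ≠ 1 → p.Prime → p ≠ 2 → p ≠ 3 → orderOf g = p →
      φ w g = g → False := by
    intro w g p hw1 hp h2 h3 hg hfix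
    obtain ⟨m, hm, hmg⟩ := g.2
    refine hd.no_fixed hcop hPM hC w.2 hw1 hm hp h2 h3 ?_ ?_
    · rw [hmg, ← hg, Subgroup.orderOf_coe]
    · rw [map_mul, map_mul, map_inv, hmg, ← hval, hfix]
  have hna : ¬ IsMulCommutative Q := fun hc => by
    letI : CommGroup Q := { (inferInstance : Group Q) with mul_comm := hc.is_comm.comm }
    have := IsSimpleGroup.prime_card (α := Q)
    rcases hcard with e | e <;> rw [e] at this <;> norm_num at this
  rcases hcard with h60 | h168
  · have : Fact (Nat.Prime 2) := ⟨Nat.prime_two⟩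
    obtain ⟨T⟩ := (inferInstance : Nonempty (Sylow 2 Q))
    obtain ⟨hK, hrel⟩ := S0992.result hna (by rw [h60]; decide) (by rw [h60]; norm_num) T
    have : IsMulCommutative (T : Subgroup Q) := by
      have := hK.exponent_two
      exact ⟨⟨mul_comm_of_exponent_two this⟩⟩
    have hTC : (T : Subgroup Q) ≤ centralizer ((T : Subgroup Q) : Set Q) := le_centralizer _
    have h12 : 12 ∣ Nat.card (normalizer ((T : Subgroup Q) : Set Q)) := by
      have h := card_dvd_of_le hTC
      rw [hK.card_four] at h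
      have hle : centralizer ((T : Subgroup Q) : Set Q) ≤ normalizer ((T : Subgroup Q) : Set Q) :=
        centralizer_le_normalizer _
      have h' := card_mul_index ((centralizer ((T : Subgroup Q) : Set Q)).subgroupOf
        (normalizer ((T : Subgroup Q) : Set Q)))
      rw [show ((centralizer ((T : Subgroup Q) : Set Q)).subgroupOf
        (normalizer ((T : Subgroup Q) : Set Q))).index = 3 from hrel,
        Nat.card_congr (subgroupOfEquivOfLe hle).toEquiv] at h'
      rw [← h']
      exact Nat.mul_dvd_mul_right h 3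
    have hn : Nat.card (Sylow 2 Q) = 5 := by
      have h1 := card_mul_index (normalizer ((T : Subgroup Q) : Set Q))
      rw [h60] at h1
      have h5 : Nat.card (Sylow 2 Q) ∣ 5 := by
        rw [Sylow.card_eq_index_normalizer T]
        obtain ⟨k, hk⟩ := h12
        rw [hk, mul_assoc] at h1
        exact ⟨k, by rw [mul_comm]; exact (Nat.eq_of_mul_eq_mul_left (by norm_num)
          (show 12 * (k * _) = 12 * 5 from h1)).symm⟩
      refine ((Nat.dvd_prime (by norm_num)).1 h5).resolve_left fun e => ?_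
      rw [Sylow.card_eq_index_normalizer T, index_eq_one] at e
      rcases (normalizer_eq_top_iff.1 e).eq_bot_or_eq_top with e' | e'
      · have := hK.card_four; rw [e', card_bot] at this; norm_num at this
      · have := hK.card_four; rw [e', card_top, h60] at this; norm_num at this
    let Φ : W d →* Equiv.Perm (Sylow 2 Q) :=
      (MulAction.toPermHom (MulAut Q) (Sylow 2 Q)).comp φ
    have hker : ∃ w : W d, w ≠ 1 ∧ Φ w = 1 := by
      by_contra hcon
      push Not at hcon
      have hinj : Function.Injective Φ := (MonoidHom.ker_eq_bot_iff Φ).1 (eq_bot_iff.2 fun w hw =>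
        mem_bot.2 (by_contra fun h => hcon w h hw))
      have hdvd : Nat.card (W d) ∣ 120 := by
        have := card_dvd_of_injective Φ hinj
        rwa [Nat.card_perm, hn] at this
      obtain ⟨j, hj⟩ := (IsPGroup.iff_card (p := 3)).1 hd.W_isPGroup
      have hlt : Nat.card (zpowers d.e) < Nat.card (W d) := by
        refine lt_of_le_of_ne (card_le_of_le le_sup_left) fun e => hd.indep ?_
        rw [eq_of_le_of_card_ge (le_sup_left : zpowers d.e ≤ W d) e.ge]
        exact u_mem
      rw [Nat.card_zpowers, hd.he, hj] at hlt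
      rw [hj] at hdvd
      have : 2 ≤ j := by
        by_contra hlt'
        interval_cases j <;> norm_num at hlt
      have h9 : (3 : ℕ) ^ 2 ∣ 120 := (pow_dvd_pow 3 this).trans hdvd
      norm_num at h9
    obtain ⟨w, hw1, hwker⟩ := hker
    have hall : ∀ S : Sylow 2 Q, φ w • S = S := fun S => congrFun (congrArg DFunLike.coe hwker) S
    have hfaith : (MulAction.toPermHom Q (Sylow 2 Q)).ker = ⊥ := by
      refine (MonoidHom.normal_ker _).eq_bot_or_eq_top.resolve_right fun e => ?_
      have h1 : ∀ S : Sylow 2 Q, S = T := fun S => by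
        obtain ⟨g, hg⟩ := MulAction.exists_smul_eq Q T S
        rw [← hg]
        exact congrFun (congrArg DFunLike.coe (MonoidHom.mem_ker.1 (e ▸ mem_top g))) T
      have : Subsingleton (Sylow 2 Q) := ⟨fun a b => (h1 a).trans (h1 b).symm⟩
      rw [Nat.card_of_subsingleton T] at hn
      norm_num at hn
    have : Fact (Nat.Prime 5) := ⟨by norm_num⟩
    obtain ⟨g, hg⟩ := exists_prime_orderOf_dvd_card' (G := Q) 5 (by rw [h60]; norm_num)
    refine stop w g 5 (fun e => hw1 (Subtype.ext e)) (by norm_num) (by norm_num) (by norm_num) hg ?_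
    have hmem : (φ w g)⁻¹ * g ∈ (MulAction.toPermHom Q (Sylow 2 Q)).ker := by
      rw [MonoidHom.mem_ker]
      refine Equiv.ext fun S => ?_
      rw [map_mul, map_inv, Equiv.Perm.mul_apply, Equiv.Perm.one_apply, Equiv.Perm.inv_eq_iff_eq]
      show g • S = φ w g • S
      have key : φ w * MulAut.conj g = MulAut.conj (φ w g) * φ w := MulEquiv.ext fun a => by simp
      rw [Sylow.smul_def, Sylow.smul_def]
      calc MulAut.conj g • S = φ w • (MulAut.conj g • S) := (hall _).symm
        _ = MulAut.conj (φ w g) • S := by rw [← mul_smul, key, mul_smul, hall]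
    rw [hfaith, mem_bot, inv_mul_eq_one] at hmem
    exact hmem
  · have : Fact (Nat.Prime 7) := ⟨by norm_num⟩
    have : Fact (Nat.Prime 3) := ⟨Nat.prime_three⟩
    obtain ⟨h8, hP7⟩ := SmallOrder.Order168.sylow_seven (G := Q) h168
    letI : MulAction (W d) (Sylow 7 Q) := MulAction.compHom _ φ
    obtain ⟨S, hS⟩ := hd.W_isPGroup.nonempty_fixed_point_of_prime_not_dvd_card (Sylow 7 Q)
      (by rw [h8]; norm_num)
    obtain ⟨g, hg⟩ := exists_prime_orderOf_dvd_card' (G := (S : Subgroup Q)) 7 (by rw [(hP7 S).1])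
    have hgen : zpowers (g : Q) = (S : Subgroup Q) := eq_of_le_of_card_ge (zpowers_le.2 g.2)
      (by rw [Nat.card_zpowers, Subgroup.orderOf_coe, hg, (hP7 S).1])
    have hg7 : orderOf (g : Q) = 7 := by rw [Subgroup.orderOf_coe, hg]
    have hpow : ∀ w : W d, ∃ k : ℕ, φ w g = (g : Q) ^ k ∧ ((k : ZMod 7)) ^ 3 = 1 := by
      intro w
      have hmem : φ w g ∈ (S : Subgroup Q) := by
        have e : φ w • S = S := hS w
        have h' : φ w g ∈ ((φ w • S : Sylow 7 Q) : Subgroup Q) := ⟨g, g.2, rfl⟩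
        exact (SetLike.ext_iff.1 (congrArg Sylow.toSubgroup e) _).1 h'
      obtain ⟨k, hk⟩ := (mem_powers_iff_mem_zpowers).2 ((SetLike.ext_iff.1 hgen _).2 hmem)
      have hk' : φ w g = (g : Q) ^ k := hk.symm
      refine ⟨k, hk', ?_⟩
      have h3 : φ (w ^ 3) g = (g : Q) ^ (k ^ 3) := by
        rw [map_pow, show (φ w ^ 3) g = φ w (φ w (φ w g)) from rfl, hk', map_pow, hk', map_pow, map_pow,
          hk', ← pow_mul, ← pow_mul]
        ring_nf
      rw [show w ^ 3 = 1 from Subtype.ext (hd.W_cube w.2), map_one, MulAut.one_apply] at h3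
      nth_rw 1 [← pow_one (g : Q)] at h3
      have h4 := (pow_eq_pow_iff_modEq.1 h3)
      rw [hg7, ← ZMod.natCast_eq_natCast_iff, Nat.cast_pow, Nat.cast_one] at h4
      exact h4.symm
    let we : W d := ⟨d.e, e_mem⟩
    let wu : W d := ⟨d.u, u_mem⟩
    obtain ⟨a, ha, ha3⟩ := hpow we
    obtain ⟨b, hb, hb3⟩ := hpow wu
    have fin : ∀ (w : W d) (c : ℕ), φ w g = (g : Q) ^ c → (c : ZMod 7) = 1 → (w : X) ≠ 1 → False := by
      intro w c hc h1 hw1
      refine stop w g 7 hw1 (by norm_num) (by norm_num) (by norm_num) hg7 ?_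
      rw [hc]
      conv_rhs => rw [← pow_one (g : Q)]
      rw [pow_eq_pow_iff_modEq, hg7, ← ZMod.natCast_eq_natCast_iff, Nat.cast_one]
      exact h1
    rcases fix_seven a b ha3 hb3 with h | h | h | h
    · exact fin we a ha h hd.e_ne
    · exact fin wu b hb h hd.u_ne
    · refine fin (we * wu) (a * b) ?_ (by simpa using h) fun e => hd.eu_not_u ?_
      · rw [map_mul, MulAut.mul_apply, hb, map_pow, ha, ← pow_mul]
      · rw [show d.e * d.u = 1 from e]; exact one_mem _
    · refine fin (we * (wu * wu)) (a * (b * b)) ?_ (by simpa using h) fun e => hd.e_not_u ?_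
      · rw [map_mul, map_mul, MulAut.mul_apply, MulAut.mul_apply, hb, map_pow, hb, ← pow_mul,
          map_pow, ha, ← pow_mul]
      · rw [eq_inv_of_mul_eq_one_left (show d.e * (d.u * d.u) = 1 from e)]
        exact inv_mem (mul_mem (mem_zpowers _) (mem_zpowers _))

/-- The two normal subgroups. -/
theorem exists_core : ∃ M P : Subgroup X, M.Normal ∧ P.Normal ∧ P ≤ M ∧ d.u ∈ M ∧ d.s ∈ M ∧
    Group.IsNilpotent P ∧ (Nat.card P).Coprime 3 ∧ (∀ g ∈ M, g * d.u = d.u * g → g ∈ zpowers d.u) ∧
    (∀ v a, a ∈ M → v = a * d.u * a⁻¹ * d.u⁻¹ → v * v = 1 → v ∈ P) ∧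
    M ≤ P ⊔ (zpowers d.u ⊔ zpowers d.s) ∧
    (∀ g : X, ∃ m ∈ M, m * g * d.u = d.u * (m * g) ∨ d.s * (m * g) * d.u = d.u * (d.s * (m * g))) := by
  obtain ⟨M, hM, hs, he⟩ := hd.exists_kernel
  have hu : d.u ∈ M := by
    have h1 : d.s * (d.u * d.s * d.u⁻¹) ∈ M := M.mul_mem hs (hM.conj_mem _ hs d.u)
    rw [show d.s * (d.u * d.s * d.u⁻¹) = d.s * d.u * d.s * d.u⁻¹ by group, hd.su, ← mul_inv_rev] at h1
    have h2 := inv_mem_iff.1 h1
    have h3 := pow_mem h2 2
    rwa [← sq, ← pow_mul, pow_two_two d.u hd.u3] at h3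
  have hr : d.r ∉ M := fun h => by
    have h1 : d.r * (d.e * d.r * d.e⁻¹) ∈ M := M.mul_mem h (hM.conj_mem _ h d.e)
    rw [show d.r * (d.e * d.r * d.e⁻¹) = d.r * d.e * d.r * d.e⁻¹ by group, hd.re, ← mul_inv_rev] at h1
    have h2 := pow_mem (inv_mem_iff.1 h1) 2
    rw [← sq, ← pow_mul, pow_two_two d.e hd.e3] at h2
    exact he h2
  have hC : ∀ g ∈ M, g * d.u = d.u * g → g ∈ zpowers d.u := by
    intro g hg hgu
    obtain ⟨i, j, k, rfl⟩ := hd.cent_u g hgu
    have hek : d.e ^ i * d.r ^ (k : ℕ) ∈ M := by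
      have hc : Commute (d.u ^ j) (d.r ^ (k : ℕ)) :=
        (show Commute d.r d.u from hd.ru).symm.pow_pow _ _
      rw [mul_assoc, hc.eq, ← mul_assoc] at hg
      exact (M.mul_mem_cancel_right (pow_mem hu j)).1 hg
    fin_cases k
    · simp only [pow_zero, mul_one] at hek ⊢
      have hi : i % 3 = 0 := by
        rw [pow_eq_pow_mod i hd.e3] at hek
        have := Nat.mod_lt i (show 0 < 3 by norm_num)
        interval_cases h : i % 3
        · rfl
        · exact absurd (by simpa using hek) he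
        · refine absurd ?_ he
          have := pow_mem hek 2
          rwa [← pow_mul, pow_two_two d.e hd.e3] at this
      rw [pow_eq_pow_mod i hd.e3, hi, pow_zero, one_mul]
      exact pow_mem (mem_zpowers _) j
    · exfalso
      simp only [pow_one] at hek
      refine hr ?_
      have h2 := hM.conj_mem _ hek (d.e ^ i)
      have e : d.e ^ i * (d.e ^ i * d.r) * (d.e ^ i)⁻¹ = d.e ^ (i + i + i) * d.r := by
        have h3 : d.r * (d.e ^ i)⁻¹ = d.e ^ i * d.r := by
          have h4 := conj_pow (i := i) (a := d.r) (b := d.e)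
          rw [hd.r_inv, hd.re, inv_pow] at h4
          calc d.r * (d.e ^ i)⁻¹ = d.r * (d.r * d.e ^ i * d.r) := by rw [← h4]
            _ = d.r * d.r * (d.e ^ i * d.r) := by group
            _ = d.e ^ i * d.r := by rw [hd.rr, one_mul]
        rw [pow_add, pow_add]
        calc d.e ^ i * (d.e ^ i * d.r) * (d.e ^ i)⁻¹ = d.e ^ i * d.e ^ i * (d.r * (d.e ^ i)⁻¹) := by group
          _ = _ := by rw [h3]; group
      rwa [e, show i + i + i = 3 * i by ring, pow_mul, hd.e3, one_pow, one_mul] at h2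
  set uM : M := ⟨d.u, hu⟩ with huM
  have huM3 : uM ^ 3 = 1 := Subtype.ext hd.u3
  have huMne : uM ≠ 1 := fun e => hd.u_ne (congrArg Subtype.val e)
  have hcent : centralizer ((zpowers uM : Subgroup M) : Set M) = zpowers uM := by
    ext g
    rw [mem_centralizer_iff]
    constructor
    · intro h
      obtain ⟨n, hn⟩ := pow_of_mem_zpowers hd.u3
        (hC g g.2 (congrArg Subtype.val (h uM (mem_zpowers _))).symm)
      exact ⟨n, Subtype.ext (by simp [hn, huM])⟩
    · rintro ⟨n, rfl⟩ _ ⟨j, rfl⟩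
      exact (Commute.zpow_zpow (Commute.refl uM) j n).eq
  have hsc : SelfCentThree.Sc uM := by
    refine ⟨huM3, huMne, ?_⟩
    rw [← Subgroup.centralizer_closure, ← Subgroup.zpowers_eq_closure, hcent]
  have : Fact (Nat.Prime 3) := ⟨Nat.prime_three⟩
  have build : ∀ (N : Subgroup M) [N.Normal], (Nat.card N).Coprime 3 →
      (∀ A : Subgroup (M ⧸ N), A.Normal → (Nat.card A).Coprime 3 → A = ⊥) →
      ∃ P : Subgroup X, P = N.map M.subtype ∧ P.Normal ∧ P ≤ M ∧ (Nat.card P).Coprime 3 ∧
        ∀ _ : P.Normal, Nonempty (M ⧸ N ≃* M.map (QuotientGroup.mk' P)) := by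
    intro N hN hcop hmax
    have hc : Nat.card (N.map M.subtype) = Nat.card N :=
      (Nat.card_congr (N.equivMapOfInjective _ M.subtype_injective).toEquiv).symm
    refine ⟨_, rfl, ?_, map_subtype_le _, hc ▸ hcop, fun hP => ?_⟩
    · refine ⟨?_⟩
      rintro _ ⟨a, ha, rfl⟩ c
      set N' := N.map (MulAut.conjNormal c : MulAut M).toMonoidHom with hN'
      have hn' : N'.Normal := Subgroup.Normal.map hN _ (MulAut.conjNormal c : MulAut M).surjective
      have h1 : N'.map (QuotientGroup.mk' N) = ⊥ := by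
        refine hmax _ (Subgroup.Normal.map hn' _ (QuotientGroup.mk'_surjective N)) ?_
        exact hcop.coprime_dvd_left (Nat.dvd_trans (card_map_dvd _ _) (card_map_dvd _ _))
      rw [Subgroup.map_eq_bot_iff, QuotientGroup.ker_mk'] at h1
      exact ⟨_, h1 ⟨a, ha, rfl⟩, by simp⟩
    · let ψ : M →* M.map (QuotientGroup.mk' (N.map M.subtype)) :=
        (QuotientGroup.mk' (N.map M.subtype)).subgroupMap M
      have hk : ψ.ker = N := by
        ext a
        rw [MonoidHom.mem_ker, ← Subtype.val_inj]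
        show (QuotientGroup.mk' (N.map M.subtype)) (a : X) = 1 ↔ _
        rw [QuotientGroup.mk'_apply, QuotientGroup.eq_one_iff]
        exact ⟨fun ⟨b, hb, hba⟩ => (Subtype.ext hba : b = a) ▸ hb, fun h => ⟨a, h, rfl⟩⟩
      exact ⟨(QuotientGroup.quotientMulEquivOfEq hk.symm).trans
        (QuotientGroup.quotientKerEquivOfSurjective ψ (MonoidHom.subgroupMap_surjective _ M))⟩
  rcases S3331.result (zpowers uM)
      (by rw [Nat.card_zpowers, orderOf_eq_prime huM3 huMne]) hcent with
    ⟨N, hN, hnil, hcop, hq⟩ | ⟨N, hN, -, hN2, ⟨eA⟩⟩ | ⟨⟨eL⟩⟩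
  · have hcQ : Nat.card (M ⧸ N) = 3 ∨ Nat.card (M ⧸ N) = 6 := by
      rcases hq with h | ⟨⟨e⟩⟩
      · exact Or.inl h
      · right; rw [Nat.card_congr e.toEquiv, Nat.card_perm, Nat.card_fin]; rfl
    have hmax : ∀ A : Subgroup (M ⧸ N), A.Normal → (Nat.card A).Coprime 3 → A = ⊥ := by
      intro A hA hA3
      rw [← card_eq_one]
      rcases hq with h | ⟨⟨e⟩⟩
      · exact hA3.eq_one_of_dvd (h ▸ card_subgroup_dvd_card A)
      · set A' := A.map e.toMonoidHom
        have hA' : A'.Normal := Subgroup.Normal.map hA _ e.surjective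
        have hcA : Nat.card A' = Nat.card A :=
          (Nat.card_congr (A.equivMapOfInjective _ e.injective).toEquiv).symm
        have hd2 : Nat.card A ∣ 2 := hA3.dvd_of_dvd_mul_left (by
          have := card_subgroup_dvd_card A'
          rw [hcA, Nat.card_perm, Nat.card_fin] at this
          exact this)
        rw [← hcA, card_eq_one, eq_bot_iff]
        intro x hx
        have hsq : ∀ z ∈ A', z * z = 1 := fun z hz => by
          have h := orderOf_dvd_iff_pow_eq_one.1
            (((Subgroup.orderOf_dvd_natCard A' hz).trans (dvd_of_eq hcA)).trans hd2)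
          rwa [sq] at h
        have key : ∀ x : Equiv.Perm (Fin 3), x * x = 1 →
            (∀ g : Equiv.Perm (Fin 3), x * (g * x * g⁻¹) * (x * (g * x * g⁻¹)) = 1) → x = 1 := by
          decide +kernel
        rw [mem_bot]
        exact key x (hsq x hx) fun g => hsq _ (A'.mul_mem hx (hA'.conj_mem x hx g))
    obtain ⟨P, hPe, hP, hPM, hPc, hiso⟩ := build N hcop hmax
    obtain ⟨eM⟩ := hiso hP
    have hPnil : Group.IsNilpotent P := by
      subst hPe
      exact (Group.isNilpotent_congr (N.equivMapOfInjective _ M.subtype_injective)).1 hnil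
    set q := QuotientGroup.mk' P with hq'
    set Mb := M.map q
    have hcM : Nat.card Mb = 3 ∨ Nat.card Mb = 6 := by rwa [← Nat.card_congr eM.toEquiv]
    let ub : Mb := ⟨q d.u, mem_map_of_mem q hu⟩
    let sb : Mb := ⟨q d.s, mem_map_of_mem q hs⟩
    have hub3 : ub ^ 3 = 1 := Subtype.ext (by
      show q d.u ^ 3 = 1
      rw [← map_pow, hd.u3, map_one])
    have hub1 : ub ≠ 1 := fun e => by
      have h : d.u ∈ P := (QuotientGroup.eq_one_iff d.u).1 (congrArg Subtype.val e)
      have := (hPc.coprime_dvd_left (Subgroup.orderOf_dvd_natCard P h))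
      rw [hd.hu] at this
      norm_num at this
    have hord : orderOf ub = 3 := orderOf_eq_prime hub3 hub1
    have hsub : sb * ub * sb = ub⁻¹ := Subtype.ext (by
      show q d.s * q d.u * q d.s = (q d.u)⁻¹
      rw [← map_mul, ← map_mul, hd.su, map_inv])
    have hsb2 : sb * sb = 1 := Subtype.ext (by
      show q d.s * q d.s = 1
      rw [← map_mul, hd.ss, map_one])
    have hsb1 : sb ≠ 1 := fun e => hub1 (by
      rw [e, one_mul, mul_one] at hsub
      refine eq_one_of_three_two hub3 ?_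
      nth_rw 2 [hsub]
      exact mul_inv_cancel ub)
    have hord2 : orderOf sb = 2 := orderOf_eq_prime (by rw [sq, hsb2]) hsb1
    have hgen : zpowers ub ⊔ zpowers sb = ⊤ := by
      refine eq_top_of_le_card _ ?_
      have h2 : 2 ∣ Nat.card (zpowers ub ⊔ zpowers sb : Subgroup Mb) :=
        hord2 ▸ Subgroup.orderOf_dvd_natCard _ (mem_sup_right (mem_zpowers sb))
      have h3 : 3 ∣ Nat.card (zpowers ub ⊔ zpowers sb : Subgroup Mb) :=
        hord ▸ Subgroup.orderOf_dvd_natCard _ (mem_sup_left (mem_zpowers ub))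
      have h6 := Nat.le_of_dvd Nat.card_pos ((show Nat.Coprime 2 3 by norm_num).mul_dvd_of_dvd_of_dvd h2 h3)
      rcases hcM with h | h <;> rw [h] <;> omega
    have hnormal : (zpowers ub).Normal := by
      have h := card_mul_index (zpowers ub)
      rw [Nat.card_zpowers, hord] at h
      rcases hcM with e | e <;> rw [e] at h
      · rw [index_eq_one.1 (show (zpowers ub).index = 1 by omega)]; infer_instance
      · exact normal_of_index_eq_two (by omega)
    refine ⟨M, P, hM, hP, hPM, hu, hs, hPnil, hPc, hC, fun v a ha hv hv2 => ?_, fun m hm => ?_, fun g => ?_⟩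
    · set ab : Mb := ⟨q a, mem_map_of_mem q ha⟩
      have hmem : ab * ub * ab⁻¹ * ub⁻¹ ∈ zpowers ub :=
        mul_mem (hnormal.conj_mem _ (mem_zpowers _) ab) (inv_mem (mem_zpowers _))
      obtain ⟨n, hn⟩ := pow_of_mem_zpowers hub3 hmem
      have hv' : ((ab * ub * ab⁻¹ * ub⁻¹ : Mb) : X ⧸ P) = q v := by
        rw [hv, map_mul, map_mul, map_mul, map_inv, map_inv]; rfl
      have h1 : ab * ub * ab⁻¹ * ub⁻¹ = 1 := eq_one_of_three_two
        (by rw [hn, ← pow_mul, mul_comm, pow_mul, hub3, one_pow])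
        (Subtype.ext (by rw [Subgroup.coe_mul, hv', ← map_mul, hv2, map_one]; rfl))
      rw [h1] at hv'
      exact (QuotientGroup.eq_one_iff v).1 hv'.symm
    · have h : (⟨q m, mem_map_of_mem q hm⟩ : Mb) ∈ (zpowers ub ⊔ zpowers sb).map (MonoidHom.id Mb) := by
        rw [hgen, map_id]; exact mem_top _
      rw [map_id] at h
      have h' : q m ∈ (zpowers d.u ⊔ zpowers d.s).map q := by
        rw [Subgroup.map_sup, MonoidHom.map_zpowers, MonoidHom.map_zpowers]
        have := mem_map_of_mem Mb.subtype h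
        rw [Subgroup.map_sup, MonoidHom.map_zpowers, MonoidHom.map_zpowers] at this
        exact this
      rw [← mem_comap, comap_map_eq, QuotientGroup.ker_mk', sup_comm] at h'
      exact h'
    · have hgM : g * d.u * g⁻¹ ∈ M := hM.conj_mem _ hu g
      obtain ⟨k, hk⟩ := hsc.cover (g := ⟨_, hgM⟩) (Subtype.ext (by
          show (g * d.u * g⁻¹) ^ 3 = 1
          rw [conj_pow, hd.u3]; group))
        (fun e => hd.u_ne (conj_eq_one_iff.1 (congrArg Subtype.val e)))
      refine ⟨k, k.2, ?_⟩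
      rcases hk with e | e <;> have e' := congrArg Subtype.val e <;>
        simp only [Subgroup.coe_mul, Subgroup.coe_inv, huM] at e'
      · left
        calc (k : X) * g * d.u = (k : X) * (g * d.u * g⁻¹) * (k : X)⁻¹ * ((k : X) * g) := by group
          _ = d.u * ((k : X) * g) := by rw [e']
      · right
        calc d.s * ((k : X) * g) * d.u
            = d.s * ((k : X) * (g * d.u * g⁻¹) * (k : X)⁻¹) * ((k : X) * g) := by group
          _ = d.s * d.u⁻¹ * ((k : X) * g) := by rw [e']
          _ = d.u * (d.s * ((k : X) * g)) := by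
            rw [← hd.su, show d.s * (d.s * d.u * d.s) = d.s * d.s * (d.u * d.s) by group, hd.ss]; group
  · exfalso
    have hN3 : (Nat.card N).Coprime 3 := by
      refine (Nat.prime_three.coprime_iff_not_dvd.2 fun hd3 => ?_).symm
      obtain ⟨⟨x, hx⟩, hxo⟩ := exists_prime_orderOf_dvd_card' 3 hd3
      rw [orderOf_mk] at hxo
      have := orderOf_dvd_of_pow_eq_one (hN2 x hx)
      rw [hxo] at this
      norm_num at this
    have hc60 : Nat.card (M ⧸ N) = 60 := (Nat.card_congr eA.toEquiv).trans SelfCentThree.card_alt_five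
    have : Nontrivial (M ⧸ N) := eA.toEquiv.nontrivial
    have hsimp : IsSimpleGroup (M ⧸ N) := eA.isSimpleGroup
    obtain ⟨P, hPe, hP, hPM, hPc, hiso⟩ := build N hN3 fun A hA hA3 =>
      hA.eq_bot_or_eq_top.resolve_right fun e => by
        rw [e, card_top, hc60] at hA3; norm_num at hA3
    obtain ⟨eM⟩ := hiso hP
    have : Nontrivial (M.map (QuotientGroup.mk' P)) := eM.symm.toEquiv.nontrivial
    have : IsSimpleGroup (M.map (QuotientGroup.mk' P)) := eM.symm.isSimpleGroup
    exact hd.no_simple hPc hPM hC (Or.inl (by rw [← Nat.card_congr eM.toEquiv, hc60]))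
  · exfalso
    obtain ⟨hs7, hc7⟩ := SelfCentThree.psl_seven
    let eQ : M ⧸ (⊥ : Subgroup M) ≃* Matrix.ProjectiveSpecialLinearGroup (Fin 2) (ZMod 7) :=
      QuotientGroup.quotientBot.trans eL
    have hc168 : Nat.card (M ⧸ (⊥ : Subgroup M)) = 168 := (Nat.card_congr eQ.toEquiv).trans hc7
    have : Nontrivial (M ⧸ (⊥ : Subgroup M)) := eQ.toEquiv.nontrivial
    have hsimp : IsSimpleGroup (M ⧸ (⊥ : Subgroup M)) := eQ.isSimpleGroup
    obtain ⟨P, hPe, hP, hPM, hPc, hiso⟩ := build ⊥ (by rw [card_bot]; exact Nat.coprime_one_left 3)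
      fun A hA hA3 => hA.eq_bot_or_eq_top.resolve_right fun e => by
        rw [e, card_top, hc168] at hA3; norm_num at hA3
    obtain ⟨eM⟩ := hiso hP
    have : Nontrivial (M.map (QuotientGroup.mk' P)) := eM.symm.toEquiv.nontrivial
    have : IsSimpleGroup (M.map (QuotientGroup.mk' P)) := eM.symm.isSimpleGroup
    exact hd.no_simple hPc hPM hC (Or.inr (by rw [← Nat.card_congr eM.toEquiv, hc168]))

theorem W_not_cyclic : ¬ IsCyclic (W d) := fun h => by
  obtain ⟨g, hg⟩ := h.exists_generator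
  have hg3 : g ^ 3 = 1 := Subtype.ext (hd.W_cube g.2)
  obtain ⟨i, hi⟩ := pow_of_mem_zpowers hg3 (hg ⟨d.e, e_mem⟩)
  obtain ⟨j, hj⟩ := pow_of_mem_zpowers hg3 (hg ⟨d.u, u_mem⟩)
  have hi' : d.e = (g : X) ^ i := by simpa using congrArg Subtype.val hi
  have hj' : d.u = (g : X) ^ j := by simpa using congrArg Subtype.val hj
  have hg3' : (g : X) ^ 3 = 1 := hd.W_cube g.2
  have he : (g : X) ^ (i % 3) = d.e := by rw [← pow_eq_pow_mod i hg3', hi']
  have hlt : i % 3 < 3 := Nat.mod_lt _ (by norm_num)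
  refine hd.indep ?_
  interval_cases hm : i % 3
  · exact absurd (by simpa using he.symm) hd.e_ne
  · rw [hj', ← he, pow_one]; exact pow_mem (mem_zpowers _) j
  · rw [hj', show (g : X) = d.e ^ 2 by
      rw [← he, ← pow_mul, pow_succ, hg3', one_mul]]
    exact pow_mem (pow_mem (mem_zpowers _) 2) j

/-- A centraliser of a vector outside the line is one of three. -/
theorem cent_cases {w : X} (hw : w ∈ W d) (hn : w ∉ zpowers d.u) :
    ∀ g : X, g * w = w * g → g * d.e = d.e * g ∨ g * (d.e * d.u) = d.e * d.u * g ∨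
      d.s * g * d.s * (d.e * d.u) = d.e * d.u * (d.s * g * d.s) := by
  intro g hg
  obtain ⟨i, j, hi, hj, rfl⟩ := hd.mem_W hw
  have hi0 : i ≠ 0 := by
    rintro rfl
    exact hn (by simpa using pow_mem (mem_zpowers d.u) j)
  -- pass to the square of the vector, and through `s`
  have h2 : Commute g ((d.e ^ i * d.u ^ j) ^ 2) := (show Commute g _ from hg).pow_right 2
  rw [(hd.comm_eu.pow_pow i j).mul_pow, ← pow_mul, ← pow_mul] at h2
  have hs : ∀ {v v' : X}, d.s * v * d.s⁻¹ = v' → Commute g v → Commute (d.s * g * d.s) v' := by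
    intro v v' hv h
    rw [← hv, hd.s_inv]
    show d.s * g * d.s * (d.s * v * d.s) = d.s * v * d.s * (d.s * g * d.s)
    rw [show d.s * g * d.s * (d.s * v * d.s) = d.s * g * (d.s * d.s) * (v * d.s) by group,
      show d.s * v * d.s * (d.s * g * d.s) = d.s * v * (d.s * d.s) * (g * d.s) by group, hd.ss,
      mul_one, mul_one, ← mul_assoc, mul_assoc d.s g, h.eq]
    group
  have e1 := pow_two_two d.e hd.e3
  have u1 := pow_two_two d.u hd.u3
  interval_cases i <;> interval_cases j <;> first | exact absurd rfl hi0 | skip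
  · exact Or.inl (by simpa using hg)
  · exact Or.inr (Or.inl (by simpa using hg))
  · exact Or.inr (Or.inr (hs (by rw [hd.s_conj, u1, pow_one]) hg).eq)
  · exact Or.inl (by rw [e1] at h2; simpa using h2.eq)
  · refine Or.inr (Or.inr (hs (v := d.e ^ (2 * 2) * d.u ^ (1 * 2)) ?_ h2).eq)
    rw [hd.s_conj, e1, show d.u ^ (2 * (1 * 2)) = d.u from u1]
  · refine Or.inr (Or.inl ?_)
    rw [e1, u1] at h2
    exact h2.eq

/-- In every normal subgroup of order prime to three the centraliser of such a vector gives fours. -/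
theorem four_le {Z : Subgroup X} [Z.Normal] (hcop : (Nat.card Z).Coprime 3) {y : X}
    (D : FourData y d.u) {z : X} (hz : z ∈ Z) (hzy : z * y = y * z) (hz1 : z ≠ 1) {v : X}
    (hv : D.InV v) : v ∈ Z := by
  set Q := Z ⊓ centralizer ({y} : Set X) with hQ
  have hn : ∀ g ∈ Q, d.u * g * d.u⁻¹ ∈ Q ∧ d.u⁻¹ * g * d.u ∈ Q := by
    intro g hg
    obtain ⟨g1, g2⟩ := mem_inf.1 hg
    refine ⟨mem_inf.2 ⟨Subgroup.Normal.conj_mem inferInstance g g1 _,
      mul_mem (mul_mem D.mem g2) (inv_mem D.mem)⟩, mem_inf.2 ⟨?_, mul_mem (mul_mem (inv_mem D.mem) g2) D.mem⟩⟩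
    simpa using Subgroup.Normal.conj_mem (inferInstance : Z.Normal) g g1 d.u⁻¹
  have hzQ : z ∈ Q := mem_inf.2 ⟨hz, mem_centralizer_singleton_iff.2 hzy⟩
  exact (mem_inf.1 (D.inV_whole hn hzQ (D.inV_of_le inf_le_right
    (hcop.coprime_dvd_left (card_dvd_of_le inf_le_left)) hn hzQ) hz1 hv)).1

/-- The four at `e` commutes with the four at `e u`. -/
theorem commute {v w : X} (hv : ∃ g, g * d.e = d.e * g ∧ g ^ 4 = 1 ∧ v = g * g) (hw : w * w = 1)
    (hwc : w * (d.e * d.u) = d.e * d.u * w) : v * w = w * v := by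
  obtain ⟨g, hge, hg4, rfl⟩ := hv
  obtain ⟨De⟩ := hd.four_e
  obtain ⟨Da, hDa⟩ := hd.four_a
  have hvV := De.inV_of_sq (mem_centralizer_singleton_iff.2 hge) hg4
  have hwV := hDa w (mem_centralizer_singleton_iff.2 hwc) hw
  obtain ⟨M, P, hM, hP, hPM, hu, hs, hnil, hcop, hC, hcomm, -, -⟩ := hd.exists_core
  have inP : ∀ {y : X} (D : FourData y d.u) {x : X}, D.InV x → x ∈ P := by
    intro y D x hx
    obtain ⟨a, ha, he⟩ := D.exists_commutator hx
    obtain ⟨b, hb, hab⟩ := D.exists_commutator ha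
    have haM : a ∈ M := by
      rw [hab, show b * d.u * b⁻¹ * d.u⁻¹ = (b * d.u * b⁻¹) * d.u⁻¹ from rfl]
      exact M.mul_mem (hM.conj_mem _ hu b) (M.inv_mem hu)
    exact hcomm x a haM he (D.inV_sq hx)
  have hvP := inP De hvV
  have hwP := inP Da hwV
  set Z := P ⊓ centralizer (P : Set X) with hZ
  have hZn : Z.Normal := inferInstance
  have hZc : (Nat.card Z).Coprime 3 := hcop.coprime_dvd_left (card_dvd_of_le inf_le_left)
  have hcent : ∀ {a b : X}, a ∈ Z → b ∈ P → a * b = b * a := fun {a b} ha hb =>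
    (mem_centralizer_iff.1 (mem_inf.1 ha).2 b hb).symm
  have hZne : Z ≠ ⊥ := by
    obtain ⟨x, hx, hx1⟩ := De.exists_inV_ne
    have : Nontrivial P := ⟨⟨⟨x, inP De hx⟩, 1, fun e => hx1 (congrArg Subtype.val e)⟩⟩
    have h := Core.inf_center_ne_bot (G := P) (N := (⊤ : Subgroup P)) top_ne_bot
    rw [top_inf_eq] at h
    obtain ⟨c, hc, hc1⟩ := (bot_or_exists_ne_one _).resolve_left h
    intro e
    refine hc1 (Subtype.ext ?_)
    have : (c : X) ∈ Z := mem_inf.2 ⟨c.2, mem_centralizer_iff.2 fun b hb =>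
      congrArg Subtype.val (mem_center_iff.1 hc ⟨b, hb⟩)⟩
    rw [e, mem_bot] at this
    exact this
  have hWc : IsMulCommutative (W d) := ⟨⟨fun a b => Subtype.ext (hd.W_comm a.2 b.2).eq⟩⟩
  obtain ⟨j, hj⟩ := (IsPGroup.iff_card (p := 3)).1 hd.W_isPGroup
  have hgenZ := Coprime.iSup_centralizer_eq (A := W d) (K := Z) hd.W_not_cyclic le_normalizer_of_normal
    (by rw [hj]; exact hZc.symm.pow_left j)
  obtain ⟨a, ha, ha1, hne⟩ : ∃ a, a ∈ W d ∧ a ≠ 1 ∧ Z ⊓ centralizer {a} ≠ ⊥ := by
    by_contra hcon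
    push Not at hcon
    refine hZne (hgenZ ▸ ?_)
    exact eq_bot_iff.2 (iSup₂_le fun a ha => (hcon a ha.1 ha.2).le)
  obtain ⟨z, hz, hz1⟩ := (bot_or_exists_ne_one _).resolve_left hne
  obtain ⟨hzZ, hza⟩ := mem_inf.1 hz
  rw [mem_centralizer_singleton_iff] at hza
  have hau : a ∉ zpowers d.u := by
    intro hau
    obtain ⟨i, rfl⟩ := pow_of_mem_zpowers hd.u3 hau
    have hzu : z * d.u = d.u * z := by
      rw [pow_eq_pow_mod i hd.u3] at hza ha1
      have hi : i % 3 < 3 := Nat.mod_lt _ (by norm_num)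
      interval_cases hm : i % 3
      · exact absurd (pow_zero _) ha1
      · simpa using hza
      · have h := (show Commute z (d.u ^ 2) from hza).pow_right 2
        rw [← pow_mul, pow_two_two d.u hd.u3] at h
        exact h.eq
    have hzP := (mem_inf.1 hzZ).1
    obtain ⟨n, hn⟩ := pow_of_mem_zpowers hd.u3 (hC z (hPM hzP) hzu)
    have h3 : orderOf z ∣ 3 := orderOf_dvd_of_pow_eq_one (by
      rw [hn, ← pow_mul, mul_comm, pow_mul, hd.u3, one_pow])
    exact hz1 (orderOf_eq_one_iff.1
      ((hcop.coprime_dvd_left (Subgroup.orderOf_dvd_natCard P hzP)).eq_one_of_dvd h3))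
  rcases hd.cent_cases ha hau z hza with h | h | h
  · exact hcent (hd.four_le hZc De hzZ h hz1 hvV) hwP
  · exact (hcent (hd.four_le hZc Da hzZ h hz1 hwV) hvP).symm
  · have hz' : d.s * z * d.s ∈ Z := by
      have := hZn.conj_mem z hzZ d.s
      rwa [hd.s_inv] at this
    refine (hcent (hd.four_le hZc Da hz' h (fun e => hz1 ?_) hwV) hvP).symm
    rw [← conj_eq_one_iff (a := d.s), hd.s_inv]
    exact e

/-- The local subgroups generate. -/
theorem gen : centralizer ({d.e} : Set X) ⊔ centralizer ({d.e * d.u} : Set X) ⊔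
    normalizer ((zpowers d.e ⊔ zpowers d.u : Subgroup X) : Set X) = ⊤ := by
  set J := centralizer ({d.e} : Set X) ⊔ centralizer ({d.e * d.u} : Set X) ⊔
    normalizer ((zpowers d.e ⊔ zpowers d.u : Subgroup X) : Set X)
  have hN : normalizer (W d : Set X) ≤ J := le_sup_right
  have hWJ : ∀ {g}, g ∈ W d → g ∈ J := fun hg => hN (le_normalizer hg)
  have hsJ : d.s ∈ J := hN hd.s_norm
  have hCu : ∀ g, g * d.u = d.u * g → g ∈ J := fun g hg => by
    obtain ⟨i, j, k, rfl⟩ := hd.cent_u g hg
    exact mul_mem (hWJ (mul_mem (pow_mem e_mem i) (pow_mem u_mem j))) (pow_mem (hN hd.r_norm) _)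
  obtain ⟨M, P, hM, hP, hPM, hu, hs, hnil, hcop, hC, -, hMgen, hfr⟩ := hd.exists_core
  have hWc : IsMulCommutative (W d) := ⟨⟨fun a b => Subtype.ext (hd.W_comm a.2 b.2).eq⟩⟩
  obtain ⟨j, hj⟩ := (IsPGroup.iff_card (p := 3)).1 hd.W_isPGroup
  have hPJ : P ≤ J := by
    rw [← Coprime.iSup_centralizer_eq (A := W d) (K := P) hd.W_not_cyclic le_normalizer_of_normal
      (by rw [hj]; exact hcop.symm.pow_left j)]
    refine iSup₂_le fun a ha g hg => ?_
    obtain ⟨hgP, hga⟩ := mem_inf.1 hg
    rw [mem_centralizer_singleton_iff] at hga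
    by_cases hau : a ∈ zpowers d.u
    · obtain ⟨i, rfl⟩ := pow_of_mem_zpowers hd.u3 hau
      refine hCu g ?_
      have ha2 := ha.2
      rw [pow_eq_pow_mod i hd.u3] at hga ha2
      have hi : i % 3 < 3 := Nat.mod_lt _ (by norm_num)
      interval_cases hm : i % 3
      · exact absurd (pow_zero _) ha2
      · simpa using hga
      · have h := (show Commute g (d.u ^ 2) from hga).pow_right 2
        rw [← pow_mul, pow_two_two d.u hd.u3] at h
        exact h.eq
    · rcases hd.cent_cases ha.1 hau g hga with h | h | h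
      · exact mem_sup_left (mem_sup_left (mem_centralizer_singleton_iff.2 h))
      · exact mem_sup_left (mem_sup_right (mem_centralizer_singleton_iff.2 h))
      · have h' : d.s * g * d.s ∈ J :=
          mem_sup_left (mem_sup_right (mem_centralizer_singleton_iff.2 h))
        have := mul_mem (mul_mem hsJ h') hsJ
        rwa [show d.s * (d.s * g * d.s) * d.s = d.s * d.s * g * (d.s * d.s) by group, hd.ss, one_mul,
          mul_one] at this
  have hMJ : M ≤ J := hMgen.trans (sup_le hPJ (sup_le (zpowers_le.2 (hWJ u_mem)) (zpowers_le.2 hsJ)))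
  refine eq_top_iff.2 fun g _ => ?_
  obtain ⟨m, hm, h | h⟩ := hfr g
  · exact (J.mul_mem_cancel_left (hMJ hm)).1 (hCu _ h)
  · exact (J.mul_mem_cancel_left (hMJ hm)).1 ((J.mul_mem_cancel_left hsJ).1 (hCu _ h))

end CentTwo

end Cfsg.Agent.Sp6Local
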