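import Cfsg.Agent.Sp6Local.CentTau
import Cfsg.Agent.Sp6Local.CentTwoKernel

/-!
# The seven involutions and their relations
-/

set_option autoImplicit false
set_option synthInstance.maxSize 4000
set_option synthInstance.maxHeartbeats 400000

namespace Cfsg.Agent.Sp6Local

open Cfsg Cfsg.Agent Equiv Subgroup Cfsg.Agent.Sym9ThreeLocal

universe u


/-- The transposition behind the first, fifth, and so on. -/
def pFour : P6 := swap 1 2 * swap 2 4 * swap 4 5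

theorem rel_p6 :
    pFour * pw = pw * pFour ∧ pFour ^ 4 = 1 ∧ swap 0 3 * pw = pFour * pFour ∧
    swap (0 : Fin 6) 3 * pw = pw * swap 0 3 ∧
    (∃ π : P6, π * swap 0 3 * π⁻¹ = p0) ∧ (∃ π : P6, π * (swap 0 3 * pw) * π⁻¹ = p0 * p1) ∧
    (pa * pb * pb) * swap 0 3 * (pa * pb * pb)⁻¹ * swap 0 3 =
      swap 0 3 * ((pa * pb * pb) * swap 0 3 * (pa * pb * pb)⁻¹) ∧
    (∀ q : Multiplicative (ZMod 3) × alternatingGroup (Fin 4), q ^ 4 = 1 → q * q = 1) := by
  decide +kernel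

theorem sl3_four : ∀ Y : PSp43Amalgam.SL3, Y ^ 3 = 1 → Y ≠ 1 → ∀ M : PSp43Amalgam.SL3, ∃ k : Fin 3, (M * Y ^ (k : ℕ)) ^ 4 = 1 := by
  decide +kernel

theorem rel_vec :
    (∀ a : A, ∃ i j k : Fin 3, a = xA ^ (i : ℕ) * vz ^ (j : ℕ) * e1 ^ (k : ℕ)) ∧
    (∀ i : Fin 3, act wt (xA ^ (i : ℕ) * vz) = (xA ^ (i : ℕ) * vz)⁻¹ → i = 0) ∧
    vz = e2 * e3 * e3 ∧ wt * wc * wt = wc⁻¹ ∧ wc ≠ 1 := by
  decide +kernel

namespace Conf

variable {G : Type u} [Group G] [Finite G] (h : Conf G)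

theorem e1_not_R : h.j e1 ∉ h.R := by
  intro he
  have hle : h.J ≤ h.R := by
    rintro _ ⟨a, rfl⟩
    obtain ⟨i, j, k, rfl⟩ := rel_vec.1 a
    rw [map_mul, map_mul, map_pow, map_pow, map_pow]
    exact mul_mem (mul_mem (pow_mem h.x_mem_R _) (pow_mem h.R_gens.1 _)) (pow_mem he _)
  have e := eq_of_le_of_card_ge hle (by rw [h.cardR, h.J_card])
  obtain ⟨a, ha⟩ : h.cyc ∈ h.J := by rw [e]; exact h.R_gens.2
  have h1 : inlA h.k a = inrK h.k ⟨wc, inK_wc h.k⟩ := h.inj ha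
  have h2 := congrArg (fun m : Mk h.k => (m : Mf).right) h1
  exact rel_vec.2.2.2.2 h2.symm

/-- Commutators in the extraspecial subgroup lie on the line. -/
theorem R_comm {a b : G} (ha : a ∈ h.R) (hb : b ∈ h.R) : a * b * a⁻¹ * b⁻¹ ∈ zpowers h.x := by
  haveI : Fact (Nat.Prime 3) := ⟨Nat.prime_three⟩
  set Z := center h.R
  have hmem : ∀ r : h.R, r ∈ Z ↔ (r : G) ∈ zpowers h.x := fun r => by
    rw [h.centerR']
    exact ⟨fun hc => ⟨r.2, fun s hs => (congrArg Subtype.val (mem_center_iff.1 hc ⟨s, hs⟩)).symm⟩,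
      fun hc => mem_center_iff.2 fun s => Subtype.ext (hc.2 s s.2).symm⟩
  have hZ : Nat.card Z = 3 := by
    rw [← h.order_j xA_ne, ← Nat.card_zpowers]
    exact Nat.card_congr
      { toFun := fun r => ⟨((r : h.R) : G), (hmem r).1 r.2⟩
        invFun := fun r => ⟨⟨(r : G), ((h.centerR' r).1 r.2).1⟩, (hmem _).2 r.2⟩
        left_inv := fun r => rfl
        right_inv := fun r => rfl }
  have hq : Nat.card (h.R ⧸ Z) = 3 ^ 2 := by
    have h1 := card_mul_index Z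
    rw [hZ, h.cardR, index_eq_card] at h1
    omega
  have h1 := IsPGroup.commutative_of_card_eq_prime_sq hq (QuotientGroup.mk ⟨a, ha⟩) (QuotientGroup.mk ⟨b, hb⟩)
  have h2 : (⟨a, ha⟩ : h.R) * ⟨b, hb⟩ * (⟨a, ha⟩ : h.R)⁻¹ * (⟨b, hb⟩ : h.R)⁻¹ ∈ Z := by
    rw [← QuotientGroup.eq_one_iff]
    simp only [QuotientGroup.mk_mul, QuotientGroup.mk_inv]
    rw [h1, mul_inv_cancel_right, mul_inv_cancel]
  exact (hmem _).1 h2

variable (hk : h.k = .eight)

theorem cyc_emb : h.emb hk (mw wc) = h.cyc := rfl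

include hk in
/-- An element of the centralisers of the given element and the exchange moving the cycle to a vector. -/
theorem exists_rot (F : h.Facts) : ∃ g : G, g * h.x = h.x * g ∧ g * h.tau = h.tau * g ∧ g ^ 4 = 1 ∧
    g⁻¹ * h.cyc * g = h.j vz := by
  obtain ⟨hz, hcR⟩ := h.R_gens
  have hcx : h.cyc ∉ zpowers h.x := fun hm => by
    obtain ⟨n, hn⟩ := mem_zpowers_iff.1 hm
    rw [← map_zpow] at hn
    have h1 : inlA h.k (xA ^ n) = inrK h.k ⟨wc, inK_wc h.k⟩ := h.inj hn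
    exact rel_vec.2.2.2.2 (congrArg (fun m : Mk h.k => (m : Mf).right) h1).symm
  obtain ⟨c, hc, hcv⟩ := h.R_fuse hcR hcx
  have hcx' : Commute c h.x := mem_centralizer_singleton_iff.1 hc
  obtain ⟨r, hr, hrt⟩ := h.exists_cent_tau (c := c⁻¹) hcx'.inv_left.eq
  set d := r⁻¹ * c⁻¹ with hd
  have hdx : Commute d h.x :=
    (show Commute r h.x from h.x_comm_R hr).inv_left.mul_left hcx'.inv_left
  obtain ⟨n, hn⟩ := mem_zpowers_iff.1 (h.R_comm hr hcR)
  have hκ : d⁻¹ * h.cyc * d = h.j (xA ^ n * vz) := by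
    calc d⁻¹ * h.cyc * d = c * (r * h.cyc * r⁻¹ * h.cyc⁻¹) * h.cyc * c⁻¹ := by rw [hd]; group
      _ = h.x ^ n * (c * h.cyc * c⁻¹) := by rw [← hn, (hcx'.zpow_right n).eq]; group
      _ = _ := by rw [hcv, map_mul, map_zpow]
  obtain ⟨i, hi⟩ : ∃ i : Fin 3, xA ^ n = xA ^ (i : ℕ) := by
    rcases A9ThreeLocal.zpowers_three_cases (A_cube xA) (mem_zpowers_iff.2 ⟨n, rfl⟩) with e | e | e
    · exact ⟨0, by rw [e]; rfl⟩
    · exact ⟨1, by rw [e, show ((1 : Fin 3) : ℕ) = 1 from rfl, pow_one]⟩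
    · exact ⟨2, by rw [e]; decide +kernel⟩
  rw [hi] at hκ
  have hdt : Commute d h.tau := hrt
  have hti : h.tau⁻¹ = h.tau := inv_eq_of_mul_eq_one_right h.tau_sq'
  have htc : h.tau * h.cyc * h.tau⁻¹ = h.cyc⁻¹ := by
    rw [← h.tau_emb hk, ← h.cyc_emb hk, ← h.mw_conj, show wt * wc * wt⁻¹ = wc⁻¹ by decide +kernel]
    exact (congrArg (h.emb hk) (map_inv (SemidirectProduct.inr : W →* Mf) wc)).trans (map_inv _ _)
  have hi0 : i = 0 := rel_vec.2.1 i (h.j_inj (by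
    rw [← h.conj_w hk, h.tau_emb hk, map_inv, ← hκ]
    calc h.tau * (d⁻¹ * h.cyc * d) * h.tau⁻¹ = d⁻¹ * (h.tau * h.cyc * h.tau⁻¹) * d := by
          have e1 : h.tau * d⁻¹ = d⁻¹ * h.tau := hdt.inv_left.eq.symm
          have e2 : d * h.tau⁻¹ = h.tau⁻¹ * d := hdt.inv_right.eq
          calc h.tau * (d⁻¹ * h.cyc * d) * h.tau⁻¹ = h.tau * d⁻¹ * h.cyc * (d * h.tau⁻¹) := by group
            _ = _ := by rw [e1, e2]; group
      _ = _ := by rw [htc]; group))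
  rw [hi0, show ((0 : Fin 3) : ℕ) = 0 from rfl, pow_zero, one_mul] at hκ
  -- adjust by the first vector
  set C := centralizer ({h.x} : Set G)
  obtain ⟨f, -, hf⟩ := h.projX'
  set eC : C := ⟨h.j e1, mem_centralizer_singleton_iff.2 (h.j_comm e1 xA)⟩
  set dC : C := ⟨d, mem_centralizer_singleton_iff.2 hdx⟩
  obtain ⟨k, hk4⟩ := sl3_four (f eC) (by
      rw [← map_pow, show eC ^ 3 = 1 from Subtype.ext (h.J_cube _ (h.j_mem e1)), map_one])
    (fun e => h.e1_not_R ((hf eC).1 e)) (f dC)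
  set g0 := d * h.j e1 ^ (k : ℕ) with hg0
  have hgx : Commute g0 h.x := hdx.mul_left ((show Commute (h.j e1) h.x from h.j_comm e1 xA).pow_left _)
  have hgt : Commute g0 h.tau := hdt.mul_left ((show Commute (h.j e1) h.tau from
    ((h.emb_comm_iff hk wt e1).2 tau_facts.1).symm).pow_left _)
  have h4 : g0 ^ 4 ∈ h.R := by
    refine (hf ((dC * eC ^ (k : ℕ)) ^ 4)).1 ?_
    rw [map_pow, map_mul, map_pow, hk4]
  have h4x : g0 ^ 4 ∈ zpowers h.x := h.R_cent_tau hk F h4 (hgt.pow_left 4).eq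
  have hκ0 : g0⁻¹ * h.cyc * g0 = h.j vz := by
    calc g0⁻¹ * h.cyc * g0 = (h.j e1 ^ (k : ℕ))⁻¹ * (d⁻¹ * h.cyc * d) * h.j e1 ^ (k : ℕ) := by rw [hg0]; group
      _ = _ := by
        rw [hκ, mul_assoc, (show Commute (h.j vz) (h.j e1 ^ (k : ℕ)) from
          (show Commute (h.j vz) (h.j e1) from h.j_comm _ _).pow_right _).eq, inv_mul_cancel_left]
  refine ⟨g0 ^ 9, (hgx.pow_left 9).eq, (hgt.pow_left 9).eq, ?_, ?_⟩
  · rw [← pow_mul, show 9 * 4 = 4 * 3 * 3 from rfl, pow_mul, pow_mul, h.cubeR _ h4, one_pow]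
  · rw [show (9 : ℕ) = 1 + 4 * 2 from rfl, pow_add, pow_one, pow_mul]
    obtain ⟨m, hm⟩ := mem_zpowers_iff.1 h4x
    have hc : Commute ((g0 ^ 4) ^ 2) (h.j vz) := by
      rw [← hm]; exact ((show Commute h.x (h.j vz) from h.j_comm _ _).zpow_left m).pow_left 2
    set b := (g0 ^ 4) ^ 2
    clear_value b
    calc (g0 * b)⁻¹ * h.cyc * (g0 * b) = b⁻¹ * (g0⁻¹ * h.cyc * g0) * b := by group
      _ = _ := by rw [hκ0, mul_assoc, hc.symm.eq, inv_mul_cancel_left]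

/-- The key relation between the two middle generators. -/
theorem middle (F : h.Facts) (s : h.Six hk) : Commute (s.ψ (swap 0 3)) ((Six.frame h s).ψ (swap 0 3)) := by
  set f := Six.frame h s with hf
  have hd : CentTwo (h.tauData hk) := h.centTwo hk F f
  obtain ⟨q1, q2, q3, q4, ⟨π1, q5⟩, ⟨π2, q6⟩, q7, q8⟩ := rel_p6
  obtain ⟨g, hgx, hgt, hg4, hgc⟩ := h.exists_rot hk F
  set c := f.ψ (swap 0 3) with hc
  set cT : h.ctau := ⟨c, mem_centralizer_singleton_iff.2 (by rw [hc, ← f.map_w, ← map_mul, ← map_mul, q4])⟩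
  set gT : h.ctau := ⟨g, mem_centralizer_singleton_iff.2 hgt⟩
  set sT : h.ctau := ⟨f.ψ pFour, mem_centralizer_singleton_iff.2 (by rw [← f.map_w, ← map_mul, ← map_mul, q1])⟩
  have hwx : h.prT gT * ((h.tauData hk).e * (h.tauData hk).u) =
      (h.tauData hk).e * (h.tauData hk).u * h.prT gT := by
    show h.prT _ * (h.prT _ * h.prT _) = h.prT _ * h.prT _ * h.prT _
    rw [← map_mul h.prT (h.vT hk e1 _), ← map_mul, ← map_mul]
    refine congrArg _ (Subtype.ext ?_)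
    show g * (h.j e1 * h.j vu) = h.j e1 * h.j vu * g
    rw [← map_mul, tau_facts.2.1]
    exact hgx
  have hcomm : h.prT cT * h.prT gT = h.prT gT * h.prT cT := by
    refine hd.commute ⟨h.prT sT, ?_, ?_, ?_⟩ ?_ hwx
    · show h.prT _ * h.prT _ = h.prT _ * h.prT _
      rw [← map_mul, ← map_mul]
      exact congrArg _ (Subtype.ext (f.comm_e pFour).symm.eq)
    · rw [← map_pow, show sT ^ 4 = 1 from Subtype.ext (by
        rw [SubmonoidClass.coe_pow]; show f.ψ pFour ^ 4 = 1; rw [← map_pow, q2, map_one]), map_one]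
    · rw [← mul_one (h.prT cT), ← h.prT_tau, ← map_mul, ← map_mul]
      refine congrArg _ (Subtype.ext ?_)
      show c * h.tau = f.ψ pFour * f.ψ pFour
      rw [hc, ← f.map_w, ← map_mul, ← map_mul, q3]
    · obtain ⟨p, hp⟩ := hd.cent_a
      set w : centralizer ({(h.tauData hk).e * (h.tauData hk).u} : Set h.TX) :=
        ⟨h.prT gT, mem_centralizer_singleton_iff.2 hwx⟩
      have h4 : w ^ 4 = 1 := Subtype.ext (by
        rw [SubmonoidClass.coe_pow]; show h.prT gT ^ 4 = 1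
        rw [← map_pow, show gT ^ 4 = 1 from Subtype.ext hg4, map_one])
      have h2 : w * w = 1 := hp.1 (by rw [map_mul, map_one, q8 _ (by rw [← map_pow, h4, map_one])])
      exact congrArg Subtype.val h2
  have hfix : g⁻¹ * c * g = c := by
    rcases h.prT_eq (a := gT⁻¹ * cT * gT) (b := cT) (by
      rw [map_mul, map_mul, map_inv, mul_assoc, hcomm, inv_mul_cancel_left]) with e | e
    · exact e
    · exfalso
      change g⁻¹ * c * g = c * h.tau at e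
      refine f.flip_not_double (h := h) ((?_ : IsConj (h.emb hk (mw wf)) c).trans
        ((isConj_iff.2 ⟨g⁻¹, by rw [inv_inv]; exact e⟩).trans (?_ : IsConj (c * h.tau) _)))
      · refine (isConj_iff.2 ⟨h.emb hk (mw wc), ?_⟩).trans (?_ : IsConj (h.emb hk (mw wf2)) c)
        · rw [← h.mw_conj, frame_acts.2.2.2.1]
        · refine (isConj_iff.2 ⟨f.ψ π1, ?_⟩).symm
          rw [hc, ← map_inv, ← map_mul, ← map_mul, q5, f.map_0]
      · refine isConj_iff.2 ⟨f.ψ π2, ?_⟩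
        rw [hc, ← f.map_w, ← map_mul, ← map_inv, ← map_mul, ← map_mul, q6, f.double_eq]
  have hvz : f.ψ (pa * pb * pb) = h.j vz := by
    rw [map_mul, map_mul, f.map_a, f.map_b, ← map_mul, ← map_mul, rel_vec.2.2.1]
  have hmain : Commute (g⁻¹ * (h.cyc * c * h.cyc⁻¹) * g) (g⁻¹ * c * g) := by
    rw [show g⁻¹ * (h.cyc * c * h.cyc⁻¹) * g =
      (g⁻¹ * h.cyc * g) * (g⁻¹ * c * g) * (g⁻¹ * h.cyc * g)⁻¹ by group, hfix, hgc, ← hvz, hc, ← map_inv,
      ← map_mul, ← map_mul]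
    exact (show Commute _ _ from q7).map f.ψ
  have h2 : Commute (h.cyc * c * h.cyc⁻¹) c := by
    have := hmain.conj g
    simpa [mul_assoc] using this
  have h3 : c = h.cyc * s.ψ (swap 0 3) * h.cyc⁻¹ := Six.frame_apply h s (swap 0 3)
  have := h2.conj h.cyc⁻¹
  rw [show h.cyc⁻¹ * (h.cyc * c * h.cyc⁻¹) * h.cyc⁻¹⁻¹ = c by group,
    show h.cyc⁻¹ * c * h.cyc⁻¹⁻¹ = s.ψ (swap 0 3) by rw [h3]; group] at this
  exact this.symm

end Conf

end Cfsg.Agent.Sp6Local
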