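import Cfsg.Agent.Sp6Local.CentTau
import Cfsg.Agent.Sp6Local.Rel
import Cfsg.Agent.A9ThreeLocal.Exceptional
import Cfsg.Agent.Invol.ZStar
import Cfsg.Agent.S0077

/-!
# The kind with the central sign only: the line is normal
-/

set_option autoImplicit false
set_option synthInstance.maxSize 4000
set_option synthInstance.maxHeartbeats 400000

namespace Cfsg.Agent.Sp6Local

open Cfsg Cfsg.Agent Subgroup Cfsg.Agent.Sym9ThreeLocal

universe u

theorem two_model :
    (∀ w : W, inK .two w → act w xA = xA ∨ act w xA = xA⁻¹) ∧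
    (∀ w : W, inK .two w → act w xA ≠ vz) ∧
    (∀ a : A, act wt a = a → a ≠ 1 → a ≠ xA → a ≠ xA⁻¹ → ¬ XLike .two a) ∧
    ¬ XLike .two vz ∧ act wi xA = xA⁻¹ ∧ wi * wt = wt * wi ∧ inK .two wi ∧ xA⁻¹ ≠ xA ∧
    (∀ v : A, act wt v = v → v.toAdd.2.1 = v.toAdd.2.2) ∧
    e1 ≠ xA ∧ e1 ≠ xA⁻¹ ∧ e1 ≠ (1 : A) := by
  decide +kernel

theorem fix_pair : ∀ z : W, inK .two z → z ^ 3 = 1 → ∀ b : A, b.toAdd.2.1 = b.toAdd.2.2 →
    b ∉ ({1, xA, xA * xA} : Finset A) → act z b = b → z = 1 := by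
  decide +kernel

theorem xA_sq : xA⁻¹ = xA * xA := by decide +kernel

theorem two_stab :
    (∀ w : W, inK .two w → w * wt = wt * w → w = 1 ∨ w = wt ∨ w = wi ∨ w = wi * wt) ∧
    (∀ a : A, act wt a = a → a ≠ 1 → act wi a ≠ a ∧ act (wi * wt) a ≠ a) ∧
    (vz * (act wc vz)⁻¹ = xA ∨ vz * (act wc vz)⁻¹ = xA⁻¹) ∧ wt * wc * wt⁻¹ = wc⁻¹ ∧
    act wt vz = vz⁻¹ ∧ (∀ i j : Fin 3, (e1 ^ (i : ℕ) * xA ^ (j : ℕ)) = 1 → i = 0 ∧ j = 0) := by
  decide +kernel

/-- No element of odd order inverts a non-trivial element of odd order. -/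
theorem no_odd_invert {G : Type u} [Group G] {g x : G} {n : ℕ} (hn : Odd n) (hg : g ^ n = 1)
    (hi : g * x * g⁻¹ = x⁻¹) : x = x⁻¹ := by
  have h2 : ∀ m : ℕ, g ^ m * x * (g ^ m)⁻¹ = if Even m then x else x⁻¹ := fun m => by
    induction m with
    | zero => simp
    | succ m ih =>
      rw [pow_succ', mul_inv_rev, show g * g ^ m * x * ((g ^ m)⁻¹ * g⁻¹) = g * (g ^ m * x * (g ^ m)⁻¹) * g⁻¹ by
        group, ih]
      by_cases hm : Even m
      · rw [if_pos hm, hi, if_neg (by simpa [Nat.even_add_one] using hm)]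
      · rw [if_neg hm, ← conj_inv, hi, inv_inv, if_pos (by simpa [Nat.even_add_one] using hm)]
  have := h2 n
  rwa [hg, inv_one, one_mul, mul_one, if_neg (Nat.not_even_iff_odd.2 hn)] at this

namespace Conf

variable {G : Type u} [Group G] [Finite G] (h : Conf G)

/-- The conjugates of the given element in the Sylow subgroup. -/
theorem conj_x_of_two (F : h.Facts) (hk : h.k = .two) {g : G} (hg : g * h.x * g⁻¹ ∈ h.S) :
    g * h.x * g⁻¹ = h.x ∨ g * h.x * g⁻¹ = h.x⁻¹ := by
  obtain ⟨m1, m2, -⟩ := two_model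
  have h3 : (g * h.x * g⁻¹) ^ 3 = 1 := by
    rw [conj_pow, h.J_cube _ (h.j_mem xA), mul_one, mul_inv_cancel]
  have hJ : ∀ g : G, g * h.x * g⁻¹ ∈ h.J → g * h.x * g⁻¹ = h.x ∨ g * h.x * g⁻¹ = h.x⁻¹ := fun g ⟨v, hv⟩ => by
    obtain ⟨w, hw, hwv⟩ := F.ctrl g xA v xA_ne hv.symm
    rcases m1 w (hk ▸ hw) with e | e <;> rw [e] at hwv <;> rw [← hv, ← hwv]
    · exact Or.inl rfl
    · exact Or.inr (map_inv h.j xA)
  rcases h.S_three hg h3 with e | e
  · exact hJ g e
  by_cases hz : g * h.x * g⁻¹ ∈ zpowers h.x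
  · exact hJ g (zpowers_le.2 (h.j_mem xA) hz)
  obtain ⟨c, -, hc⟩ := h.R_fuse e hz
  obtain ⟨w, hw, hwv⟩ := F.ctrl (c * g) xA vz xA_ne (by rw [← hc]; group)
  exact absurd hwv (m2 w (hk ▸ hw))

/-- The normaliser of the line. -/
abbrev lineH : Subgroup G := normalizer (zpowers h.x : Set G)

theorem lineH_cases {g : G} (hg : g ∈ h.lineH) : g * h.x * g⁻¹ = h.x ∨ g * h.x * g⁻¹ = h.x⁻¹ := by
  have hm : g * h.x * g⁻¹ ∈ zpowers h.x := (mem_normalizer_iff.1 hg h.x).1 (mem_zpowers _)
  rcases A9ThreeLocal.zpowers_three_cases (h.J_cube _ (h.j_mem xA)) hm with e | e | e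
  · exact absurd (conj_eq_one_iff.1 e) (h.j_ne xA_ne)
  · exact Or.inl e
  · exact Or.inr e

theorem mem_lineH {g : G} (hg : g * h.x * g⁻¹ = h.x ∨ g * h.x * g⁻¹ = h.x⁻¹) : g ∈ h.lineH := by
  have hmap : (zpowers h.x).map (MulAut.conj g).toMonoidHom = zpowers h.x := by
    rw [MonoidHom.map_zpowers]
    rcases hg with e | e <;> rw [show (MulAut.conj g).toMonoidHom h.x = g * h.x * g⁻¹ from rfl, e]
    exact zpowers_inv
  refine mem_normalizer_fintype fun y hy => ?_
  rw [SetLike.mem_coe, ← hmap]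
  exact ⟨y, hy, rfl⟩

include h in
/-- The centraliser of the exchange normalises the line. -/
theorem ctau_le_lineH (F : h.Facts) (hk : h.k = .two) : h.ctau ≤ h.lineH := by
  classical
  haveI : Fact (Nat.Prime 3) := ⟨Nat.prime_three⟩
  obtain ⟨-, -, hnX, -, hix, hit, hiK, -, hfix, he1x, he1x', he10⟩ := two_model
  obtain ⟨hstab, hnofix, -, -, -, hindep⟩ := two_stab
  have hiK' : inK h.k wi := hk ▸ hiK
  have tl : ∀ (v : A), act wt v = v → h.j v ∈ h.ctau := fun v hv => by
    refine mem_centralizer_singleton_iff.2 (Eq.symm (mul_inv_eq_iff_eq_mul.1 ?_))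
    exact (h.conj_j _ v).trans (congrArg h.j hv)
  set JT : Subgroup h.ctau := h.J.subgroupOf h.ctau with hJT
  set E : Subgroup h.TX := JT.map h.prT with hE
  have hfixA : ∀ a : h.ctau, (a : G) ∈ h.J → ∃ v : A, act wt v = v ∧ h.j v = (a : G) := fun a ⟨v, hv⟩ => by
    refine ⟨v, h.j_inj ?_, hv⟩
    have := (mem_centralizer_singleton_iff.1 a.2).symm
    rw [← hv] at this
    exact (h.conj_j ⟨wt, inK_wt h.k⟩ v).symm.trans (mul_inv_eq_iff_eq_mul.2 this)
  set tC : h.ctau := ⟨h.q ⟨wi, hiK'⟩, mem_centralizer_singleton_iff.2 (by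
    show h.q _ * h.q _ = h.q _ * h.q _
    rw [← map_mul, ← map_mul]
    exact congrArg h.q (Subtype.ext hit))⟩ with htC
  set eX : h.ctau := ⟨h.x, mem_centralizer_singleton_iff.2 h.tau_comm_x.symm⟩
  set vX : h.ctau := ⟨h.j e1, tl e1 tau_facts.1⟩
  have hcube : ∀ a : h.ctau, (a : G) ∈ h.J → (a : G) ^ 3 = 1 := fun a ha => h.J_cube _ ha
  -- elements of the normaliser
  have hN : ∀ d : h.ctau, (d : G) ∈ h.N → ∃ (c : A) (w : KG h.k), (d : G) = h.j c * h.q w ∧
      ((w : W) = 1 ∨ (w : W) = wt ∨ (w : W) = wi ∨ (w : W) = wi * wt) ∧ act wt c = c ∧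
      ∀ b, (d : G) * h.j b * (d : G)⁻¹ = h.j (act w b) := by
    intro d hd
    obtain ⟨w, hw, c, hdc⟩ := h.exists_act hd
    have e : (inlA h.k c * inrK h.k w) * inrK h.k ⟨wt, inK_wt h.k⟩ =
        inrK h.k ⟨wt, inK_wt h.k⟩ * (inlA h.k c * inrK h.k w) := h.inj (by
      rw [map_mul, map_mul _ (inrK h.k _), map_mul]
      show h.j c * h.q w * h.tau = h.tau * (h.j c * h.q w)
      rw [← hdc]; exact mem_centralizer_singleton_iff.1 d.2)
    have e3 := congrArg Subtype.val e
    change (SemidirectProduct.inl c * SemidirectProduct.inr (w : W) * SemidirectProduct.inr wt : Mf) =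
      SemidirectProduct.inr wt * (SemidirectProduct.inl c * SemidirectProduct.inr (w : W)) at e3
    have hr := congrArg SemidirectProduct.right e3
    have hl := congrArg SemidirectProduct.left e3
    simp at hl hr
    exact ⟨c, w, hdc, hstab w (hk ▸ w.2) hr, hl.symm, hw⟩
  have htN : ∀ d : h.ctau, (d : G) ∈ h.N → h.prT d ∈ E ∨ h.prT d * h.prT tC ∈ E := by
    intro d hd
    obtain ⟨c, w, hdc, hw, hc, -⟩ := hN d hd
    have hcm : h.prT ⟨h.j c, tl c hc⟩ ∈ E := ⟨_, h.j_mem c, rfl⟩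
    have hqq : ∀ (a : W) (ha : inK h.k a), (w : W) = a → (d : G) = h.j c * h.q ⟨a, ha⟩ := fun a ha e => by
      rw [hdc, show w = ⟨a, ha⟩ from Subtype.ext e]
    have ht2 : tC * tC = 1 := Subtype.ext (by
      show h.q _ * h.q _ = 1
      rw [← map_mul, show (⟨wi, hiK'⟩ * ⟨wi, hiK'⟩ : KG h.k) = 1 from
        Subtype.ext (show wi * wi = 1 by decide +kernel), map_one])
    have ht2' : h.prT tC * h.prT tC = 1 := by rw [← map_mul, ht2, map_one]
    rcases hw with e | e | e | e
    · left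
      rw [show d = ⟨h.j c, tl c hc⟩ from Subtype.ext (by rw [hdc, show w = 1 from Subtype.ext e, map_one, mul_one])]
      exact hcm
    · left
      rw [show d = ⟨h.j c, tl c hc⟩ * h.tauC from Subtype.ext (hqq wt (inK_wt h.k) e), map_mul, h.prT_tau, mul_one]
      exact hcm
    · right
      rw [show d = ⟨h.j c, tl c hc⟩ * tC from Subtype.ext (hqq wi hiK' e), map_mul, mul_assoc, ht2', mul_one]
      exact hcm
    · right
      rw [show d = ⟨h.j c, tl c hc⟩ * (tC * h.tauC) from Subtype.ext (by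
          rw [hdc, show w = ⟨wi, hiK'⟩ * ⟨wt, inK_wt h.k⟩ from Subtype.ext e, map_mul h.q]; rfl),
        map_mul, map_mul, h.prT_tau, mul_one, mul_assoc, ht2', mul_one]
      exact hcm
  have hnorm : ∀ g ∈ normalizer (E : Set h.TX), g ∈ E ∨ g * h.prT tC ∈ E := by
    intro g hg
    obtain ⟨d, rfl⟩ := h.prT_surj g
    have hconj : ∀ v : A, act wt v = v → ∃ b : A, (d : G) * h.j v * (d : G)⁻¹ = h.j b := fun v hv => by
      obtain ⟨a, ha, e⟩ := (mem_normalizer_iff.1 hg (h.prT ⟨h.j v, tl v hv⟩)).1 ⟨_, h.j_mem v, rfl⟩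
      obtain ⟨b, hb⟩ := (show (a : G) ∈ h.J from ha)
      rw [← map_inv, ← map_mul, ← map_mul] at e
      have := h.prT_cube (hcube a ha) (b := d * ⟨h.j v, tl v hv⟩ * d⁻¹) (by
        rw [Subgroup.coe_mul, Subgroup.coe_mul, Subgroup.coe_inv, conj_pow, h.J_cube _ (h.j_mem v), mul_one,
          mul_inv_cancel]) e
      exact ⟨b, by rw [hb, this]; rfl⟩
    obtain ⟨b, hb⟩ := hconj xA (show act wt xA = xA by decide +kernel)
    have hx : (d : G) * h.x * (d : G)⁻¹ = h.x ∨ (d : G) * h.x * (d : G)⁻¹ = h.x⁻¹ :=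
      h.conj_x_of_two F hk (h.J_le_S (by
        show (d : G) * h.j xA * (d : G)⁻¹ ∈ h.J
        rw [hb]; exact h.j_mem b))
    -- correct by the central sign
    have hfix' : ∀ d' : h.ctau, (d' : G) * h.x * (d' : G)⁻¹ = h.x →
        (∀ v : A, act wt v = v → ∃ b : A, (d' : G) * h.j v * (d' : G)⁻¹ = h.j b) → (d' : G) ∈ h.N := by
      intro d' hx' hc'
      obtain ⟨b1, hb1⟩ := hc' e1 tau_facts.1
      obtain ⟨w, hw, hwb⟩ := F.ctrl _ e1 b1 he10 hb1
      refine h.mem_N_iff.2 fun u => ?_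
      have hb1x : b1 ∉ zpowers xA := fun hm => by
        rcases A9ThreeLocal.zpowers_three_cases (A_cube xA) hm with e | e | e <;> rw [e] at hb1
        · exact h.j_ne he10 (conj_eq_one_iff.1 (hb1.trans (map_one _)))
        · exact he1x (h.j_inj (mul_left_cancel (mul_right_cancel (hb1.trans hx'.symm))))
        · refine he1x' (h.j_inj ?_)
          rw [map_inv, ← inv_eq_iff_eq_inv]
          refine mul_left_cancel (a := (d' : G)) (mul_right_cancel (b := (d' : G)⁻¹) ?_)
          rw [← conj_inv, hb1, map_inv, inv_inv]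
          exact hx'.symm
      have hm : (d' : G) * h.j u * (d' : G)⁻¹ ∈ h.N := F.pair xA b1 xA_ne hb1x ⟨
        mem_centralizer_singleton_iff.2 (by
          show _ * h.x = h.x * _
          rw [← hx']; exact ((show Commute (h.j u) (h.j xA) from h.j_comm u xA).conj (d' : G)).eq),
        mem_centralizer_singleton_iff.2 (by
          rw [← hb1]; exact ((show Commute (h.j u) (h.j e1) from h.j_comm u e1).conj (d' : G)).eq)⟩
      obtain ⟨z, hz, c, he⟩ := h.exists_act hm
      have hz3 : (z : W) ^ 3 = 1 := by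
        have h1 := h.inj (a₁ := (inlA h.k c * inrK h.k z) ^ 3) (a₂ := 1) (by
          rw [map_pow, map_mul, map_one]
          show (h.j c * h.q z) ^ 3 = 1
          rw [← he, conj_pow, h.J_cube _ (h.j_mem u), mul_one, mul_inv_cancel])
        exact right_pow_one h1
      have hzb : act z b1 = b1 := h.j_inj (by
        rw [← hz, ← hb1]
        calc (d' : G) * h.j u * (d' : G)⁻¹ * ((d' : G) * h.j e1 * (d' : G)⁻¹) *
              ((d' : G) * h.j u * (d' : G)⁻¹)⁻¹ = (d' : G) * (h.j u * h.j e1 * (h.j u)⁻¹) * (d' : G)⁻¹ := by group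
          _ = _ := by rw [h.j_comm, mul_inv_cancel_right])
      have hz1 : z = 1 := Subtype.ext
        (fix_pair _ (hk ▸ z.2) hz3 b1
          (hfix b1 (h.j_inj (by
            rw [show h.j (act wt b1) = h.tau * h.j b1 * h.tau⁻¹ from (h.conj_j ⟨wt, inK_wt h.k⟩ b1).symm, ← hb1]
            have ct : Commute h.tau ((d' : G) * h.j e1 * (d' : G)⁻¹) :=
              (mem_centralizer_singleton_iff.1 (show (d' : G) * h.j e1 * (d' : G)⁻¹ ∈ h.ctau from
                mul_mem (mul_mem d'.2 (tl e1 tau_facts.1)) (inv_mem d'.2))).symm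
            rw [ct.eq, mul_inv_cancel_right])))
          (fun hm => hb1x (by
            simp only [Finset.mem_insert, Finset.mem_singleton] at hm
            rcases hm with rfl | rfl | rfl
            · exact one_mem _
            · exact mem_zpowers _
            · exact mul_mem (mem_zpowers _) (mem_zpowers _))) hzb)
      exact ⟨c, by rw [he, hz1, map_one, mul_one]⟩
    have hN' : (d : G) ∈ h.N := by
      rcases hx with e | e
      · exact hfix' d e hconj
      · have hd : ((d * tC : h.ctau) : G) ∈ h.N := by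
          refine hfix' _ ?_ fun v hv => ?_
          · show (d : G) * h.q _ * h.x * ((d : G) * h.q _)⁻¹ = h.x
            rw [show (d : G) * h.q ⟨wi, hiK'⟩ * h.x * ((d : G) * h.q ⟨wi, hiK'⟩)⁻¹ =
              (d : G) * (h.q ⟨wi, hiK'⟩ * h.j xA * (h.q ⟨wi, hiK'⟩)⁻¹) * (d : G)⁻¹ by group, h.conj_j]
            show (d : G) * h.j (act wi xA) * (d : G)⁻¹ = h.x
            rw [hix, map_inv, ← conj_inv, e, inv_inv]
          · have hv' : act wt (act wi v) = act wi v := by rw [← act_mul, ← hit, act_mul, hv]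
            obtain ⟨b', hb'⟩ := hconj (act wi v) hv'
            refine ⟨b', ?_⟩
            show (d : G) * h.q _ * h.j v * ((d : G) * h.q _)⁻¹ = h.j b'
            rw [← hb', show h.j (act wi v) = h.q ⟨wi, hiK'⟩ * h.j v * (h.q ⟨wi, hiK'⟩)⁻¹ from
              (h.conj_j ⟨wi, hiK'⟩ v).symm]
            group
        have := mul_mem hd (inv_mem (show (tC : G) ∈ h.N from h.q_mem_N _))
        rwa [Subgroup.coe_mul, mul_inv_cancel_right] at this
    exact htN d hN'
  have hlone : A9ThreeLocal.Lone E (h.prT eX) (h.prT vX) (h.prT tC) := by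
    refine { comm := ?_, cube := ?_, card := ?_, e_mem := ⟨_, h.j_mem _, rfl⟩, v_mem := ⟨_, h.j_mem _, rfl⟩,
             e_ne := ?_, v_not := ?_, inv := ?_, norm := hnorm, cent := ?_, cover := ?_ }
    · rintro _ ⟨a, ha, rfl⟩ _ ⟨b, hb, rfl⟩
      rw [← map_mul, ← map_mul, show a * b = b * a from Subtype.ext (h.J_comm _ ha _ hb)]
    · rintro _ ⟨a, ha, rfl⟩
      rw [← map_pow, show a ^ 3 = 1 from Subtype.ext (hcube a ha), map_one]
    · have hinj : Function.Injective (h.prT.subgroupMap JT) := fun a b e => Subtype.ext (Subtype.ext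
        (h.prT_cube (hcube _ a.2) (hcube _ b.2) (congrArg Subtype.val e)))
      rw [hE, ← Nat.card_congr (MulEquiv.ofBijective _ ⟨hinj, h.prT.subgroupMap_surjective JT⟩).toEquiv,
        ← tau_vectors.2.2.2.2.1, ← Fintype.card_subtype, ← Nat.card_eq_fintype_card]
      exact (Nat.card_congr (Equiv.ofBijective
        (fun a : {a : A // act wt a = a} => (⟨⟨h.j a, tl a a.2⟩, h.j_mem _⟩ : JT))
        ⟨fun a b e => Subtype.ext (h.j_inj (congrArg (fun y : JT => ((y : h.ctau) : G)) e)), fun ⟨g, hg⟩ => by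
          obtain ⟨v, hv, e⟩ := hfixA g hg
          exact ⟨⟨v, hv⟩, Subtype.ext (Subtype.ext e)⟩⟩)).symm
    · intro e
      exact h.j_ne xA_ne (h.prT_cube (b := 1) (h.J_cube _ (h.j_mem xA)) (one_pow 3) (e.trans (map_one _).symm))
    · intro e
      rcases A9ThreeLocal.zpowers_three_cases (by
        rw [← map_pow, show eX ^ 3 = 1 from Subtype.ext (h.J_cube _ (h.j_mem xA)), map_one]) e with e' | e' | e'
      · exact h.j_ne he10 (h.prT_cube (b := 1) (h.J_cube _ (h.j_mem e1)) (one_pow 3) (e'.trans (map_one _).symm))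
      · exact he1x (h.j_inj (h.prT_cube (h.J_cube _ (h.j_mem e1)) (h.J_cube _ (h.j_mem xA)) e'))
      · exact he1x' (h.j_inj ((h.prT_cube (b := eX⁻¹) (h.J_cube _ (h.j_mem e1)) (by
          rw [Subgroup.coe_inv, inv_pow, h.J_cube _ (h.j_mem xA), inv_one]) (e'.trans (map_inv _ _).symm)).trans
          (map_inv h.j xA).symm))
    · rintro _ ⟨a, ha, rfl⟩
      rw [← map_inv, ← map_mul, ← map_mul, ← map_inv]
      refine congrArg _ (Subtype.ext ?_)
      obtain ⟨v, hv⟩ := ha
      show h.q _ * (a : G) * (h.q _)⁻¹ = (a : G)⁻¹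
      rw [show (a : G) = h.j v from hv.symm, h.conj_j]
      show h.j (act wi v) = _
      rw [wi_act, map_inv]
    · rintro _ ⟨a, ha, rfl⟩ hna
      obtain ⟨v, hv, hva⟩ := hfixA a ha
      have hv1 : v ≠ 1 := fun e => hna (by
        rw [show a = 1 from Subtype.ext (hva.symm.trans (by rw [e, map_one]; rfl)), map_one]; exact one_mem _)
      have hvx : v ≠ xA ∧ v ≠ xA⁻¹ := by
        constructor <;> intro e <;> refine hna ?_
        · rw [show a = eX from Subtype.ext (hva.symm.trans (by rw [e]; try rfl))]; exact mem_zpowers _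
        · rw [show a = eX⁻¹ from Subtype.ext (hva.symm.trans (by rw [e, map_inv]; try rfl)), map_inv]
          exact inv_mem (mem_zpowers _)
      refine le_antisymm (fun g hg => ?_) fun g hg => mem_centralizer_singleton_iff.2 ?_
      · obtain ⟨d, rfl⟩ := h.prT_surj g
        have hda := h.prT_comm (hcube a ha) (mem_centralizer_singleton_iff.1 hg)
        rw [← hva] at hda
        have hdN : (d : G) ∈ h.N := F.loc v hv1 (by rw [hk]; exact hnX v hv hv1 hvx.1 hvx.2)
          (fun he => by rw [hk] at he; exact absurd he.1 (by decide)) (mem_centralizer_singleton_iff.2 hda)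
        obtain ⟨c, w, hdc, hw, hc, hact⟩ := hN d hdN
        have hwv : act (w : W) v = v := h.j_inj (by rw [← hact, hda, mul_inv_cancel_right])
        have hcm : h.prT ⟨h.j c, tl c hc⟩ ∈ E := ⟨_, h.j_mem c, rfl⟩
        rcases hw with e | e | e | e
        · rw [show d = ⟨h.j c, tl c hc⟩ from Subtype.ext (by
            rw [hdc, show w = 1 from Subtype.ext e, map_one, mul_one])]
          exact hcm
        · rw [show d = ⟨h.j c, tl c hc⟩ * h.tauC from Subtype.ext (by
            rw [hdc, show w = ⟨wt, inK_wt h.k⟩ from Subtype.ext e]; rfl), map_mul, h.prT_tau, mul_one]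
          exact hcm
        · rw [e] at hwv; exact absurd hwv (hnofix v hv hv1).1
        · rw [e] at hwv; exact absurd hwv (hnofix v hv hv1).2
      · obtain ⟨b, hb, rfl⟩ := hg
        rw [← map_mul, ← map_mul, show b * a = a * b from Subtype.ext (h.J_comm _ hb _ ha)]
    · intro Q hQ
      have hp : IsPGroup 3 E := fun y => by
        obtain ⟨a, ha, e⟩ := y.2
        exact ⟨1, Subtype.ext (by
          rw [SubmonoidClass.coe_pow, ← e, pow_one, ← map_pow, show a ^ 3 = 1 from Subtype.ext (hcube a ha),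
            map_one]; rfl)⟩
      obtain ⟨T, hT⟩ := hp.exists_le_sylow
      have hTeq : (T : Subgroup h.TX) = E := by
        refine le_antisymm ?_ hT
        by_contra hne
        have hlt : E.subgroupOf (T : Subgroup h.TX) < ⊤ :=
          lt_top_iff_ne_top.2 fun e => hne (subgroupOf_eq_top.1 e)
        haveI : Group.IsNilpotent (T : Subgroup h.TX) := T.2.isNilpotent
        obtain ⟨g, hgN, hgT⟩ := SetLike.exists_of_lt (Group.normalizerCondition_of_isNilpotent _ hlt)
        rcases hnorm g (mem_normalizer_fintype fun y hy => (mem_normalizer_iff.1 hgN ⟨y, hT hy⟩).1 hy) with e | e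
        · exact hgT (mem_subgroupOf.2 e)
        · have htT : h.prT tC ∈ (T : Subgroup h.TX) := by
            have := mul_mem (inv_mem g.2) (hT e)
            rwa [inv_mul_cancel_left] at this
          obtain ⟨n, hn⟩ := T.2 ⟨_, htT⟩
          have h1 : h.prT tC = 1 := orderOf_eq_one_iff.1 (Nat.eq_one_of_dvd_coprimes
            ((show Nat.Coprime 3 2 by norm_num).pow_left n)
            (orderOf_dvd_of_pow_eq_one (by simpa using congrArg Subtype.val hn))
            (orderOf_dvd_of_pow_eq_one (by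
              rw [pow_two, ← map_mul, show tC * tC = 1 from Subtype.ext (by
                show h.q _ * h.q _ = 1
                rw [← map_mul, show (⟨wi, hiK'⟩ * ⟨wi, hiK'⟩ : KG h.k) = 1 from
                  Subtype.ext (show wi * wi = 1 by decide +kernel), map_one]), map_one])))
          rw [h1, mul_one] at e
          exact hgT (mem_subgroupOf.2 e)
      obtain ⟨R, hR⟩ := hQ.exists_le_sylow
      obtain ⟨c, hc⟩ := MulAction.exists_smul_eq h.TX R T
      refine ⟨c, fun a ha => ?_⟩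
      rw [← hTeq, ← hc, Sylow.coe_subgroup_smul]
      exact ⟨a, hR ha, rfl⟩
  -- counting
  have hcard := hlone.card_eq
  set HX : Subgroup h.TX := (h.lineH.subgroupOf h.ctau).map h.prT
  have hle : centralizer ({h.prT eX} : Set h.TX) ≤ HX := fun g hg => by
    obtain ⟨d, rfl⟩ := h.prT_surj g
    refine ⟨d, h.mem_lineH (Or.inl (mul_inv_eq_iff_eq_mul.2 ?_)), rfl⟩
    exact h.prT_comm (a := eX) (h.J_cube _ (h.j_mem xA)) (mem_centralizer_singleton_iff.1 hg)
  have htH : h.prT tC ∈ HX := ⟨tC, h.mem_lineH (Or.inr (by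
    show h.q _ * h.j xA * (h.q _)⁻¹ = (h.j xA)⁻¹
    rw [h.conj_j, ← map_inv]
    exact congrArg h.j hix)), rfl⟩
  have htn : h.prT tC ∉ centralizer ({h.prT eX} : Set h.TX) := fun hm => by
    have hc := h.prT_comm (a := eX) (h.J_cube _ (h.j_mem xA)) (mem_centralizer_singleton_iff.1 hm)
    have h2 : h.q ⟨wi, hiK'⟩ * h.j xA * (h.q ⟨wi, hiK'⟩)⁻¹ = h.j xA := mul_inv_eq_iff_eq_mul.2 hc
    rw [h.conj_j, h.j_inj.eq_iff] at h2
    exact two_model.2.2.2.2.2.2.2.1 (hix.symm.trans h2)
  have hlt : centralizer ({h.prT eX} : Set h.TX) < HX := lt_of_le_of_ne hle fun e => htn (e ▸ htH)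
  have htop : HX = ⊤ := by
    refine index_eq_one.1 ?_
    have h2 : (centralizer ({h.prT eX} : Set h.TX)).index = 2 := by
      have h1 := (centralizer ({h.prT eX} : Set h.TX)).card_mul_index
      rw [hcard, mul_comm 2] at h1
      exact Nat.eq_of_mul_eq_mul_left Nat.card_pos h1
    have h3 := index_strictAnti hlt
    have h4 : HX.index ≠ 0 := index_ne_zero_of_finite
    omega
  intro g hg
  obtain ⟨d, hd, e⟩ := (htop ▸ mem_top _ : h.prT ⟨g, hg⟩ ∈ HX)
  rcases h.prT_eq e.symm with e1 | e1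
  · rw [show g = d from e1]; exact hd
  · rw [show g = d * h.tau from e1]
    exact mul_mem hd (h.mem_lineH (Or.inl (mul_inv_eq_iff_eq_mul.2 h.tau_comm_x)))

/-- The exchange is isolated. -/
theorem tau_isolated (F : h.Facts) (hk : h.k = .two) : Cfsg.IsIsolatedInvolution h.tau := by
  haveI : Fact (Nat.Prime 2) := ⟨Nat.prime_two⟩
  refine ⟨orderOf_eq_prime (by rw [pow_two, h.tau_sq']) h.tau_ne', fun g hg => ?_⟩
  set a := g * h.tau * g⁻¹ with ha
  have ha2 : a * a = 1 := by
    rw [ha, show g * h.tau * g⁻¹ * (g * h.tau * g⁻¹) = g * (h.tau * h.tau) * g⁻¹ by group, h.tau_sq', mul_one,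
      mul_inv_cancel]
  have ha1 : a ≠ 1 := fun e => h.tau_ne' (conj_eq_one_iff.1 e)
  have hax : a * h.x = h.x * a := by
    rcases h.lineH_cases (h.ctau_le_lineH F hk (mem_centralizer_singleton_iff.2 hg.symm.eq)) with e | e
    · exact mul_inv_eq_iff_eq_mul.1 e
    · rw [inv_eq_of_mul_eq_one_right ha2] at e
      exact absurd (isConj_iff.2 ⟨g, rfl⟩)
        (h.not_conj_tau (h.noX_of_inv' F (by rw [hk]; exact two_model.2.2.2.1) ha2 e))
  obtain ⟨r, hr, hra⟩ := h.exists_conj_tau hax ha2 ha1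
  set m := a * h.tau with hm
  have hc : Commute a h.tau := hg.symm
  have hm2 : m * m = 1 := by
    rw [hm, mul_assoc, ← mul_assoc h.tau, ← hc.eq, mul_assoc a h.tau h.tau, h.tau_sq', mul_one, ha2]
  have hmR : m ∈ h.R := by
    rw [hm, ← hra, mul_assoc, mul_assoc]
    refine mul_mem hr ?_
    have := h.R_normal h.tau_comm_x (inv_mem hr)
    rwa [inv_eq_of_mul_eq_one_right h.tau_sq', mul_assoc] at this
  have h3 := h.cubeR m hmR
  rw [pow_succ, pow_two, hm2, one_mul] at h3
  rw [hm, mul_eq_one_iff_eq_inv, inv_eq_of_mul_eq_one_right h.tau_sq'] at h3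
  exact h3

/-- The kind with the central sign only. -/
theorem line_of_two (F : h.Facts) (hk : h.k = .two) : normalizer (zpowers h.x : Set G) = ⊤ := by
  classical
  haveI : Fact (Nat.Prime 3) := ⟨Nat.prime_three⟩
  obtain ⟨-, -, hxc, htc, htv, -⟩ := two_stab
  set O : Subgroup G := Cfsg.oddCore G with hO
  haveI hOn : O.Normal := Core.pPrimeCore_normal
  have hOodd : Odd (Nat.card O) :=
    Nat.not_even_iff_odd.1 fun he => Nat.prime_two.not_dvd_one (by
      have hc : (Nat.card O).Coprime 2 := Core.coprime_card_pPrimeCore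
      rw [← hc.gcd_eq_one]; exact Nat.dvd_gcd he.two_dvd dvd_rfl)
  have hz := Invol.zstar (h.tau_isolated F hk)
  -- the extraspecial subgroup
  have hcO : h.cyc ∈ O := by
    have := hz h.cyc
    rw [show h.tau * h.cyc * h.tau⁻¹ = h.cyc⁻¹ by
      show h.q _ * h.q _ * (h.q _)⁻¹ = (h.q _)⁻¹
      rw [← map_inv, ← map_mul, ← map_mul, ← map_inv]
      exact congrArg h.q (Subtype.ext htc)] at this
    have h3 := h.cubeR h.cyc h.R_gens.2
    have e : h.cyc⁻¹ * h.cyc⁻¹ = h.cyc := by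
      rw [← mul_inv_rev, inv_eq_iff_mul_eq_one, ← pow_three']; exact h3
    rwa [e] at this
  have hvO : h.j vz ∈ O := by
    have := hz (h.j vz)
    rw [show h.tau * h.j vz * h.tau⁻¹ = (h.j vz)⁻¹ from
      (h.conj_j _ vz).trans ((congrArg h.j htv).trans (map_inv h.j vz))] at this
    have h3 := h.J_cube _ (h.j_mem vz)
    have e : (h.j vz)⁻¹ * (h.j vz)⁻¹ = h.j vz := by
      rw [← mul_inv_rev, inv_eq_iff_mul_eq_one, ← pow_three']; exact h3
    rwa [e] at this
  set vO : O := ⟨h.j vz, hvO⟩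
  set cO : O := ⟨h.cyc, hcO⟩
  have hxcomm : h.x ∈ (commutator O).map O.subtype := by
    have hm : (vO * cO * vO⁻¹ * cO⁻¹ : O) ∈ commutator O :=
      commutator_mem_commutator (mem_top vO) (mem_top cO)
    have e : ((vO * cO * vO⁻¹ * cO⁻¹ : O) : G) = h.j (vz * (act wc vz)⁻¹) := by
      show h.j vz * h.cyc * (h.j vz)⁻¹ * h.cyc⁻¹ = _
      rw [map_mul, map_inv, show h.j (act wc vz) = h.cyc * h.j vz * h.cyc⁻¹ from (h.conj_j ⟨wc, inK_wc h.k⟩ vz).symm]
      group
    rcases hxc with e' | e' <;> rw [e'] at e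
    · exact ⟨_, hm, e⟩
    · refine ⟨_, inv_mem hm, ?_⟩
      show ((vO * cO * vO⁻¹ * cO⁻¹ : O) : G)⁻¹ = _
      rw [e, map_inv, inv_inv]
  have hxO : h.x ∈ O := map_subtype_le _ hxcomm
  have hRO : h.R ≤ O := by
    have hle : zpowers h.x ⊔ zpowers (h.j vz) ⊔ zpowers h.cyc ≤ h.R ⊓ O := sup_le (sup_le
      (zpowers_le.2 ⟨h.x_mem_R, hxO⟩) (zpowers_le.2 ⟨h.R_gens.1, hvO⟩)) (zpowers_le.2 ⟨h.R_gens.2, hcO⟩)
    have hJ : zpowers h.x ⊔ zpowers (h.j vz) ≤ h.J := sup_le (zpowers_le.2 (h.j_mem _)) (zpowers_le.2 (h.j_mem _))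
    have h9 : 9 ≤ Nat.card (zpowers h.x ⊔ zpowers (h.j vz) : Subgroup G) := by
      have hnz : h.j vz ∉ zpowers h.x := fun hm => by
        obtain ⟨n, hn⟩ := mem_zpowers_iff.1 hm
        rw [← map_zpow, h.j_inj.eq_iff] at hn
        have h3 := xz_stab.2.2
        rcases A9ThreeLocal.zpowers_three_cases (A_cube xA) (mem_zpowers_iff.2 ⟨n, hn⟩) with e | e | e <;>
          rw [e] at h3
        · exact h3 (by simp)
        · exact h3 (by simp)
        · exact h3 (by simp [xA_sq])
      have hlt : zpowers h.x < zpowers h.x ⊔ zpowers (h.j vz) :=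
        lt_of_le_of_ne le_sup_left fun e => hnz (e ▸ mem_sup_right (mem_zpowers _))
      have hd := card_dvd_of_le hlt.le
      have hdJ := card_dvd_of_le hJ
      rw [Nat.card_zpowers, h.order_j xA_ne] at hd
      rw [h.J_card] at hdJ
      have hne : Nat.card (zpowers h.x ⊔ zpowers (h.j vz) : Subgroup G) ≠ 3 := fun e => hlt.ne
        (eq_of_le_of_card_ge hlt.le (by rw [e, Nat.card_zpowers, h.order_j xA_ne]))
      rcases (Nat.dvd_prime_pow Nat.prime_three (m := 3)).1 (by simpa using hdJ) with ⟨i, hi, e⟩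
      interval_cases i <;> omega
    have hcJ : h.cyc ∉ zpowers h.x ⊔ zpowers (h.j vz) := fun hm => by
      obtain ⟨a, ha⟩ := hJ hm
      have h1 : inlA h.k a = inrK h.k ⟨wc, inK_wc h.k⟩ := h.inj ha
      exact rel_vec.2.2.2.2 (congrArg (fun m : Mk h.k => (m : Mf).right) h1).symm
    set U := zpowers h.x ⊔ zpowers (h.j vz)
    have hlt : U < U ⊔ zpowers h.cyc :=
      lt_of_le_of_ne le_sup_left fun e => hcJ (e ▸ mem_sup_right (mem_zpowers _))
    have hd := card_dvd_of_le (hle.trans inf_le_left)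
    rw [h.cardR] at hd
    have h27 : 27 ≤ Nat.card (U ⊔ zpowers h.cyc : Subgroup G) := by
      have hne : Nat.card U < Nat.card (U ⊔ zpowers h.cyc : Subgroup G) := lt_of_le_of_ne (card_le_of_le hlt.le)
        fun e => hlt.ne (eq_of_le_of_card_ge hlt.le e.ge)
      rcases (Nat.dvd_prime_pow Nat.prime_three (m := 3)).1 (by simpa using hd) with ⟨i, hi, e⟩
      interval_cases i <;> omega
    exact (eq_of_le_of_card_ge (hle.trans inf_le_left) (by rw [h.cardR]; exact h27)).ge.trans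
      (hle.trans inf_le_right)
  -- elements of odd order normalising the line centralise it
  have hcent : ∀ g ∈ O, g * h.x * g⁻¹ = h.x ∨ g * h.x * g⁻¹ = h.x⁻¹ → g * h.x = h.x * g := by
    intro g hg e
    rcases e with e | e
    · exact mul_inv_eq_iff_eq_mul.1 e
    · exfalso
      have := no_odd_invert hOodd (congrArg Subtype.val (pow_card_eq_one' (x := (⟨g, hg⟩ : O)))) e
      exact two_model.2.2.2.2.2.2.2.1 (h.j_inj (this.trans (map_inv h.j xA).symm)).symm
  set C := centralizer ({h.x} : Set G)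
  obtain ⟨f, hfs, hf⟩ := h.projX'
  have hOC : ∀ g ∈ O, g * h.x = h.x * g → g ∈ h.R := by
    intro g hgO hgx
    set OC : Subgroup C := O.subgroupOf C
    set gC : C := ⟨g, mem_centralizer_singleton_iff.2 hgx⟩
    by_contra hgR
    have hne : f gC ≠ 1 := fun e => hgR ((hf gC).1 e)
    set I : Subgroup PSp43Amalgam.SL3 := OC.map f
    have hIodd : Odd (Nat.card I) :=
      hOodd.of_dvd_nat ((Subgroup.card_map_dvd OC f).trans
        (Subgroup.card_comap_dvd_of_injective O C.subtype C.subtype_injective))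
    have hgI : f gC ∈ I := ⟨gC, hgO, rfl⟩
    have h3 : f gC ^ 3 = 1 := by
      have hd : orderOf (f gC) ∣ Nat.gcd (Nat.card I) (Nat.card PSp43Amalgam.SL3) :=
        Nat.dvd_gcd (Subgroup.orderOf_dvd_natCard _ hgI) (orderOf_dvd_natCard _)
      rw [sl3_card] at hd
      have hcop : Nat.Coprime (Nat.card I) 8 := by
        rw [show (8 : ℕ) = 2 ^ 3 from rfl]
        exact (Nat.coprime_two_right.2 hIodd).pow_right 3
      exact orderOf_dvd_iff_pow_eq_one.1 ((hcop.coprime_dvd_left (hd.trans (Nat.gcd_dvd_left _ _))).dvd_of_dvd_mul_left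
        (show orderOf (f gC) ∣ 8 * 3 from hd.trans (Nat.gcd_dvd_right _ _)))
    obtain ⟨S, hS4, hS2, -⟩ := sl3_minus
    have hss : S * S * (S * S) = 1 := by rw [← hS4]; simp [pow_succ, mul_assoc]
    obtain ⟨⟨X, hX⟩, -, -⟩ := sl3_cube _ h3 hne (S * S) hss hS2
    have hmem : S * S ∈ I := by
      obtain ⟨c, rfl⟩ := hfs X
      have hconj : f (c * gC * c⁻¹) ∈ I := ⟨c * gC * c⁻¹, hOn.conj_mem _ hgO (c : G), rfl⟩
      rw [map_mul, map_mul, map_inv] at hconj
      rcases hX with e | e <;> rw [← e] <;> exact pow_mem (mul_mem hgI hconj) _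
    haveI : Fact (Nat.Prime 2) := ⟨Nat.prime_two⟩
    have := Subgroup.orderOf_dvd_natCard _ hmem
    rw [orderOf_eq_prime (by rw [pow_two, hss]) hS2] at this
    exact (Nat.not_even_iff_odd.2 hIodd) (even_iff_two_dvd.2 this)
  -- the Sylow subgroup
  set RO : Subgroup O := h.R.subgroupOf O with hRO'
  have hRp : IsPGroup 3 RO := fun r => ⟨1, Subtype.ext (Subtype.ext (by
    rw [SubmonoidClass.coe_pow, SubmonoidClass.coe_pow, pow_one]; exact h.cubeR _ r.2))⟩
  set xO : O := ⟨h.x, hxO⟩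
  obtain ⟨P, hP⟩ := hRp.exists_le_sylow
  have hPR : (P : Subgroup O) = RO := by
    refine le_antisymm ?_ hP
    by_contra hne
    have hlt : RO.subgroupOf (P : Subgroup O) < ⊤ := lt_top_iff_ne_top.2 fun e => hne (subgroupOf_eq_top.1 e)
    haveI : Group.IsNilpotent (P : Subgroup O) := P.2.isNilpotent
    obtain ⟨g, hgN, hgR⟩ := SetLike.exists_of_lt (Group.normalizerCondition_of_isNilpotent _ hlt)
    set g' : G := ((g : O) : G) with hg'
    have hnR : ∀ r ∈ h.R, g' * r * g'⁻¹ ∈ h.R ∧ g'⁻¹ * r * g' ∈ h.R := fun r hr =>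
      ⟨(mem_normalizer_iff.1 hgN ⟨⟨r, hRO hr⟩, hP (show (⟨r, hRO hr⟩ : O) ∈ RO from hr)⟩).1 hr, by
        have := (mem_normalizer_iff.1 (inv_mem hgN) ⟨⟨r, hRO hr⟩, hP (show (⟨r, hRO hr⟩ : O) ∈ RO from hr)⟩).1 hr
        change g'⁻¹ * r * g'⁻¹⁻¹ ∈ h.R at this
        rwa [inv_inv] at this⟩
    have hmem : g' * h.x * g'⁻¹ ∈ zpowers h.x := (h.centerR' _).2 ⟨(hnR _ h.x_mem_R).1, fun s hs => by
      have h1 := ((h.centerR' h.x).1 (mem_zpowers _)).2 _ (hnR s hs).2
      calc g' * h.x * g'⁻¹ * s = g' * (h.x * (g'⁻¹ * s * g')) * g'⁻¹ := by group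
        _ = s * (g' * h.x * g'⁻¹) := by rw [h1]; group⟩
    have hgx : g' * h.x = h.x * g' := hcent g' (g : O).2 (by
      rcases A9ThreeLocal.zpowers_three_cases (h.J_cube _ (h.j_mem xA)) hmem with e | e | e
      · exact absurd (conj_eq_one_iff.1 e) (h.j_ne xA_ne)
      · exact Or.inl e
      · exact Or.inr e)
    exact hgR (mem_subgroupOf.2 (mem_subgroupOf.2 (hOC g' (g : O).2 hgx)))
  set Z := zpowers xO
  have hxP : xO ∈ (P : Subgroup O) := hP h.x_mem_R
  have hZc : Z ≤ centralizer ((P : Subgroup O) : Set O) := zpowers_le.2 (mem_centralizer_iff.2 fun p hp => by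
    have hp' : p ∈ RO := hPR ▸ (show p ∈ (P : Subgroup O) from hp)
    exact Subtype.ext (h.x_comm_R hp'))
  have hconjO : ∀ g : O, g * xO * g⁻¹ ∈ (P : Subgroup O) → g * xO * g⁻¹ = xO := fun g hg => by
    rw [hPR] at hg
    refine Subtype.ext ?_
    show (g : G) * h.x * (g : G)⁻¹ = h.x
    exact mul_inv_eq_iff_eq_mul.2 (hcent g g.2 (h.conj_x_of_two F hk (h.R_le_S hg)))
  have hW : Cfsg.IsWeaklyClosed Z (P : Subgroup O) := by
    refine ⟨zpowers_le.2 hxP, fun g hg => ?_⟩
    have e := hconjO g (hg ⟨xO, mem_zpowers _, rfl⟩)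
    rw [MonoidHom.map_zpowers]
    exact congrArg zpowers e
  have hNZ : normalizer (Z : Set O) ≤ RO := by
    intro g hg
    have hm : g * xO * g⁻¹ ∈ Z := (mem_normalizer_iff.1 hg xO).1 (mem_zpowers _)
    have e := congrArg Subtype.val (hconjO g (zpowers_le.2 hxP hm))
    exact hOC g g.2 (mul_inv_eq_iff_eq_mul.1 e)
  set M := commutator O
  have hMP : M ⊓ RO ≤ Z := by
    intro m hm
    have hm' : m ∈ commutator O ⊓ (P : Subgroup O) := ⟨hm.1, hPR.symm ▸ hm.2⟩
    rw [S0077.result P Z hZc hW] at hm'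
    refine (commutator_le.2 fun a ha b hb => ?_) hm'.1
    obtain ⟨n, hn⟩ := mem_zpowers_iff.1 (h.R_comm (hNZ ha) (hNZ hb))
    exact mem_zpowers_iff.2 ⟨n, Subtype.ext (by rw [SubgroupClass.coe_zpow]; exact hn)⟩
  have hxM : xO ∈ M := by
    obtain ⟨m, hm, e⟩ := hxcomm
    rwa [show m = xO from Subtype.ext e] at hm
  set xM : M := ⟨xO, hxM⟩
  have hZp : IsPGroup 3 (zpowers xM) :=
    IsPGroup.of_card (n := 1) (by rw [Nat.card_zpowers, orderOf_mk, orderOf_mk, h.order_j xA_ne, pow_one])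
  obtain ⟨Q, hQ⟩ := hZp.exists_le_sylow
  have hQeq : (Q : Subgroup M) = zpowers xM := by
    refine le_antisymm ?_ hQ
    intro q hq
    obtain ⟨P', hP'⟩ := (Q.2.map M.subtype).exists_le_sylow
    by_contra hqn
    have hlt : (zpowers xM).subgroupOf (Q : Subgroup M) < ⊤ := lt_top_iff_ne_top.2 fun e =>
      hqn (subgroupOf_eq_top.1 e hq)
    haveI : Group.IsNilpotent (Q : Subgroup M) := Q.2.isNilpotent
    obtain ⟨g, hgN, hgx⟩ := SetLike.exists_of_lt (Group.normalizerCondition_of_isNilpotent _ hlt)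
    have hgZ : ((g : M) : O) ∈ normalizer (Z : Set O) := by
      have hm : ((g : M) : O) * xO * ((g : M) : O)⁻¹ ∈ Z := by
        obtain ⟨n, hn⟩ := mem_zpowers_iff.1 ((mem_normalizer_iff.1 hgN ⟨xM, hQ (mem_zpowers _)⟩).1 (mem_zpowers _))
        exact mem_zpowers_iff.2 ⟨n, by simpa [xM] using congrArg (fun y : M => (y : O)) hn⟩
      have hmap : Z.map (MulAut.conj ((g : M) : O)).toMonoidHom = Z := by
        refine eq_of_le_of_card_ge ?_ (by rw [card_map_of_injective (MulAut.conj _).injective])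
        rw [MonoidHom.map_zpowers]; exact zpowers_le.2 hm
      refine mem_normalizer_fintype fun y hy => ?_
      rw [SetLike.mem_coe, ← hmap]; exact ⟨y, hy, rfl⟩
    obtain ⟨n, hn⟩ := mem_zpowers_iff.1 (hMP ⟨(g : M).2, hNZ hgZ⟩)
    exact hgx (mem_subgroupOf.2 (mem_zpowers_iff.2 ⟨n, Subtype.ext (by simpa [xM] using hn)⟩))
  have hNC : normalizer ((Q : Subgroup M) : Set M) ≤ centralizer ((Q : Subgroup M) : Set M) := by
    intro g hg
    rw [hQeq] at hg ⊢
    have hm : g * xM * g⁻¹ ∈ zpowers xM := (mem_normalizer_iff.1 hg xM).1 (mem_zpowers _)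
    obtain ⟨n, hn⟩ := mem_zpowers_iff.1 hm
    have hP' : (g : O) * xO * (g : O)⁻¹ ∈ (P : Subgroup O) := zpowers_le.2 hxP (mem_zpowers_iff.2
      ⟨n, by simpa [xM] using congrArg (fun y : M => (y : O)) hn⟩)
    have e : g * xM * g⁻¹ = xM := Subtype.ext (hconjO _ hP')
    exact mem_centralizer_iff.2 fun y hy => by
      obtain ⟨k, rfl⟩ := mem_zpowers_iff.1 hy
      exact ((show Commute g xM from mul_inv_eq_iff_eq_mul.1 e).zpow_right k).symm.eq
  set K := (MonoidHom.transferSylow Q hNC).ker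
  have hcompl := MonoidHom.ker_transferSylow_isComplement' Q hNC
  have hKcop : (Nat.card K).Coprime 3 := by
    have h3 := Q.not_dvd_index
    have h5 : Nat.card K = (Q : Subgroup M).index := hcompl.index_eq_card.symm
    rw [h5]
    exact ((Nat.Prime.coprime_iff_not_dvd Nat.prime_three).2 h3).symm
  have hKmem : ∀ y : M, (orderOf y).Coprime 3 → y ∈ K := fun y hy => by
    rw [MonoidHom.mem_ker]
    have h1 : orderOf (MonoidHom.transferSylow Q hNC y) ∣ orderOf y := orderOf_map_dvd _ _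
    have h2 : orderOf (MonoidHom.transferSylow Q hNC y) ∣ 3 := by
      have hQ3 : Nat.card (Q : Subgroup M) = 3 := (congrArg (fun H : Subgroup M => Nat.card H) hQeq).trans (by
        show Nat.card (zpowers xM) = 3
        rw [Nat.card_zpowers, orderOf_mk, orderOf_mk, h.order_j xA_ne])
      exact (orderOf_dvd_natCard (MonoidHom.transferSylow Q hNC y)).trans hQ3.dvd
    exact orderOf_eq_one_iff.1 (Nat.eq_one_of_dvd_coprimes hy h1 h2)
  let ι : M →* G := O.subtype.comp M.subtype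
  have hι : Function.Injective ι := O.subtype_injective.comp M.subtype_injective
  have hK1 : K.map ι = ⊥ := by
    refine h.sig _ (by rw [card_map_of_injective hι]; exact hKcop) fun a => ?_
    refine eq_of_le_of_card_ge ?_ (card_map_of_injective (MulAut.conj (h.j a)).injective).ge
    rintro _ ⟨_, ⟨y, hy, rfl⟩, rfl⟩
    haveI : M.Normal := Subgroup.commutator_normal ⊤ ⊤
    let σ : O ≃* O := MulAut.conjNormal (h.j a)
    have hM : σ (y : O) ∈ M := by
      have : M.map σ.toMonoidHom ≤ M := by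
        show (commutator O).map σ.toMonoidHom ≤ commutator O
        rw [_root_.commutator_def, Subgroup.map_commutator]
        exact commutator_mono le_top le_top
      exact this ⟨y, y.2, rfl⟩
    refine ⟨⟨σ (y : O), hM⟩, hKmem _ ?_, ?_⟩
    · rw [← orderOf_injective M.subtype M.subtype_injective]
      show (orderOf (σ (y : O))).Coprime 3
      rw [MulEquiv.orderOf_eq, orderOf_coe]
      exact hKcop.coprime_dvd_left (Subgroup.orderOf_dvd_natCard _ hy)
    · exact MulAut.conjNormal_apply _ _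
  have hKbot : K = ⊥ := (K.map_eq_bot_iff_of_injective hι).1 hK1
  have hQtop : (Q : Subgroup M) = ⊤ := by
    have hc : IsComplement' K (Q : Subgroup M) := hcompl
    rw [hKbot] at hc
    exact isComplement'_bot_left.1 hc
  have hMeq : M.map O.subtype = zpowers h.x := by
    refine le_antisymm ?_ (zpowers_le.2 hxcomm)
    rintro _ ⟨m, hm, rfl⟩
    have hq : (⟨m, hm⟩ : M) ∈ zpowers xM := hQeq ▸ (hQtop ▸ mem_top _)
    obtain ⟨n, hn⟩ := mem_zpowers_iff.1 hq
    refine mem_zpowers_iff.2 ⟨n, ?_⟩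
    simpa [xM, xO] using congrArg (fun y : M => ((y : O) : G)) hn
  haveI : (M.map O.subtype).Normal := by
    refine ⟨fun z hz g => ?_⟩
    obtain ⟨m, hm, rfl⟩ := hz
    let σ : O ≃* O := MulAut.conjNormal g
    refine ⟨σ m, ?_, MulAut.conjNormal_apply _ _⟩
    have : M.map σ.toMonoidHom ≤ M := by
      show (commutator O).map σ.toMonoidHom ≤ commutator O
      rw [_root_.commutator_def, Subgroup.map_commutator]
      exact commutator_mono le_top le_top
    exact this ⟨m, hm, rfl⟩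
  rw [← hMeq]
  exact normalizer_eq_top _

end Conf

end Cfsg.Agent.Sp6Local
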