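import Cfsg.Agent.Sp6Local.AutSix
import Cfsg.Agent.AutPSp.Aut
import Cfsg.Agent.Classical.SympGroup

/-!
# The automorphism group of `PSp(4,3)` from local coordinate centralisers
-/

set_option autoImplicit false
set_option synthInstance.maxSize 4000
set_option synthInstance.maxHeartbeats 400000

namespace Cfsg.Agent.Sp6Local

open Cfsg Cfsg.Agent Subgroup Cfsg.Agent.Sym9ThreeLocal

universe u

theorem card_psp : Nat.card (Cfsg.PSp 2 (ZMod 3)) = 25920 := by
  haveI : Fact (Nat.Prime 3) := ⟨by norm_num⟩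
  have hF : Fintype.card (ZMod 3) = 3 := ZMod.card 3
  have h1 := Subgroup.card_eq_card_quotient_mul_card_subgroup
    (Subgroup.center (Matrix.symplecticGroup (Fin 2) (ZMod 3)))
  rw [Classical.card_symplecticGroup hF, Classical.card_center_symplectic (by norm_num), hF] at h1
  norm_num [Finset.prod_range_succ, -Nat.card_eq_fintype_card] at h1
  show Nat.card (Matrix.symplecticGroup (Fin 2) (ZMod 3) ⧸ _) = 25920
  omega

theorem card_aut_psp : Nat.card (MulAut (Cfsg.PSp 2 (ZMod 3))) = 51840 := by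
  haveI : Fact (Nat.Prime 3) := ⟨by norm_num⟩
  rw [AutPSp.card_mulAut 3 le_rfl, card_psp, AutPSp.index_inndiag 3 le_rfl (fun _ => by norm_num), Nat.card_zmod]
  have : Subsingleton (ZMod 3 ≃+* ZMod 3) := ⟨fun f g => RingEquiv.ext fun x => by
    exact RingHom.congr_fun (RingHom.ext_zmod (f : ZMod 3 →+* ZMod 3) g) x⟩
  rw [Nat.card_eq_one_iff_unique.2 ⟨this, ⟨RingEquiv.refl _⟩⟩]
  rfl

theorem units_cube {z : ℤˣ} (h : z ^ 3 = 1) : z = 1 := by
  rcases Int.units_eq_one_or z with e | e
  · exact e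
  · rw [e] at h; exact absurd h (by decide)

namespace Conf

variable {G : Type u} [Group G] [Finite G] (h : Conf G) (hk : h.k = .eight)

/-- The normaliser of the line of the given element. -/
def lineNorm : Subgroup G := normalizer ((zpowers h.x : Subgroup G) : Set G)

omit [Finite G] in
theorem mem_lineNorm {g : G} [Finite G] :
    g ∈ h.lineNorm ↔ g * h.x * g⁻¹ = h.x ∨ g * h.x * g⁻¹ = h.x⁻¹ := by
  have hx3 := h.J_cube _ (h.j_mem xA)
  constructor
  · intro hg
    rcases A9ThreeLocal.zpowers_three_cases hx3 ((mem_normalizer_iff.1 hg h.x).1 (mem_zpowers _)) with e | e | e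
    · exact absurd (conj_eq_one_iff.1 e) (h.j_ne xA_ne)
    · exact Or.inl e
    · exact Or.inr e
  · intro hg
    refine mem_normalizer_fintype fun y hy => ?_
    obtain ⟨i, rfl⟩ := mem_zpowers_iff.1 hy
    rw [SetLike.mem_coe, ← conj_zpow]
    refine zpow_mem ?_ i
    rcases hg with e | e <;> rw [e]
    · exact mem_zpowers _
    · exact inv_mem (mem_zpowers _)

include hk in
theorem lineNorm_card : Nat.card h.lineNorm = 1296 := by
  have hle : centralizer ({h.x} : Set G) ≤ h.lineNorm := fun g hg => h.mem_lineNorm.2 (Or.inl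
    (mul_inv_eq_iff_eq_mul.2 (mem_centralizer_singleton_iff.1 hg)))
  have hx : h.mon hk wi * h.x * (h.mon hk wi)⁻¹ = h.x⁻¹ := by
    rw [h.mon_conj, wi_act, map_inv]
  have hne : h.x⁻¹ ≠ h.x := fun e => four_fixed.2.2.2.2.2 (h.j_inj (by rw [map_inv]; exact e))
  have hidx : ((centralizer ({h.x} : Set G)).subgroupOf h.lineNorm).index = 2 := by
    refine index_eq_two_iff.2 ⟨⟨h.mon hk wi, h.mem_lineNorm.2 (Or.inr hx)⟩, fun b => ?_⟩
    simp only [mem_subgroupOf, Subgroup.coe_mul, mem_centralizer_singleton_iff, ← mul_inv_eq_iff_eq_mul]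
    rw [show (b : G) * h.mon hk wi * h.x * ((b : G) * h.mon hk wi)⁻¹ =
      (b : G) * (h.mon hk wi * h.x * (h.mon hk wi)⁻¹) * (b : G)⁻¹ by group, hx, ← conj_inv]
    rcases h.mem_lineNorm.1 b.2 with e | e <;> rw [e]
    · exact Or.inr ⟨rfl, hne⟩
    · exact Or.inl ⟨inv_inv _, hne⟩
  have h1 := card_mul_index ((centralizer ({h.x} : Set G)).subgroupOf h.lineNorm)
  rw [hidx, Nat.card_congr (subgroupOfEquivOfLe hle).toEquiv, h.card_x] at h1
  omega

variable (hloc : centralizer ({h.j e1} : Set G) ≤ h.N)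
include hloc

theorem sign_flip [Fintype (G ⧸ h.N)] [DecidableEq (G ⧸ h.N)] [Fintype (G ⧸ h.lineNorm)]
    [DecidableEq (G ⧸ h.lineNorm)] :
    Equiv.Perm.sign (MulAction.toPermHom G (G ⧸ h.N) (h.flipOne hk)) *
      Equiv.Perm.sign (MulAction.toPermHom G (G ⧸ h.lineNorm) (h.flipOne hk)) = -1 := by
  classical
  obtain ⟨-, hten⟩ := h.cent_flip_card hk hloc
  have hev := Nat.even_iff.1 (h.index_even hk)
  have hidx : h.lineNorm.index = h.N.index := by
    have h1 := card_mul_index h.N
    rw [← card_mul_index h.lineNorm, h.lineNorm_card hk, h.N_card hk] at h1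
    omega
  have hsq : ∀ X : Type u, ∀ (_ : MulAction G X),
      MulAction.toPermHom G X (h.flipOne hk) ^ 2 = 1 := fun X _ => by
    rw [← map_pow, pow_two, h.flip_sq, map_one]
  have hc1 : Fintype.card (G ⧸ h.N) = h.N.index := by rw [index_eq_card, Nat.card_eq_fintype_card]
  have hc2 : Fintype.card (G ⧸ h.lineNorm) = h.N.index := by
    rw [← hidx, index_eq_card, Nat.card_eq_fintype_card]
  have hf1 : Fintype.card (Function.fixedPoints (MulAction.toPermHom G (G ⧸ h.N) (h.flipOne hk))) = 10 := by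
    rw [← Nat.card_eq_fintype_card, ← hten]
    rfl
  have hf2 : Fintype.card (Function.fixedPoints (MulAction.toPermHom G (G ⧸ h.lineNorm) (h.flipOne hk))) = 0 := by
    refine Fintype.card_eq_zero_iff.2 ⟨fun p => ?_⟩
    obtain ⟨p, hp⟩ := p
    obtain ⟨y, rfl⟩ := QuotientGroup.mk_surjective p
    change ((h.flipOne hk * y : G) : G ⧸ h.lineNorm) = (y : G ⧸ h.lineNorm) at hp
    rw [eq_comm, QuotientGroup.eq, ← mul_assoc] at hp
    rcases h.mem_lineNorm.1 hp with e | e
    · refine h.not_cent hk hloc y⁻¹ ?_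
      rw [inv_inv]
      exact mul_inv_eq_iff_eq_mul.1 e
    · refine h.not_line hk hloc y⁻¹ ?_
      rw [inv_inv]
      exact e
  have h10 : 10 ≤ h.N.index := by
    rw [← hc1, ← hf1]; exact Fintype.card_subtype_le _
  rw [Equiv.Perm.sign_of_pow_two_eq_one (hsq _ inferInstance),
    Equiv.Perm.sign_of_pow_two_eq_one (hsq _ inferInstance), hc1, hc2, hf1, hf2, ← pow_add]
  exact Odd.neg_one_pow (Nat.odd_iff.2 (by omega))

/-- The character of `G`. -/
theorem exists_char : ∃ χ : G →* ℤˣ, centralizer ({h.x} : Set G) ≤ χ.ker ∧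
    ∀ m : Mf, h.emb hk m ∈ χ.ker ↔ inK .four m.right := by
  classical
  haveI := Fintype.ofFinite (G ⧸ h.N)
  haveI := Fintype.ofFinite (G ⧸ h.lineNorm)
  set χ : G →* ℤˣ := (Equiv.Perm.sign.comp (MulAction.toPermHom G (G ⧸ h.N))) *
    (Equiv.Perm.sign.comp (MulAction.toPermHom G (G ⧸ h.lineNorm))) with hχ
  have hflip : χ (h.flipOne hk) = -1 := h.sign_flip hk hloc
  have hC : centralizer ({h.x} : Set G) ≤ χ.ker := by
    intro g hg
    obtain ⟨π, hπs, hπ⟩ := h.projX'
    have hR : ∀ r : G, r ∈ h.R → χ r = 1 := fun r hr => units_cube (by rw [← map_pow, h.cubeR r hr, map_one])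
    have h3 : ∀ a : centralizer ({h.x} : Set G), π a * (π a * π a) = 1 → χ a = 1 := fun a ha => by
      refine units_cube ?_
      rw [← map_pow, pow_three]
      exact hR _ ((hπ (a * (a * a))).1 (by rw [map_mul, map_mul, ha]))
    obtain ⟨a, b, c, ha, hb, hc, e⟩ := sl3_models.2 (π ⟨g, hg⟩)
    obtain ⟨a, rfl⟩ := hπs a
    obtain ⟨b, rfl⟩ := hπs b
    obtain ⟨c, rfl⟩ := hπs c
    have hr := (hπ ((a * b * c)⁻¹ * ⟨g, hg⟩)).1 (by rw [map_mul, map_inv, map_mul, map_mul, e, inv_mul_cancel])
    have := hR _ hr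
    simp only [Subgroup.coe_mul, Subgroup.coe_inv, map_mul, map_inv, h3 a ha, h3 b hb, h3 c hc, one_mul,
      inv_one] at this
    exact MonoidHom.mem_ker.2 this
  have hfix : ∀ u : W, act u xA = xA → χ (h.mon hk u) = 1 := fun u hu =>
    MonoidHom.mem_ker.1 (hC (mem_centralizer_singleton_iff.2 (h.mon_comm hk hu).eq))
  refine ⟨χ, hC, fun m => ?_⟩
  obtain ⟨a, b, c, i, e, hu, hiff⟩ := parity_words m.right
  have hj : χ (h.j m.left) = 1 := units_cube (by rw [← map_pow, h.J_cube _ (h.j_mem _), map_one])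
  rw [MonoidHom.mem_ker, ← SemidirectProduct.inl_left_mul_inr_right m, map_mul, h.emb_inl, h.emb_inr, map_mul,
    hj, one_mul, SemidirectProduct.inl_left_mul_inr_right, ← hu]
  rw [show h.flipOne hk = h.mon hk wf from rfl] at hflip
  simp only [map_mul, map_pow, map_inv, hflip, hfix wc four_fixed.2.2.1, hfix wt four_fixed.2.1, one_mul, mul_one,
    inv_one, one_pow]
  rw [← pow_add, ← pow_add, hu, ← hiff]
  generalize (a : ℕ) + b + c = n
  constructor
  · intro hn
    rcases Nat.even_or_odd n with hn' | hn'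
    · exact Nat.even_iff.1 hn'
    · rw [hn'.neg_one_pow] at hn; exact absurd hn (by decide)
  · intro hn
    exact (Nat.even_iff.2 hn).neg_one_pow

include hk in
/-- The case of the automorphism group, given the identification of the simple group. -/
theorem aut_of_local_aux
    (hpsp : ∀ {H : Type u} [Group H] [Finite H] (h' : Conf H), h'.Facts → h'.k = .four →
      Nonempty (H ≃* Cfsg.PSp 2 (ZMod 3))) :
    Nonempty (G ≃* MulAut (Cfsg.PSp 2 (ZMod 3))) := by
  classical
  obtain ⟨χ, hC, hE⟩ := h.exists_char hk hloc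
  set G0 := χ.ker with hG0
  have hj : ∀ a : A, h.j a ∈ G0 := fun a => by
    rw [← h.emb_inl hk]; exact (hE _).2 (inK_one _)
  have hidx : G0.index = 2 := by
    rw [hG0, index_ker, MonoidHom.range_eq_top.2 (fun z => ?_), card_top, Nat.card_eq_fintype_card]
    · rfl
    · rcases Int.units_eq_one_or z with rfl | rfl
      · exact ⟨1, map_one χ⟩
      · refine ⟨h.flipOne hk, (Int.units_eq_one_or _).resolve_left fun e => ?_⟩
        have := (hE (SemidirectProduct.inr wf)).1 (MonoidHom.mem_ker.2 e)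
        exact absurd this (by decide +kernel)
  let φ0 : Mk .four →* G0 :=
    ((h.emb hk).comp (Mk .four).subtype).codRestrict G0 fun m => (hE _).2 m.2
  have hφ0 : Function.Injective φ0 := fun a b e =>
    Subtype.ext (h.emb_inj hk (congrArg Subtype.val e :))
  let x0 : G0 := φ0 (inlA .four xA)
  have hx0 : ((x0 : G0) : G) = h.x := rfl
  have hcent : ∀ g : G0, g ∈ centralizer ({x0} : Set G0) ↔ (g : G) ∈ centralizer ({h.x} : Set G) := fun g => by
    rw [mem_centralizer_singleton_iff, mem_centralizer_singleton_iff, ← hx0, Subtype.ext_iff]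
    rfl
  have hRle : h.R ≤ G0 := h.leR'.trans hC
  obtain ⟨π, hπs, hπ⟩ := h.projX'
  let ι : centralizer ({x0} : Set G0) →* centralizer ({h.x} : Set G) :=
    (G0.subtype.comp (centralizer ({x0} : Set G0)).subtype).codRestrict _ fun g => (hcent g.1).1 g.2
  let h0 : Conf G0 :=
    { k := .four
      φ := φ0
      inj := hφ0
      norm := fun g hg => by
        obtain ⟨m, hm⟩ := h.exists_emb hk (h.norm (g : G) fun a => (hg a).imp fun b e => by
          exact congrArg Subtype.val e)
        exact ⟨⟨m, (hE m).1 (hm ▸ g.2)⟩, Subtype.ext hm⟩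
      sig := fun H hH hinv => by
        have hmap := h.sig (H.map G0.subtype) (by rwa [card_map_of_injective G0.subtype_injective]) fun a => by
          conv_rhs => rw [← hinv a]
          rw [map_map, map_map]
          rfl
        exact map_injective G0.subtype_injective (hmap.trans (Subgroup.map_bot _).symm)
      R := h.R.subgroupOf G0
      cardR := by rw [Nat.card_congr (subgroupOfEquivOfLe hRle).toEquiv, h.cardR]
      cubeR := fun r hr => Subtype.ext (h.cubeR (r : G) hr)
      centerR := fun r => by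
        constructor
        · intro hr
          obtain ⟨i, hi⟩ := mem_zpowers_iff.1 hr
          obtain ⟨h1, h2⟩ := (h.centerR' (r : G)).1 (mem_zpowers_iff.2 ⟨i, by rw [← hi]; rfl⟩)
          exact ⟨h1, fun s hs => Subtype.ext (h2 s hs)⟩
        · rintro ⟨h1, h2⟩
          obtain ⟨i, hi⟩ := mem_zpowers_iff.1 ((h.centerR' (r : G)).2 ⟨h1, fun s hs =>
            congrArg Subtype.val (h2 ⟨s, hRle hs⟩ hs)⟩)
          exact mem_zpowers_iff.2 ⟨i, Subtype.ext (by rw [← hi]; rfl)⟩
      projX := ⟨π.comp ι, fun y => by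
        obtain ⟨⟨c, hc⟩, e⟩ := hπs y
        exact ⟨⟨⟨c, hC hc⟩, (hcent ⟨c, hC hc⟩).2 hc⟩, e⟩, fun g => hπ _⟩
      leR := fun r hr => (hcent r).2 (h.leR' hr) }
  obtain ⟨e⟩ := hpsp h0 h0.facts rfl
  haveI : G0.Normal := MonoidHom.normal_ker χ
  let Ψ : G →* MulAut G0 := MulAut.conjNormal
  have hΨ : Function.Injective Ψ := (injective_iff_map_eq_one Ψ).2 fun g hg => by
    have hg' : ∀ y ∈ G0, g * y = y * g := fun y hy => by
      have := congrArg Subtype.val (DFunLike.congr_fun hg ⟨y, hy⟩)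
      rw [MulAut.conjNormal_apply, MulAut.one_apply] at this
      exact mul_inv_eq_iff_eq_mul.1 this
    obtain ⟨a, rfl⟩ := h.cent_J fun a => hg' _ (hj a)
    obtain ⟨hfix, ht, hc, -, h4, -⟩ := four_fixed
    have key : ∀ u : W, inK .four u → act u a = a := fun u hu => h.j_inj (by
      rw [← h.mon_conj hk]
      exact mul_inv_eq_iff_eq_mul.2 (hg' _ (by rw [← h.emb_inr hk]; exact (hE _).2 hu)).symm)
    rw [hfix a (key _ (inK_wt _)) (key _ (inK_wc _)) (key _ h4), map_one]
  have hcard : Nat.card (MulAut G0) ≤ Nat.card G := by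
    rw [Nat.card_congr (MulAut.congr e).toEquiv, card_aut_psp, ← card_mul_index G0, hidx,
      Nat.card_congr e.toEquiv, card_psp]
  haveI : Finite (MulAut G0) := Finite.of_injective (fun f : MulAut G0 => (f : G0 → G0)) DFunLike.coe_injective
  have hbij : Function.Bijective Ψ :=
    (Nat.bijective_iff_injective_and_card Ψ).2 ⟨hΨ, le_antisymm (Nat.card_le_card_of_injective Ψ hΨ) hcard⟩
  exact ⟨(MulEquiv.ofBijective Ψ hbij).trans (MulAut.congr e)⟩

end Conf

end Cfsg.Agent.Sp6Local
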