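import Cfsg.Agent.Sp6Local.Rel
import Cfsg.Agent.S0077
import Cfsg.Agent.Control.NormalIndexP

/-!
# The kind without signs: a normal subgroup of index three
-/

set_option autoImplicit false
set_option synthInstance.maxSize 4000
set_option synthInstance.maxHeartbeats 400000

namespace Cfsg.Agent.Sp6Local

open Cfsg Cfsg.Agent Subgroup Cfsg.Agent.Sym9ThreeLocal

universe u

theorem one_model :
    (∀ w : W, inK .one w → act w xA = xA) ∧ (∀ w : W, inK .one w → act w xA ≠ vz) ∧ xA⁻¹ ≠ xA := by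
  decide +kernel

theorem sl3_quaternion :
    (∀ M N : PSp43Amalgam.SL3, M ^ 4 = 1 → N ^ 4 = 1 → (M * N) ^ 4 = 1) ∧
    (∀ M N : PSp43Amalgam.SL3, (M * N * M⁻¹ * N⁻¹) ^ 4 = 1) := by
  decide +kernel

namespace Conf

variable {G : Type u} [Group G] [Finite G] (h : Conf G)

/-- The given element is its only conjugate in the Sylow subgroup. -/
theorem conj_x_of_one (F : h.Facts) (hk : h.k = .one) {g : G} (hg : g * h.x * g⁻¹ ∈ h.S) :
    g * h.x * g⁻¹ = h.x := by
  obtain ⟨m1, m2, -⟩ := one_model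
  have h3 : (g * h.x * g⁻¹) ^ 3 = 1 := by
    rw [conj_pow, h.J_cube _ (h.j_mem xA), mul_one, mul_inv_cancel]
  have hJ : ∀ g : G, g * h.x * g⁻¹ ∈ h.J → g * h.x * g⁻¹ = h.x := fun g ⟨v, hv⟩ => by
    obtain ⟨w, hw, hwv⟩ := F.ctrl g xA v xA_ne hv.symm
    rw [m1 w (hk ▸ hw)] at hwv
    rw [← hv, ← hwv]
  rcases h.S_three hg h3 with e | e
  · exact hJ g e
  by_cases hz : g * h.x * g⁻¹ ∈ zpowers h.x
  · exact hJ g (zpowers_le.2 (h.j_mem xA) hz)
  obtain ⟨c, -, hc⟩ := h.R_fuse e hz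
  obtain ⟨w, hw, hwv⟩ := F.ctrl (c * g) xA vz xA_ne (by rw [← hc]; group)
  exact absurd hwv (m2 w (hk ▸ hw))

/-- The kind without signs has a normal subgroup of index three. -/
theorem index_three_of_one (F : h.Facts) (hk : h.k = .one) : ∃ N : Subgroup G, N.Normal ∧ N.index = 3 := by
  classical
  haveI : Fact (Nat.Prime 3) := ⟨Nat.prime_three⟩
  obtain ⟨P, hP⟩ := h.S_isPGroup.exists_le_sylow
  obtain ⟨d, hd⟩ := F.sylow P P.2
  have hPS : (P : Subgroup G) = h.S := by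
    refine (eq_of_le_of_card_ge hP ?_).symm
    refine Nat.card_le_card_of_injective (fun p : (P : Subgroup G) => (⟨d * p * d⁻¹, hd p p.2⟩ : h.S))
      fun p q e => ?_
    exact Subtype.ext (mul_left_cancel (mul_right_cancel (congrArg Subtype.val e)))
  set Z := zpowers h.x with hZ
  have hxS : h.x ∈ h.S := h.J_le_S (h.j_mem xA)
  have hZc : Z ≤ centralizer (P : Set G) := zpowers_le.2 (mem_centralizer_iff.2 fun p hp => by
    have hp' : p ∈ h.S := hPS ▸ (show p ∈ (P : Subgroup G) from hp)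
    exact mem_centralizer_singleton_iff.1 (h.S_le_cent hp'))
  have hW : Cfsg.IsWeaklyClosed Z (P : Subgroup G) := by
    refine ⟨hPS ▸ zpowers_le.2 hxS, fun g hg => ?_⟩
    have e := h.conj_x_of_one F hk (g := g) (hPS ▸ hg ⟨h.x, mem_zpowers _, rfl⟩)
    rw [hZ, MonoidHom.map_zpowers]
    exact congrArg zpowers e
  have hN : normalizer (Z : Set G) ≤ centralizer ({h.x} : Set G) := by
    intro g hg
    refine mem_centralizer_singleton_iff.2 (mul_inv_eq_iff_eq_mul.1 ?_)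
    have hmem : g * h.x * g⁻¹ ∈ Z := (mem_normalizer_iff.1 hg h.x).1 (mem_zpowers _)
    exact h.conj_x_of_one F hk ((zpowers_le.2 hxS) hmem)
  refine Control.exists_index_eq_prime_of_not_le P fun hle => ?_
  have he : h.j e1 ∈ ⁅normalizer (Z : Set G), normalizer (Z : Set G)⁆ := by
    have hm : h.j e1 ∈ commutator G ⊓ (P : Subgroup G) := by
      have hS' : h.j e1 ∈ (P : Subgroup G) := hPS.symm ▸ h.J_le_S (h.j_mem e1)
      exact ⟨hle hS', hS'⟩
    rw [S0077.result P Z hZc hW] at hm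
    exact hm.1
  set C := centralizer ({h.x} : Set G)
  obtain ⟨f, -, hf⟩ := h.projX'
  let Q : Subgroup C :=
    { carrier := {c | f c ^ 4 = 1}
      one_mem' := by show f 1 ^ 4 = 1; rw [map_one, one_pow]
      mul_mem' := fun {a b} (ha : f a ^ 4 = 1) (hb : f b ^ 4 = 1) => by
        show f (a * b) ^ 4 = 1
        rw [map_mul]; exact sl3_quaternion.1 _ _ ha hb
      inv_mem' := fun {a} (ha : f a ^ 4 = 1) => by
        show f a⁻¹ ^ 4 = 1
        rw [map_inv, inv_pow, ha, inv_one] }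
  have hsub : ⁅normalizer (Z : Set G), normalizer (Z : Set G)⁆ ≤ Q.map C.subtype := by
    refine commutator_le.2 fun a ha b hb => ⟨⟨a, hN ha⟩ * ⟨b, hN hb⟩ * (⟨a, hN ha⟩ : C)⁻¹ * (⟨b, hN hb⟩ : C)⁻¹,
      ?_, rfl⟩
    show f _ ^ 4 = 1
    rw [map_mul, map_mul, map_mul, map_inv, map_inv]
    exact sl3_quaternion.2 _ _
  obtain ⟨c, hc, hce⟩ := hsub he
  have hc4 : f c ^ 4 = 1 := hc
  have hc3 : f c ^ 3 = 1 := by
    rw [← map_pow, show c ^ 3 = 1 from Subtype.ext (by
      rw [SubmonoidClass.coe_pow]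
      change (c : G) = h.j e1 at hce
      rw [hce]; exact h.J_cube _ (h.j_mem e1)), map_one]
  rw [pow_succ, hc3, one_mul] at hc4
  exact h.e1_not_R (by rw [← hce]; exact (hf c).1 hc4)

end Conf

end Cfsg.Agent.Sp6Local
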