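import Cfsg.Agent.Sp6Local.SpSixFin
import Cfsg.Agent.Invol.IsolatedApps
import Cfsg.Agent.Invol.SEPairs
import Cfsg.Agent.Coprime.Generation
import Cfsg.Agent.Core.PCore

/-!
# A subgroup `Sp(6,2)` controlling its elements of order three is the whole group
-/

set_option autoImplicit false
set_option maxHeartbeats 1000000
set_option linter.unusedSectionVars false

namespace Cfsg.Agent.Sp6Local

open Subgroup Cfsg.Agent Cfsg.Agent.Compute

universe u

namespace TopThree

variable {G : Type u} [Group G] [Finite G] (Y : Subgroup G) (e : Y ≃* Sp)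

/-- The embedding. -/
noncomputable def emb : Sp →* G := Y.subtype.comp e.symm.toMonoidHom

theorem emb_inj : Function.Injective (emb Y e) := Y.subtype_injective.comp e.symm.injective

theorem emb_mem (A : Sp) : emb Y e A ∈ Y := (e.symm A).2

theorem exists_emb {y : G} (hy : y ∈ Y) : ∃ A, y = emb Y e A :=
  ⟨e ⟨y, hy⟩, by simp [emb]⟩

/-- An element controls itself in `Y`. -/
def Ctrl (z : G) : Prop := ∀ g : G, g * z * g⁻¹ ∈ Y → g ∈ Y

variable {Y}

theorem Ctrl.cent {z : G} (hz : Ctrl Y z) (hzY : z ∈ Y) {k : G} (hk : Commute k z) : k ∈ Y :=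
  hz k (by rw [hk.eq, mul_inv_cancel_right]; exact hzY)

theorem Ctrl.conj {z : G} (hz : Ctrl Y z) {u : G} (hu : u ∈ Y) : Ctrl Y (u * z * u⁻¹) := fun g hg => by
  have h := hz (g * u) (by
    rwa [show g * u * z * (g * u)⁻¹ = g * (u * z * u⁻¹) * g⁻¹ by group])
  simpa using mul_mem h (inv_mem hu)

variable (h3 : ∀ y ∈ Y, y ^ 3 = 1 → y ≠ 1 → ∀ g : G, g * y * g⁻¹ ∈ Y → g ∈ Y)

include h3 in
/-- Fusion in `Y` of elements centralised by elements of order three. -/
theorem fuse {z w g : G} (hgz : g * z * g⁻¹ = w) {y : G} (hy : y ∈ Y) (hy3 : y ^ 3 = 1) (hy1 : y ≠ 1)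
    (hyz : Commute y z) {y₂ : G} (hy2 : y₂ ∈ Y) (hy23 : y₂ ^ 3 = 1) (hy21 : y₂ ≠ 1) (hyw : Commute y₂ w) :
    ∃ u ∈ Y, u * z * u⁻¹ = w ∧ Commute (u⁻¹ * g) z := by
  have : Fact (Nat.Prime 3) := ⟨Nat.prime_three⟩
  set C := centralizer ({w} : Set G)
  let a : C := ⟨y₂, mem_centralizer_singleton_iff.2 hyw.eq⟩
  have hgy : Commute (g * y * g⁻¹) w := by rw [← hgz]; exact hyz.conj g
  let b : C := ⟨g * y * g⁻¹, mem_centralizer_singleton_iff.2 hgy.eq⟩
  have ha3 : a ^ 3 = 1 := Subtype.ext hy23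
  have ha1 : a ≠ 1 := fun h => hy21 (congrArg Subtype.val h)
  have hb3 : b ^ 3 = 1 := Subtype.ext (by
    show (g * y * g⁻¹) ^ 3 = 1
    rw [conj_pow, hy3]; group)
  have hp : ∀ x : C, x ^ 3 = 1 → IsPGroup 3 (zpowers x) := fun x hx => by
    intro ⟨v, hv⟩
    obtain ⟨n, rfl⟩ := mem_zpowers_iff.1 hv
    refine ⟨1, Subtype.ext ?_⟩
    show (x ^ n) ^ (3 ^ 1) = 1
    rw [pow_one, ← zpow_natCast, ← zpow_mul, mul_comm, zpow_mul, zpow_natCast, hx, one_zpow]
  obtain ⟨P, hP⟩ := (hp a ha3).exists_le_sylow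
  obtain ⟨R, hR⟩ := (hp b hb3).exists_le_sylow
  have hne : Nontrivial P := by
    refine ⟨⟨a, hP (mem_zpowers a)⟩, 1, fun h => ha1 (congrArg Subtype.val h)⟩
  have : Nontrivial (center P) := P.2.center_nontrivial
  obtain ⟨c, hc⟩ := exists_prime_orderOf_dvd_card' (G := center P) 3 (by
    obtain ⟨n, hn, hn'⟩ := (P.2.to_subgroup (center P)).nontrivial_iff_card.1 inferInstance
    rw [hn']
    exact dvd_pow_self 3 hn.ne')
  set cG : G := (((c : P) : C) : G)
  have hc3 : cG ^ 3 = 1 := by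
    have h := pow_orderOf_eq_one c
    rw [hc] at h
    exact congrArg (fun x : center P => (((x : P) : C) : G)) h
  have hc1 : cG ≠ 1 := fun h => by
    have : c = 1 := Subtype.ext (Subtype.ext (Subtype.ext h))
    rw [this, orderOf_one] at hc
    omega
  have hcomm : ∀ p : P, Commute ((p : C) : G) cG := fun p =>
    congrArg (fun x : P => ((x : C) : G)) (mem_center_iff.1 c.2 p)
  have hcY : cG ∈ Y := h3 y₂ hy2 hy23 hy21 cG (by
    have h := hcomm ⟨a, hP (mem_zpowers a)⟩
    rw [← h.eq]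
    show y₂ * cG * cG⁻¹ ∈ Y
    rw [mul_inv_cancel_right]
    exact hy2)
  have hPY : ∀ p : P, ((p : C) : G) ∈ Y := fun p => h3 cG hcY hc3 hc1 _ (by
    rw [(hcomm p).eq, mul_inv_cancel_right]
    exact hcY)
  obtain ⟨k, hk⟩ := MulAction.exists_smul_eq C R P
  have hkb : k * b * k⁻¹ ∈ (P : Subgroup C) := by
    rw [← hk]
    exact ⟨b, hR (mem_zpowers b), rfl⟩
  have hu : (k : G) * g ∈ Y := h3 y hy hy3 hy1 _ (by
    have := hPY ⟨_, hkb⟩
    rwa [show ((k * b * k⁻¹ : C) : G) = (k : G) * g * y * ((k : G) * g)⁻¹ by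
      show (k : G) * (g * y * g⁻¹) * (k : G)⁻¹ = _
      group] at this)
  have hkw : Commute (k : G) w := mem_centralizer_singleton_iff.1 k.2
  have hkw' : (k : G) * w * (k : G)⁻¹ = w := by rw [hkw.eq, mul_inv_cancel_right]
  refine ⟨_, hu, ?_, ?_⟩
  · rw [show (k : G) * g * z * ((k : G) * g)⁻¹ = (k : G) * (g * z * g⁻¹) * (k : G)⁻¹ by group, hgz, hkw']
  · show ((k : G) * g)⁻¹ * g * z = z * (((k : G) * g)⁻¹ * g)
    have h1 : (k : G)⁻¹ * w = w * (k : G)⁻¹ := hkw.inv_left.eq
    have h2 : g * z = w * g := by rw [← hgz]; group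
    calc ((k : G) * g)⁻¹ * g * z = g⁻¹ * (k : G)⁻¹ * (g * z) := by group
      _ = g⁻¹ * ((k : G)⁻¹ * w) * g := by rw [h2]; group
      _ = g⁻¹ * w * (k : G)⁻¹ * g := by rw [h1]; group
      _ = g⁻¹ * (g * z * g⁻¹) * (k : G)⁻¹ * g := by rw [hgz]
      _ = z * (((k : G) * g)⁻¹ * g) := by group

theorem exists_three {z : G} (hz : z ∈ Y) (h2 : orderOf z = 2) (e : Y ≃* Sp) :
    ∃ y ∈ Y, y ^ 3 = 1 ∧ y ≠ 1 ∧ Commute y z := by
  obtain ⟨A, rfl⟩ := exists_emb Y e hz
  rw [orderOf_injective _ (emb_inj Y e)] at h2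
  obtain ⟨c, j, hj, rfl⟩ := involution_cases A h2
  obtain ⟨t3, t1, tc⟩ := three_spec hj
  refine ⟨emb Y e (c * ew (threeW j) * c⁻¹), emb_mem Y e _, ?_, ?_, ?_⟩
  · rw [← map_pow, conj_pow, t3, mul_one, mul_inv_cancel, map_one]
  · rw [map_ne_one_iff _ (emb_inj Y e)]
    exact fun h => t1 (conj_eq_one_iff.1 h)
  · exact (Commute.conj (a := ew (threeW j)) tc c).map _

include e h3 in
theorem fuse_inv {z w : G} (hz : z ∈ Y) (hw : w ∈ Y) (h2 : orderOf z = 2) {g : G} (hgz : g * z * g⁻¹ = w) :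
    ∃ u ∈ Y, u * z * u⁻¹ = w ∧ Commute (u⁻¹ * g) z := by
  obtain ⟨y, a1, a2, a3, a4⟩ := exists_three hz h2 e
  obtain ⟨y', b1, b2, b3, b4⟩ := exists_three hw (by rw [← hgz, Invol.orderOf_conj, h2]) e
  exact fuse h3 hgz a1 a2 a3 a4 b1 b2 b3 b4

include h3 in
/-- Fusion in `G` of involutions of `Y` is fusion in `Sp(6,2)`. -/
theorem isConj_sp {A B : Sp} (hA : orderOf A = 2) (h : IsConj (emb Y e A) (emb Y e B)) : IsConj A B := by
  obtain ⟨g, hg⟩ := isConj_iff.1 h
  obtain ⟨u, hu, hue, -⟩ := fuse_inv e h3 (emb_mem Y e A) (emb_mem Y e B)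
    (by rwa [orderOf_injective _ (emb_inj Y e)]) hg
  obtain ⟨U, rfl⟩ := exists_emb Y e hu
  rw [← map_inv, ← map_mul, ← map_mul] at hue
  exact isConj_iff.2 ⟨U, emb_inj Y e hue⟩

include e h3 in
theorem ctrl_of_cent {z : G} (hz : z ∈ Y) (h2 : orderOf z = 2) (hc : ∀ k, Commute k z → k ∈ Y) :
    Ctrl Y z := by
  intro g hg
  obtain ⟨u, hu, -, huc⟩ := fuse_inv e h3 hz hg h2 rfl
  simpa using mul_mem hu (hc _ huc)

variable (ht : centralizer ({(e.symm spT : G)} : Set G) ≤ Y)

include ht h3 in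
theorem ctrl_T {A : Sp} (hA : IsConj spT A) : Ctrl Y (emb Y e A) := by
  obtain ⟨c, rfl⟩ := isConj_iff.1 hA
  rw [map_mul, map_mul, map_inv]
  refine (ctrl_of_cent e h3 (emb_mem Y e _) ?_ fun k hk => ?_).conj (emb_mem Y e c)
  · rw [orderOf_injective _ (emb_inj Y e), ← repW_two]
    exact rep_order (by norm_num)
  · exact ht (mem_centralizer_singleton_iff.2 hk.eq)

include ht h3 in
theorem cent_BW {j : ℕ} (hj : j = 3 ∨ j = 4) {k : G} (hk : Commute k (emb Y e (ew (repW j)))) : k ∈ Y := by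
  obtain ⟨s, q, -, hcen, hqz, hqt, hqc, c1, c2, c3⟩ := four_data hj
  set Z := ew (repW j)
  set T := Z * tv s
  have hZT : Commute T Z := (Commute.refl Z).mul_left ((hcen Z rfl).symm)
  set K := centralizer ({emb Y e Z} : Set G)
  have hTK : emb Y e T ∈ K := mem_centralizer_singleton_iff.2 (hZT.map _).eq
  have oT : orderOf T = 2 := by
    obtain ⟨c, hc⟩ := isConj_iff.1 c1
    rw [← hc, Invol.orderOf_conj, ← repW_two]
    exact rep_order (by norm_num)
  have oq : orderOf q = 2 := by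
    obtain ⟨c, hc⟩ := isConj_iff.1 c2
    rw [← hc, Invol.orderOf_conj, ← repW_two]
    exact rep_order (by norm_num)
  have hiso : Cfsg.IsIsolatedInvolution (⟨emb Y e T, hTK⟩ : K) := by
    refine ⟨by rw [Subgroup.orderOf_mk, orderOf_injective _ (emb_inj Y e), oT], fun x hx => Subtype.ext ?_⟩
    have hx' : Commute (emb Y e T) ((x : G) * emb Y e T * (x : G)⁻¹) := congrArg Subtype.val hx
    have h1 : (x : G) * emb Y e T * (x : G)⁻¹ ∈ Y := (ctrl_T e h3 ht c1).cent (emb_mem Y e T) hx'.symm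
    obtain ⟨X, hX⟩ := exists_emb Y e ((ctrl_T e h3 ht c1) _ h1)
    show (x : G) * emb Y e T * (x : G)⁻¹ = emb Y e T
    have hxZ : X * Z = Z * X := emb_inj Y e (by
      rw [map_mul, map_mul, ← hX]
      exact mem_centralizer_singleton_iff.1 x.2)
    have hXT : X * T = T * X := (Commute.mul_right (show Commute X Z from hxZ) (hcen X hxZ)).eq
    rw [hX, ← map_inv, ← map_mul, ← map_mul, hXT, mul_inv_cancel_right]
  obtain ⟨o, ho, hoc⟩ := Invol.isolated_decomp hiso ⟨k, mem_centralizer_singleton_iff.2 hk.eq⟩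
  have hO : (Cfsg.oddCore K).map K.subtype ≤ Y := by
    have hnorm : ∀ x ∈ K, x ∈ normalizer ((Cfsg.oddCore K).map K.subtype : Set G) := fun x hx => by
      refine mem_normalizer_fintype fun y hy => ?_
      obtain ⟨v, hv, rfl⟩ := hy
      exact ⟨⟨x, hx⟩ * v * ⟨x, hx⟩⁻¹, (inferInstance : (Cfsg.oddCore K).Normal).conj_mem v hv _, rfl⟩
    have hcop : (Nat.card ((Cfsg.oddCore K).map K.subtype : Subgroup G)).Coprime 2 := by
      rw [card_map_of_injective K.subtype_injective]
      exact Core.coprime_card_pPrimeCore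
    have hsq : ∀ {A : Sp}, orderOf A = 2 → emb Y e A ^ 2 = 1 := fun {A} hA => by
      have := pow_orderOf_eq_one A
      rw [hA] at this
      rw [← map_pow, this, map_one]
    have hab : Commute (emb Y e T) (emb Y e q) := (show Commute T q from hqc.symm).map _
    refine Coprime.le_of_centralizers_le hab (hnorm _ hTK)
      (hnorm _ (mem_centralizer_singleton_iff.2 ((show Commute q Z from hqz).map _).eq)) Nat.prime_two
      ((hsq oT).symm ▸ one_mem _) ((hsq oq).symm ▸ one_mem _) hcop.symm ?_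
      (fun x hx => (ctrl_T e h3 ht c1).cent (emb_mem Y e T) (mem_centralizer_singleton_iff.1 hx.2))
      (fun n x hx => ?_)
    · have hcomm : IsMulCommutative (closure {emb Y e T, emb Y e q} : Subgroup G) := by
        refine Subgroup.isMulCommutative_closure ?_
        rintro x (rfl | rfl) y (rfl | rfl) <;> first | exact rfl | exact hab.eq | exact hab.eq.symm
      have hp : IsPGroup 2 (closure {emb Y e T, emb Y e q} : Subgroup G) := by
        intro x
        refine ⟨1, Subtype.ext ?_⟩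
        rw [pow_one, SubmonoidClass.coe_pow, OneMemClass.coe_one]
        have hall : ∀ y (_ : y ∈ closure {emb Y e T, emb Y e q}), y ^ 2 = 1 := by
          intro y hy
          induction hy using Subgroup.closure_induction with
          | mem z hz =>
            rcases hz with rfl | rfl
            exacts [hsq oT, hsq oq]
          | one => exact one_pow 2
          | mul a b ha hb iha ihb =>
            have hc : Commute a b := congrArg Subtype.val
              (IsMulCommutative.is_comm.comm (⟨a, ha⟩ : closure {emb Y e T, emb Y e q}) ⟨b, hb⟩)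
            rw [hc.mul_pow, iha, ihb, one_mul]
          | inv a _ iha => rw [inv_pow, iha, inv_one]
        exact hall _ x.2
      obtain ⟨m, hm⟩ := hp.exists_card_eq
      rw [hm]
      exact (hcop.symm).pow_left m
    · rcases Nat.even_or_odd n with ⟨m, rfl⟩ | ⟨m, rfl⟩
      · rw [show emb Y e T ^ (m + m) = 1 by rw [← two_mul, pow_mul, hsq oT, one_pow], one_mul] at hx
        exact (ctrl_T e h3 ht c2).cent (emb_mem Y e q) (mem_centralizer_singleton_iff.1 hx.2)
      · rw [show emb Y e T ^ (2 * m + 1) = emb Y e T by rw [pow_succ, pow_mul, hsq oT, one_pow, one_mul],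
          ← map_mul] at hx
        exact (ctrl_T e h3 ht c3).cent (emb_mem Y e _) (mem_centralizer_singleton_iff.1 hx.2)
  have hoY : (o : G) ∈ Y := hO ⟨o, ho, rfl⟩
  have hr : Commute ((o : G)⁻¹ * k) (emb Y e T) := congrArg Subtype.val hoc
  simpa using mul_mem hoY ((ctrl_T e h3 ht c1).cent (emb_mem Y e T) hr)

include ht h3 in
/-- Involutions outside the transvection class control themselves. -/
theorem ctrl_nonD {A : Sp} (hA : orderOf A = 2) (hne : ¬ IsConj spD A) : Ctrl Y (emb Y e A) := by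
  obtain ⟨c, j, hj, rfl⟩ := involution_cases A hA
  rw [map_mul, map_mul, map_inv]
  refine Ctrl.conj ?_ (emb_mem Y e c)
  rcases hj with rfl | rfl | rfl | rfl
  · exact absurd (isConj_iff.2 ⟨c, by rw [repW_one]⟩) hne
  · exact ctrl_T e h3 ht (repW_two ▸ IsConj.refl _)
  · exact ctrl_of_cent e h3 (emb_mem Y e _)
      (by rw [orderOf_injective _ (emb_inj Y e)]; exact rep_order (by norm_num))
      fun k hk => cent_BW e h3 ht (Or.inl rfl) hk
  · exact ctrl_of_cent e h3 (emb_mem Y e _)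
      (by rw [orderOf_injective _ (emb_inj Y e)]; exact rep_order (by norm_num))
      fun k hk => cent_BW e h3 ht (Or.inr rfl) hk

theorem tv_zero : tv 0 = 1 := by
  rw [← ew_single, ← ew_nil]
  exact ew_eq_of_key rfl rfl (by decide +kernel)

include ht h3 in
theorem ctrl_pair {X : Sp} (hX : orderOf X = 2) (hne : X ≠ spD) (hc : X * spD = spD * X) {k : G}
    (hk : Commute k (emb Y e spD)) (hkY : k * emb Y e X * k⁻¹ ∈ Y) : k ∈ Y := by
  by_cases hD : IsConj spD X
  · obtain ⟨c, hcX⟩ := isConj_iff.1 hD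
    obtain ⟨v, hv, hev⟩ := exists_conj_tv c (v := 1)
    have hXv : X = tv v := hcX.symm.trans hev
    have hv1 : v ≠ 1 := fun h => hne (by rw [hXv, h]; rfl)
    have hv0 : v ≠ 0 := fun h => by
      rw [hXv, h, tv_zero, orderOf_one] at hX
      omega
    have hline := allBelow_eq_true.1 class_data.2.2.2.2.2.2.2 v hv
    simp only [Bool.or_eq_true, Nat.beq_eq, Bool.not_eq_true', hv0, hv1, false_or] at hline
    have hok : okW [v, 1] = true := allB_intro fun w hw => by
      simp at hw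
      rcases hw with rfl | rfl <;> simp [Nat.blt_eq, hv]
    have hxd : X * spD = ew [v, 1] := by rw [ew_cons, ew_single, hXv]; rfl
    have hsq : X * X = 1 := Invol.mul_self_eq_one hX
    have o2 : orderOf (X * spD) = 2 := by
      refine orderOf_eq_prime ?_ fun h => hne ?_
      · rw [(show Commute X spD from hc).mul_pow, pow_two, pow_two, hsq, show spD * spD = 1 from tv_mul_self 1,
          one_mul]
      · rw [mul_eq_one_iff_eq_inv] at h
        rw [h, show spD⁻¹ = spD from tv_inv 1]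
    refine ctrl_nonD e h3 ht o2 (fun h => not_isConj_tv hok hline 1 (hxd ▸ h)) k ?_
    rw [map_mul, show k * (emb Y e X * emb Y e spD) * k⁻¹ =
      k * emb Y e X * k⁻¹ * (k * emb Y e spD * k⁻¹) by group, hk.eq, mul_inv_cancel_right]
    exact mul_mem hkY (emb_mem Y e _)
  · exact ctrl_nonD e h3 ht hX hD k hkY

theorem two_le (S : Subgroup Sp) (hS : IsPGroup 2 S) (hle : Q2 ≤ S) : S = Q2 := by
  have : Fact (Nat.Prime 2) := ⟨Nat.prime_two⟩
  obtain ⟨n, hn⟩ := hS.exists_card_eq
  have hd : 2 ^ n ∣ 1451520 := by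
    rw [← hn, ← SympMult.SpSix.card_sp z2_card]
    exact card_subgroup_dvd_card S
  have h9 : n ≤ 9 := by
    by_contra h
    have := (pow_dvd_pow 2 (show 10 ≤ n by omega)).trans hd
    norm_num at this
  refine (eq_of_le_of_card_ge hle ?_).symm
  rw [hn, card_Q2]
  calc 2 ^ n ≤ 2 ^ 9 := Nat.pow_le_pow_right (by norm_num) h9
    _ = 512 := by norm_num

include ht h3 in
theorem no_root (q : G) : q * q ≠ emb Y e spD := by
  intro hq
  have : Fact (Nat.Prime 2) := ⟨Nat.prime_two⟩
  set S := Q2.map (emb Y e)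
  have hQp : IsPGroup 2 Q2 := IsPGroup.of_card (n := 9) (by rw [card_Q2]; norm_num)
  obtain ⟨P, hP⟩ := (hQp.map (emb Y e)).exists_le_sylow
  have htS : emb Y e tQ ∈ S := ⟨tQ, qel_mem (by norm_num), rfl⟩
  have hct : Ctrl Y (emb Y e tQ) := ctrl_T e h3 ht (isConj_iff.2 ⟨_, tQ_conj⟩)
  have hPS : (P : Subgroup G) = S := by
    refine le_antisymm ?_ hP
    by_contra hlt
    have hlt' : S.subgroupOf (P : Subgroup G) < ⊤ := by
      rw [lt_top_iff_ne_top, ne_eq, subgroupOf_eq_top]
      exact hlt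
    have : Group.IsNilpotent (P : Subgroup G) := P.2.isNilpotent
    obtain ⟨n, hnN, hnS⟩ := SetLike.exists_of_lt (Group.normalizerCondition_of_isNilpotent _ hlt')
    rw [← subgroupOf_normalizer_eq hP, mem_subgroupOf] at hnN
    have hnY : (n : G) ∈ Y := hct _ (by
      have h := (mem_normalizer_iff.1 hnN _).1 htS
      obtain ⟨v, -, hv⟩ := h
      rw [← hv]
      exact emb_mem Y e v)
    obtain ⟨N, hN⟩ := exists_emb Y e hnY
    apply hnS
    rw [mem_subgroupOf]
    have hle : Q2 ⊔ zpowers N = Q2 := by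
      refine two_le _ ?_ le_sup_left
      have hsub : (Q2 ⊔ zpowers N).map (emb Y e) ≤ (P : Subgroup G) := by
        rw [Subgroup.map_sup, MonoidHom.map_zpowers, ← hN]
        exact sup_le hP (zpowers_le.2 n.2)
      exact (P.2.to_le hsub).of_equiv (equivMapOfInjective _ _ (emb_inj Y e)).symm
    exact hN ▸ ⟨N, hle ▸ mem_sup_right (mem_zpowers N), rfl⟩
  have hq4 : q ^ 4 = 1 := by
    rw [show (4 : ℕ) = 2 + 2 from rfl, pow_add, pow_two, hq, ← map_mul,
      show spD * spD = 1 from tv_mul_self 1, map_one]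
  have hp : IsPGroup 2 (zpowers q) := by
    intro ⟨x, hx⟩
    obtain ⟨n, rfl⟩ := mem_zpowers_iff.1 hx
    refine ⟨2, Subtype.ext ?_⟩
    show (q ^ n) ^ (2 ^ 2) = 1
    rw [← zpow_natCast, ← zpow_mul, mul_comm, zpow_mul, zpow_natCast,
      show (2 : ℕ) ^ 2 = 4 from rfl, hq4, one_zpow]
  obtain ⟨R, hR⟩ := hp.exists_le_sylow
  obtain ⟨g, hg⟩ := MulAction.exists_smul_eq G R P
  have h1 : g * q * g⁻¹ ∈ S := by
    rw [← hPS, ← hg]
    exact ⟨q, hR (mem_zpowers q), rfl⟩
  obtain ⟨X, -, hX⟩ := h1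
  have h2 : IsConj spD (X * X) := isConj_sp e h3 (repW_one ▸ rep_order (by norm_num)) (isConj_iff.2 ⟨g, by
    rw [map_mul, hX, ← hq]; group⟩)
  obtain ⟨c, hc⟩ := isConj_iff.1 h2
  obtain ⟨v, hv, hev⟩ := exists_conj_tv c (v := 1)
  have hXv : X * X = tv v := hc.symm.trans hev
  refine sq_ne_tv X v hv (fun h => ?_) hXv
  have : orderOf (c * spD * c⁻¹) = 2 := by rw [Invol.orderOf_conj, ← repW_one]; exact rep_order (by norm_num)
  rw [hc, hXv, h, tv_zero, orderOf_one] at this
  omega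

/-- The involution of the second class commuting with `spD`. -/
noncomputable def aT : Sp := ew [2, 4, 6]

theorem aT_order : orderOf aT = 2 := by
  obtain ⟨c, hc⟩ := isConj_iff.1 conj_246
  show orderOf (ew [2, 4, 6]) = 2
  rw [← hc, Invol.orderOf_conj, ← repW_two]
  exact rep_order (by norm_num)

theorem tv_order {v : ℕ} (hv : v = 1 ∨ v = 2) : orderOf (tv v) = 2 := by
  refine orderOf_eq_prime (by rw [pow_two, tv_mul_self]) fun h => ?_
  rw [← ew_single] at h
  rcases hv with rfl | rfl <;>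
    exact absurd (wkey_eq_of_ew (a := _) (b := []) rfl rfl (h.trans ew_nil.symm)) (by decide +kernel)

theorem not_conj_aT : ¬ IsConj aT (tv 2) := fun h =>
  not_isConj_tv (w := [2, 4, 6]) rfl class_data.2.2.2.2.2.1 2 h.symm

theorem not_conj_aTd : ¬ IsConj (aT * spD) (tv 2) := fun h =>
  not_isConj_tv (w := [2, 4, 6] ++ [1]) rfl class_data.2.1 2
    (by rw [ew_append, ew_single]; exact h.symm)

include ht h3 in
theorem cent_D {k : G} (hk : Commute k (emb Y e spD)) : k ∈ Y := by
  by_contra hkY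
  set d := emb Y e spD
  set a := emb Y e aT
  set b := emb Y e (tv 2)
  set b' := k * b * k⁻¹ with hb'
  have hne2 : tv 2 ≠ spD := fun h => by
    have hbq := class_data.2.2.2.2.1
    rw [wkey_eq_of_ew (a := [2]) (b := [1]) rfl rfl (by rw [ew_single, ew_single]; exact h)] at hbq
    simp at hbq
  have hc2 : tv 2 * spD = spD * tv 2 := by
    have := sameW_spec class_data.2.2.2.1
    rw [ew_append, ew_append, ew_single, ew_single] at this
    exact this.symm
  have hb'Y : b' ∉ Y := fun h => hkY (ctrl_pair e h3 ht (tv_order (Or.inr rfl)) hne2 hc2 hk h)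
  have had : Commute aT spD := by
    have := sameW_spec class_data.2.2.1
    rw [ew_append, ew_append, ew_single] at this
    exact this
  have oa : orderOf a = 2 := by rw [orderOf_injective _ (emb_inj Y e), aT_order]
  have ob : orderOf b' = 2 := by rw [Invol.orderOf_conj, orderOf_injective _ (emb_inj Y e), tv_order (Or.inr rfl)]
  have hdb : Commute b' d := by
    have h1 : Commute (k * b * k⁻¹) (k * d * k⁻¹) := ((show Commute (tv 2) spD from hc2).map (emb Y e)).conj k
    rwa [hk.eq, mul_inv_cancel_right] at h1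
  have hdd : d * d = 1 := by rw [← map_mul, show spD * spD = 1 from tv_mul_self 1, map_one]
  have hnc : ∀ {X : Sp}, orderOf X = 2 → ¬ IsConj X (tv 2) → ¬ IsConj (emb Y e X) b' := fun {X} hX hn h =>
    hn (isConj_sp e h3 hX (h.trans (isConj_iff.2 ⟨k, rfl⟩).symm))
  have oad : orderOf (aT * spD) = 2 := by
    refine orderOf_eq_prime ?_ fun h => ?_
    · rw [had.mul_pow, pow_two, pow_two, Invol.mul_self_eq_one aT_order,
        show spD * spD = 1 from tv_mul_self 1, one_mul]
    · have hbq := class_data.2.2.2.2.2.2.1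
      rw [mul_eq_one_iff_eq_inv] at h
      have h' : ew [2, 4, 6] = ew [1] := h.trans ((tv_inv 1).trans (ew_single 1).symm)
      rw [wkey_eq_of_ew (a := [2, 4, 6]) (b := [1]) rfl rfl h'] at hbq
      simp at hbq
  obtain ⟨heven, z, hz, hza, hzb, hzc⟩ := Invol.exists_central_of_not_isConj oa ob (hnc aT_order not_conj_aT)
  have hcd : Commute (a * b') d := (had.map (emb Y e)).mul_left hdb
  have hzd : Commute z d := by
    obtain ⟨n, rfl⟩ := mem_zpowers_iff.1 hzc
    exact hcd.zpow_left n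
  by_cases hzd' : z = d
  · obtain ⟨-, hzm⟩ := Invol.eq_half_pow_of_mem_zpowers hz hzc
    set m := orderOf (a * b') / 2 with hm
    rcases Nat.even_or_odd m with ⟨r, hr⟩ | hodd
    · exact no_root e h3 ht ((a * b') ^ r) (by rw [← pow_add, ← hr, ← hzm, hzd'])
    · apply hnc oad not_conj_aTd
      have hbd : emb Y e (aT * spD) * b' = (a * b') ^ (m + 1) := by
        rw [map_mul, pow_succ', ← hzm, hzd', mul_assoc, mul_assoc, hdb.eq]
      refine Invol.isConj_of_odd (by rw [orderOf_injective _ (emb_inj Y e), oad]) ob ?_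
      rw [hbd]
      obtain ⟨r, hr⟩ := hodd
      have hdiv : orderOf ((a * b') ^ (m + 1)) ∣ m := by
        refine orderOf_dvd_of_pow_eq_one ?_
        obtain ⟨s, hs⟩ := heven
        rw [← pow_mul, show (m + 1) * m = orderOf (a * b') * (r + 1) by
          rw [show orderOf (a * b') = 2 * m by omega, hr]; ring, pow_mul, pow_orderOf_eq_one, one_pow]
      exact Odd.of_dvd_nat ⟨r, hr⟩ hdiv
  · have hzY : z ∈ Y := (ctrl_T e h3 ht conj_246).cent (emb_mem Y e aT) hza
    obtain ⟨Z, rfl⟩ := exists_emb Y e hzY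
    rw [orderOf_injective _ (emb_inj Y e)] at hz
    refine hb'Y (ctrl_pair e h3 ht hz (fun h => hzd' (by rw [h])) ?_ hdb ?_)
    · exact emb_inj Y e (by rw [map_mul, map_mul]; exact hzd.eq)
    · rw [← hzb.eq, mul_inv_cancel_right]
      exact emb_mem Y e Z

end TopThree

open TopThree in
/-- A subgroup `Sp(6,2)` which controls its elements of order three and contains one involution
centraliser is the whole group. -/
theorem top_of_three {G : Type u} [Group G] [Finite G] (Y : Subgroup G) (e : Y ≃* Sp)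
    (h3 : ∀ y ∈ Y, y ^ 3 = 1 → y ≠ 1 → ∀ g : G, g * y * g⁻¹ ∈ Y → g ∈ Y)
    (ht : centralizer ({(e.symm spT : G)} : Set G) ≤ Y) : Y = ⊤ := by
  by_contra hne
  have hall : ∀ z : G, orderOf z = 2 → z ∈ Y → Ctrl Y z := fun z hz hzY => by
    obtain ⟨A, rfl⟩ := exists_emb Y e hzY
    rw [orderOf_injective _ (emb_inj Y e)] at hz
    by_cases hD : IsConj spD A
    · obtain ⟨c, rfl⟩ := isConj_iff.1 hD
      rw [map_mul, map_mul, map_inv]
      exact (ctrl_of_cent e h3 (emb_mem Y e _)
        (by rw [orderOf_injective _ (emb_inj Y e)]; exact tv_order (Or.inl rfl))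
        fun k hk => cent_D e h3 ht hk).conj (emb_mem Y e c)
    · exact ctrl_nonD e h3 ht hz hD
  have hse : Cfsg.IsStronglyEmbedded Y := by
    refine (Invol.se_iff Y).2 ⟨hne, ?_, fun t g ht2 htY hg => ?_⟩
    · rw [even_iff_two_dvd, Nat.card_congr e.toEquiv, SympMult.SpSix.card_sp z2_card]
      norm_num
    · have := hall t ht2 htY g⁻¹ (by rwa [inv_inv])
      simpa using inv_mem this
  exact not_conj_aT (isConj_sp e h3 aT_order (Invol.se_isConj_all hse
    (by rw [orderOf_injective _ (emb_inj Y e), aT_order])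
    (by rw [orderOf_injective _ (emb_inj Y e), tv_order (Or.inr rfl)])))

end Cfsg.Agent.Sp6Local
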