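import Cfsg.Agent.Sp6Local.YProps
import Cfsg.Agent.Sp6Local.CoxIso
import Cfsg.Agent.Sp6Local.TopThree

/-!
# The case of the symplectic group of dimension six
-/

set_option autoImplicit false
set_option synthInstance.maxSize 4000
set_option synthInstance.maxHeartbeats 400000

namespace Cfsg.Agent.Sp6Local

open Cfsg Cfsg.Agent Subgroup Cfsg.Agent.Sym9ThreeLocal

universe u

namespace Conf

variable {G : Type u} [Group G] [Finite G] (h : Conf G)

/-- The large kind with a centraliser which is not local. -/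
theorem sp_of_eight (F : h.Facts) (hk : h.k = .eight) (hb : ¬ centralizer ({h.j e1} : Set G) ≤ h.N) :
    Nonempty (G ≃* Matrix.symplecticGroup (Fin 3) (ZMod 2)) := by
  obtain ⟨s⟩ := h.exists_six hk F hb
  have h0 : h.e7Gen s 0 ≠ 1 := by
    intro e
    exact absurd ((Six.frame h s).inj (e.trans (map_one _).symm))
      (show Equiv.swap (3 : Fin 6) 4 ≠ 1 by decide +kernel)
  obtain ⟨E, hE⟩ := exists_iso_of_cox (h.e7Gen s) (h.e7_rel s F)
    (fun z _ hz hc => h.e7_center s F hz hc) h0
  obtain ⟨h3, ht⟩ := h.y7_props s F E hE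
  have htop := top_of_three (h.Y7 s) E h3 ht
  exact ⟨topEquiv.symm.trans ((MulEquiv.subgroupCongr htop.symm).trans E)⟩

end Conf

end Cfsg.Agent.Sp6Local
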