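import Cfsg.Agent.Sp6Local.Dispatch
import Cfsg.Agent.Classical.ExcU4Two
import Cfsg.Agent.PSp43Rec.PSpSide

/-!
# Transport to the given fields
-/

set_option autoImplicit false
set_option synthInstance.maxSize 4000
set_option synthInstance.maxHeartbeats 400000

namespace Cfsg.Agent.Sp6Local

open Cfsg Matrix

universe u v w

/-- Symplectic matrices over isomorphic fields. -/
def spMapN {n : ℕ} {R : Type v} {S : Type w} [Field R] [Field S] (σ : R ≃+* S) :
    Matrix.symplecticGroup (Fin n) R ≃* Matrix.symplecticGroup (Fin n) S where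
  toFun A := ⟨A.1.map σ, by
    have h := congrArg (fun M : Matrix _ _ R => M.map σ) (SymplecticGroup.mem_iff.1 A.2)
    rw [SymplecticGroup.mem_iff]
    simpa [Matrix.map_mul, Matrix.transpose_map, Matrix.J, Matrix.fromBlocks_map, Matrix.map_neg] using h⟩
  invFun A := ⟨A.1.map σ.symm, by
    have h := congrArg (fun M : Matrix _ _ S => M.map σ.symm) (SymplecticGroup.mem_iff.1 A.2)
    rw [SymplecticGroup.mem_iff]
    simpa [Matrix.map_mul, Matrix.transpose_map, Matrix.J, Matrix.fromBlocks_map, Matrix.map_neg] using h⟩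
  left_inv A := Subtype.ext (by ext i j; simp)
  right_inv A := Subtype.ext (by ext i j; simp)
  map_mul' A B := Subtype.ext (Matrix.map_mul)

/-- The statement over the prime fields gives it over all fields of the two orders. -/
theorem transport_fields {G : Type u} [Group G] (F : Type v) [Field F] [Fintype F] (hF : Fintype.card F = 3)
    (F₂ : Type w) [Field F₂] [Fintype F₂] (hF₂ : Fintype.card F₂ = 2) :
    (Nonempty (G ≃* Cfsg.PSp 2 (ZMod 3)) → Nonempty (G ≃* Cfsg.PSp 2 F)) ∧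
    (Nonempty (G ≃* MulAut (Cfsg.PSp 2 (ZMod 3))) → Nonempty (G ≃* MulAut (Cfsg.PSp 2 F))) ∧
    (Nonempty (G ≃* Matrix.symplecticGroup (Fin 3) (ZMod 2)) →
      Nonempty (G ≃* Matrix.symplecticGroup (Fin 3) F₂)) := by
  have : Fact (Nat.Prime 2) := ⟨Nat.prime_two⟩
  have : Fact (Nat.Prime 3) := ⟨Nat.prime_three⟩
  let σ : (ZMod 3) ≃+* F := ZMod.ringEquivOfPrime F Nat.prime_three hF
  let e3 : Cfsg.PSp 2 (ZMod 3) ≃* Cfsg.PSp 2 F :=
    QuotientGroup.congr _ _ (Classical.U42.spMap σ) (Classical.Exc.center_map_eq _)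
  let τ : (ZMod 2) ≃+* F₂ := ZMod.ringEquivOfPrime F₂ Nat.prime_two hF₂
  exact ⟨fun ⟨e⟩ => ⟨e.trans e3⟩, fun ⟨e⟩ => ⟨e.trans (MulAut.congr e3)⟩, fun ⟨e⟩ => ⟨e.trans (spMapN τ)⟩⟩

end Cfsg.Agent.Sp6Local
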