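import Cfsg.Agent.Sp6Local.AutModel
import Cfsg.Agent.Sp6Local.FactsProof
import Mathlib.GroupTheory.FixedPointFree

/-!
# The conjugates of a single sign change when the coordinate centralisers are local
-/

set_option autoImplicit false
set_option synthInstance.maxSize 4000
set_option synthInstance.maxHeartbeats 400000

namespace Cfsg.Agent.Sp6Local

open Cfsg Cfsg.Agent Subgroup Cfsg.Agent.Sym9ThreeLocal

universe u

theorem act_map_one (u : W) : act u (1 : A) = 1 := by rw [← theta_apply, map_one]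

/-- The vectors fixed by the sign change of the first block. -/
def fixWf : Subgroup A where
  carrier := {a | act wf a = a}
  one_mem' := by show act wf 1 = 1; rw [← theta_apply, map_one]
  mul_mem' {a b} ha hb := (act_hom wf a b).trans (by rw [ha, hb])
  inv_mem' {a} ha := by show act wf a⁻¹ = a⁻¹; rw [← theta_apply, map_inv, theta_apply, ha]

namespace Conf

variable {G : Type u} [Group G] [Finite G] (h : Conf G) (hk : h.k = .eight)

/-- The embedding of the monomial group. -/
def mon : W →* G := (h.emb hk).comp SemidirectProduct.inr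

/-- The single sign change. -/
def flipOne : G := h.mon hk wf

/-- The elementary group of order nine fixed by the sign change. -/
def fixNine : Subgroup G := fixWf.map h.j

omit [Finite G] in
theorem mem_fixNine {g : G} : g ∈ h.fixNine ↔ ∃ a : A, act wf a = a ∧ h.j a = g := Iff.rfl

omit [Finite G] in
theorem emb_inj : Function.Injective (h.emb hk) := fun a b e => congrArg Subtype.val (h.inj e)

omit [Finite G] in
theorem emb_inl (a : A) : h.emb hk (SemidirectProduct.inl a) = h.j a := rfl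

omit [Finite G] in
theorem emb_inr (u : W) : h.emb hk (SemidirectProduct.inr u) = h.mon hk u := rfl

omit [Finite G] in
theorem exists_emb {g : G} (hg : g ∈ h.N) : ∃ m : Mf, h.emb hk m = g := by
  obtain ⟨m, rfl⟩ := hg
  exact ⟨m.1, rfl⟩

omit [Finite G] in
theorem emb_mem (m : Mf) : h.emb hk m ∈ h.N := ⟨_, rfl⟩

omit [Finite G] in
theorem mon_conj (u : W) (a : A) : h.mon hk u * h.j a * (h.mon hk u)⁻¹ = h.j (act u a) :=
  h.conj_j ⟨u, hk ▸ trivial⟩ a

omit [Finite G] in
theorem mon_comm {u : W} {a : A} (e : act u a = a) : Commute (h.mon hk u) (h.j a) :=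
  mul_inv_eq_iff_eq_mul.1 ((h.mon_conj hk u a).trans (congrArg h.j e))

include hk in
/-- Centralisers of nontrivial vectors with a zero entry are local. -/
theorem loc_zero (hloc : centralizer ({h.j e1} : Set G) ≤ h.N) {v : A} (hv : v ≠ 1) (hf : act wf v = v) :
    centralizer ({h.j v} : Set G) ≤ h.N := by
  rcases zero_entry v hv hf with ⟨w, rfl⟩ | ⟨h1, h2⟩
  · intro g hg
    have hg' := mem_centralizer_singleton_iff.1 hg
    rw [← h.mon_conj hk] at hg'
    have h1 : (h.mon hk w)⁻¹ * g * h.mon hk w ∈ h.N := hloc (mem_centralizer_singleton_iff.2 (by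
      calc (h.mon hk w)⁻¹ * g * h.mon hk w * h.j e1
          = (h.mon hk w)⁻¹ * (g * (h.mon hk w * h.j e1 * (h.mon hk w)⁻¹)) * h.mon hk w := by group
        _ = _ := by rw [hg']; group))
    have hw : h.mon hk w ∈ h.N := h.emb_mem hk _
    have := mul_mem (mul_mem hw h1) (inv_mem hw)
    simpa [mul_assoc] using this
  · exact h.loc hv (hk ▸ h1) (hk ▸ h2)

include hk in
/-- A three-element of the normaliser commuting with an involution of the complement is a fixed
translation. -/
theorem mem_small {i : W} {v : A} (hu : ∀ u : W, u ^ 3 = 1 → u * i = i * u → act u v = v → u = 1) {g : G}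
    (hg : g ∈ h.N) (hi : g * h.mon hk i = h.mon hk i * g) (hv : g * h.j v = h.j v * g) {n : ℕ}
    (h3 : g ^ 3 ^ n = 1) : ∃ c : A, g = h.j c ∧ act i c = c := by
  obtain ⟨m, rfl⟩ := h.exists_emb hk hg
  rw [← h.emb_inr hk, ← map_mul, ← map_mul] at hi
  rw [← h.emb_inl hk, ← map_mul, ← map_mul] at hv
  have hi' := h.emb_inj hk hi
  have hv' := h.emb_inj hk hv
  have hil : m.left = act i m.left := by
    simpa [theta_apply, act_map_one] using congrArg SemidirectProduct.left hi'
  have hir : m.right * i = i * m.right := by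
    simpa using congrArg SemidirectProduct.right hi'
  have hvl : m.left * act m.right v = v * m.left := by
    simpa [theta_apply, act_map_one] using congrArg SemidirectProduct.left hv'
  rw [mul_comm v] at hvl
  have h3' : m.right ^ 3 ^ n = 1 := by
    rw [← map_pow] at h3
    have e := congrArg (SemidirectProduct.rightHom : Mf →* W)
      (h.emb_inj hk (h3.trans (map_one (h.emb hk)).symm))
    rwa [map_pow, map_one] at e
  have hcube : m.right ^ 3 = 1 := by
    have h12 := orderOf_dvd_of_pow_eq_one (W_twelve m.right)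
    obtain ⟨l, -, e⟩ := (Nat.dvd_prime_pow Nat.prime_three).1 (orderOf_dvd_of_pow_eq_one h3')
    rw [← orderOf_dvd_iff_pow_eq_one, e]
    rw [e] at h12
    exact (Nat.Coprime.pow_left l (by norm_num)).dvd_of_dvd_mul_right (show 3 ^ l ∣ 3 * 4 from h12)
  have hr : m.right = 1 := hu _ hcube hir (mul_left_cancel hvl)
  refine ⟨m.left, ?_, hil.symm⟩
  rw [← h.emb_inl hk]
  exact congrArg (h.emb hk) (SemidirectProduct.ext rfl hr)

include hk in
omit [Finite G] in
theorem fixNine_comm {g : G} (hg : g ∈ h.fixNine) : g * h.flipOne hk = h.flipOne hk * g := by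
  obtain ⟨a, ha, rfl⟩ := h.mem_fixNine.1 hg
  exact (h.mon_comm hk ha).symm.eq

omit [Finite G] in
theorem pgroup_zpowers {g : G} {n : ℕ} (hg : g ^ 3 ^ n = 1) : IsPGroup 3 (zpowers g) := fun z => ⟨n, by
  obtain ⟨i, hi⟩ := mem_zpowers_iff.1 z.2
  refine Subtype.ext ?_
  show (z : G) ^ 3 ^ n = 1
  rw [← hi, ← zpow_natCast, ← zpow_mul, mul_comm, zpow_mul, zpow_natCast, hg, one_zpow]⟩

variable (hloc : centralizer ({h.j e1} : Set G) ≤ h.N)
include hloc

/-- The group of order nine is a maximal three-subgroup of the centraliser of the sign change. -/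
theorem fixNine_max {P : Subgroup G} (hP : IsPGroup 3 P) (hle : h.fixNine ≤ P)
    (hPf : ∀ p ∈ P, p * h.flipOne hk = h.flipOne hk * p) : P ≤ h.fixNine := by
  haveI : Fact (Nat.Prime 3) := ⟨Nat.prime_three⟩
  obtain ⟨-, -, -, -, -, hfe2, -, -, -, he2, -⟩ := small_fix
  have hu : ∀ u : W, u ^ 3 = 1 → u * wf = wf * u → act u (1 : A) = 1 → u = 1 := fun u h3 hu _ =>
    (flip_three u h3).1 hu
  have key : ∀ p ∈ P, p ∈ h.N → p ∈ h.fixNine := fun p hp hpN => by
    obtain ⟨n, hn⟩ := hP ⟨p, hp⟩
    obtain ⟨c, hc, hfc⟩ := h.mem_small hk hu hpN (hPf p hp) (by simp) (n := n) (congrArg Subtype.val hn)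
    exact h.mem_fixNine.2 ⟨c, hfc, hc.symm⟩
  haveI : Nontrivial P := by
    rw [nontrivial_iff_ne_bot]
    intro e
    exact h.j_ne he2 ((eq_bot_iff_forall _).1 e _ (hle (h.mem_fixNine.2 ⟨e2, hfe2, rfl⟩)))
  haveI := hP.center_nontrivial
  obtain ⟨z, hz⟩ := exists_ne (1 : center P)
  have hzc : ∀ p ∈ P, p * ((z : P) : G) = ((z : P) : G) * p := fun p hp =>
    congrArg Subtype.val (mem_center_iff.1 z.2 ⟨p, hp⟩)
  have hzN : ((z : P) : G) ∈ h.N := h.loc_zero hk hloc he2 hfe2
    (mem_centralizer_singleton_iff.2 (hzc _ (hle (h.mem_fixNine.2 ⟨e2, hfe2, rfl⟩))).symm)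
  obtain ⟨a, ha, e⟩ := h.mem_fixNine.1 (key _ (z : P).2 hzN)
  have ha1 : a ≠ 1 := fun e1 => hz (Subtype.ext (Subtype.ext (by rw [← e, e1, map_one]; rfl)))
  exact fun p hp => key p hp (h.loc_zero hk hloc ha1 ha (mem_centralizer_singleton_iff.2 (by
    rw [e]; exact hzc p hp)))

/-- Three-elements of the centraliser of the sign change are conjugate into the group of order nine. -/
theorem into_fixNine {y : G} (hy : y * h.flipOne hk = h.flipOne hk * y) {n : ℕ} (h3 : y ^ 3 ^ n = 1) :
    ∃ c : G, c * h.flipOne hk = h.flipOne hk * c ∧ c * y * c⁻¹ ∈ h.fixNine := by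
  haveI : Fact (Nat.Prime 3) := ⟨Nat.prime_three⟩
  set C := centralizer ({h.flipOne hk} : Set G) with hC
  have hJ3 : IsPGroup 3 h.fixNine := (IsPGroup.of_card (p := 3) (G := h.J) (n := 3)
    (by rw [h.J_card]; norm_num)).to_le (by rintro _ ⟨a, -, rfl⟩; exact h.j_mem a)
  obtain ⟨S0, hS0⟩ := (hJ3.comap_subtype (K := C)).exists_le_sylow
  obtain ⟨R, hR⟩ := ((pgroup_zpowers h3).comap_subtype (K := C)).exists_le_sylow
  obtain ⟨c, hc⟩ := MulAction.exists_smul_eq C R S0
  have hmax := h.fixNine_max hk hloc (P := (S0 : Subgroup C).map C.subtype) (S0.2.map C.subtype)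
    (fun p hp => ⟨⟨p, mem_centralizer_singleton_iff.2 (h.fixNine_comm hk hp)⟩, hS0 hp, rfl⟩)
    (by rintro _ ⟨p, -, rfl⟩; exact mem_centralizer_singleton_iff.1 p.2)
  refine ⟨c, mem_centralizer_singleton_iff.1 c.2, hmax ⟨c * ⟨y, mem_centralizer_singleton_iff.2 hy⟩ * c⁻¹,
    ?_, rfl⟩⟩
  rw [← hc, Sylow.coe_subgroup_smul]
  exact ⟨_, hR (mem_zpowers y), rfl⟩

/-- No conjugate of the sign change centralises the given element. -/
theorem not_cent (g : G) : ¬ g * h.flipOne hk * g⁻¹ * h.x = h.x * (g * h.flipOne hk * g⁻¹) := by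
  intro e
  have hcom : g⁻¹ * h.x * g * h.flipOne hk = h.flipOne hk * (g⁻¹ * h.x * g) := by
    calc g⁻¹ * h.x * g * h.flipOne hk = g⁻¹ * (h.x * (g * h.flipOne hk * g⁻¹)) * g := by group
      _ = _ := by rw [← e]; group
  have h3 : (g⁻¹ * h.x * g) ^ 3 ^ 1 = 1 := by
    have := conj_pow (i := 3) (a := g⁻¹) (b := h.x)
    rw [inv_inv, h.J_cube _ (h.j_mem xA), mul_one, inv_mul_cancel] at this
    rwa [pow_one]
  obtain ⟨c, -, hc⟩ := h.into_fixNine hk hloc hcom h3
  obtain ⟨a, ha, e'⟩ := h.mem_fixNine.1 hc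
  obtain ⟨w, -, hw⟩ := h.ctrl (c * g⁻¹) xA a xA_ne (by rw [e']; group)
  obtain ⟨-, -, -, -, -, -, -, hne, -⟩ := small_fix
  exact (hne w).2 (hw ▸ ha)

/-- An involution of the complement fixing only a line with local centraliser is not conjugate to a single
sign change. -/
theorem not_small {i : W} {v : A} (hv : v ≠ 1) (hiv : act i v = v)
    (hfix : ∀ a : A, act i a = a → a = 1 ∨ a = v ∨ a = v * v)
    (hu : ∀ u : W, u ^ 3 = 1 → u * i = i * u → act u v = v → u = 1)
    (hl : centralizer ({h.j v} : Set G) ≤ h.N) : ¬ IsConj (h.flipOne hk) (h.mon hk i) := by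
  intro e
  obtain ⟨g, hg⟩ := isConj_iff.1 e
  have hcom : g⁻¹ * h.j v * g * h.flipOne hk = h.flipOne hk * (g⁻¹ * h.j v * g) := by
    have h1 := (h.mon_comm hk hiv).eq
    calc g⁻¹ * h.j v * g * h.flipOne hk = g⁻¹ * (h.j v * (g * h.flipOne hk * g⁻¹)) * g := by group
      _ = _ := by rw [hg, ← h1, ← hg]; group
  have h3 : (g⁻¹ * h.j v * g) ^ 3 ^ 1 = 1 := by
    have := conj_pow (i := 3) (a := g⁻¹) (b := h.j v)
    rw [inv_inv, h.J_cube _ (h.j_mem v), mul_one, inv_mul_cancel] at this
    rwa [pow_one]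
  obtain ⟨c, hcf, hc⟩ := h.into_fixNine hk hloc hcom h3
  obtain ⟨a, ha, hca⟩ := h.mem_fixNine.1 hc
  set k := g * c⁻¹ with hkdef
  have hkf : k * h.flipOne hk * k⁻¹ = h.mon hk i := by
    rw [hkdef, ← hg, show g * c⁻¹ * h.flipOne hk * (g * c⁻¹)⁻¹ = g * (c⁻¹ * (h.flipOne hk * c)) * g⁻¹ by group,
      ← hcf, inv_mul_cancel_left]
  have hkv : k * h.j a * k⁻¹ = h.j v := by rw [hkdef, hca]; group
  -- the group of order nine lands in a line
  have hline : ∀ b : A, act wf b = b → k * h.j b * k⁻¹ = 1 ∨ k * h.j b * k⁻¹ = h.j v ∨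
      k * h.j b * k⁻¹ = h.j (v * v) := by
    intro b hb
    have h1 : k * h.j b * k⁻¹ * h.mon hk i = h.mon hk i * (k * h.j b * k⁻¹) := by
      have h1' := h.fixNine_comm hk (h.mem_fixNine.2 ⟨b, hb, rfl⟩)
      rw [← hkf]
      calc k * h.j b * k⁻¹ * (k * h.flipOne hk * k⁻¹) = k * (h.j b * h.flipOne hk) * k⁻¹ := by group
        _ = _ := by rw [h1']; group
    have h2 : k * h.j b * k⁻¹ * h.j v = h.j v * (k * h.j b * k⁻¹) := by
      rw [← hkv]
      calc k * h.j b * k⁻¹ * (k * h.j a * k⁻¹) = k * (h.j b * h.j a) * k⁻¹ := by group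
        _ = _ := by rw [h.j_comm]; group
    obtain ⟨d, hd, hfd⟩ := h.mem_small hk hu (hl (mem_centralizer_singleton_iff.2 h2)) h1 h2 (n := 1) (by
      rw [pow_one, conj_pow, h.J_cube _ (h.j_mem b), mul_one, mul_inv_cancel])
    rcases hfix d hfd with rfl | rfl | rfl
    · exact Or.inl (hd.trans h.j.map_one)
    · exact Or.inr (Or.inl hd)
    · exact Or.inr (Or.inr hd)
  obtain ⟨-, -, -, -, -, hfe2, hfe3, -, -, h2, h3', h23, h22, h223, h222, -⟩ := small_fix
  have hinj : ∀ b b' : A, k * h.j b * k⁻¹ = k * h.j b' * k⁻¹ → b = b' := fun b b' e =>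
    h.j_inj (mul_left_cancel (mul_right_cancel e))
  have hne : ∀ b : A, b ≠ 1 → act wf b = b →
      k * h.j b * k⁻¹ = h.j v ∨ k * h.j b * k⁻¹ = h.j (v * v) := fun b hb hfb =>
    (hline b hfb).resolve_left fun e => h.j_ne hb (conj_eq_one_iff.1 e)
  have hf22 : act wf (e2 * e2) = e2 * e2 := by rw [act_hom, hfe2]
  rcases hne _ h2 hfe2 with e1 | e1 <;> rcases hne _ h3' hfe3 with e3' | e3' <;>
    rcases hne _ h22 hf22 with e4 | e4
  all_goals
    first
      | exact h23 (hinj _ _ (e1.trans e3'.symm))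
      | exact h222 (hinj _ _ (e4.trans e1.symm))
      | exact h223 (hinj _ _ (e4.trans e3'.symm))

/-- No conjugate of the sign change inverts the given element. -/
theorem not_line (g : G) : g * h.flipOne hk * g⁻¹ * h.x * (g * h.flipOne hk * g⁻¹)⁻¹ ≠ h.x⁻¹ := by
  intro hix
  obtain ⟨i, hi⟩ : ∃ i, i = g * h.flipOne hk * g⁻¹ := ⟨_, rfl⟩
  rw [← hi] at hix
  have hf2 : h.flipOne hk * h.flipOne hk = 1 := by
    show h.mon hk wf * h.mon hk wf = 1
    rw [← map_mul, show wf * wf = 1 from wreath_model.2.2.2.2.2.2.2.1, map_one]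
  have hi2 : i * i = 1 := by
    rw [hi]
    calc g * h.flipOne hk * g⁻¹ * (g * h.flipOne hk * g⁻¹) = g * (h.flipOne hk * h.flipOne hk) * g⁻¹ := by group
      _ = 1 := by rw [hf2]; group
  have hii : i⁻¹ = i := inv_eq_of_mul_eq_one_right hi2
  rw [hii] at hix
  -- the involution normalises the centraliser
  have hcomm : ∀ c : G, c * h.x = h.x * c → i * c * i * h.x = h.x * (i * c * i) := by
    intro c hc
    have h1 : Commute c h.x⁻¹ := (show Commute c h.x from hc).inv_right
    rw [← hix] at h1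
    calc i * c * i * h.x = i * (c * (i * h.x * i)) * i := by
          rw [show i * (c * (i * h.x * i)) * i = i * c * i * h.x * (i * i) by group, hi2, mul_one]
      _ = _ := by
          rw [h1.eq]
          calc i * (i * h.x * i * c) * i = i * i * h.x * (i * c * i) := by group
            _ = _ := by rw [hi2, one_mul]
  -- so it normalises the extraspecial subgroup
  obtain ⟨π, hπs, hπ⟩ := h.projX'
  have hR : ∀ r ∈ h.R, i * r * i ∈ h.R := by
    intro r hr
    have hrC : i * r * i ∈ centralizer ({h.x} : Set G) :=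
      mem_centralizer_singleton_iff.2 (hcomm r (h.x_comm_R hr))
    refine (hπ ⟨_, hrC⟩).1 (sl3_models.1 _ ?_ fun b => ?_)
    · rw [← pow_three, ← map_pow]
      refine (hπ _).2 ?_
      show (i * r * i) ^ 3 ∈ h.R
      have := conj_pow (i := 3) (a := i) (b := r)
      rw [hii, h.cubeR r hr, mul_one, hi2] at this
      rw [this]; exact one_mem _
    · obtain ⟨c, rfl⟩ := hπs b
      rw [← map_inv π, ← map_mul, ← map_mul, ← map_mul, ← pow_three, ← map_pow]
      refine (hπ _).2 ?_
      show (i * r * i * ((c : G) * (i * r * i) * (c : G)⁻¹)) ^ 3 ∈ h.R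
      have hc' := h.R_normal (hcomm c (mem_centralizer_singleton_iff.1 c.2)) hr
      have e : i * r * i * ((c : G) * (i * r * i) * (c : G)⁻¹) =
          i * (r * (i * c * i * r * (i * c * i)⁻¹)) * i⁻¹ := by
        rw [mul_inv_rev, mul_inv_rev, hii]
        calc i * r * i * ((c : G) * (i * r * i) * (c : G)⁻¹)
            = i * r * (i * c * i * r * (i * (c : G)⁻¹ * i)) * i := by
              rw [show i * r * (i * c * i * r * (i * (c : G)⁻¹ * i)) * i =
                i * r * i * c * i * r * i * (c : G)⁻¹ * (i * i) by group, hi2, mul_one]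
              group
          _ = _ := by group
      rw [e, conj_pow, h.cubeR _ (mul_mem hr hc'), mul_one, mul_inv_cancel]
      exact one_mem _
  let τ : h.R →* h.R :=
    { toFun := fun r => ⟨i * r * i, hR r r.2⟩
      map_one' := Subtype.ext (by simp [hi2])
      map_mul' := fun r s => Subtype.ext (by
        show i * ((r : G) * s) * i = i * r * i * (i * s * i)
        calc i * ((r : G) * s) * i = i * r * (i * i) * s * i := by rw [hi2]; group
          _ = _ := by group) }
  obtain ⟨r, hrR, hir, hr1⟩ : ∃ r ∈ h.R, i * r * i = r ∧ r ≠ 1 := by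
    by_contra hno
    have hfree : MonoidHom.FixedPointFree τ := fun r e => by
      by_contra hr
      exact hno ⟨r, r.2, congrArg Subtype.val e, fun e' => hr (Subtype.ext e')⟩
    have hinv : Function.Involutive τ := fun r => Subtype.ext (by
      show i * (i * r * i) * i = r
      calc i * (i * (r : G) * i) * i = i * i * r * (i * i) := by group
        _ = _ := by rw [hi2, one_mul, mul_one])
    have hall : h.R ≤ zpowers h.x := fun r hr => (h.centerR' r).2 ⟨hr, fun s hs =>
      congrArg Subtype.val (hfree.commute_all_of_involutive hinv ⟨r, hr⟩ ⟨s, hs⟩).eq⟩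
    have := card_le_of_le hall
    rw [h.cardR, Nat.card_zpowers, h.order_j xA_ne] at this
    omega
  have hrx : r ∉ zpowers h.x := by
    intro hm
    rcases A9ThreeLocal.zpowers_three_cases (h.J_cube _ (h.j_mem xA)) hm with e | e | e
    · exact hr1 e
    · rw [e, hix] at hir
      exact four_fixed.2.2.2.2.2 (h.j_inj (by rw [map_inv]; exact hir))
    · rw [e] at hir
      have h1 : i * (i * h.x * i) * i = h.x⁻¹ := by rw [hix]; exact hir
      rw [show i * (i * h.x * i) * i = i * i * h.x * (i * i) by group, hi2, one_mul, mul_one] at h1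
      exact four_fixed.2.2.2.2.2 (h.j_inj (by rw [map_inv]; exact h1.symm))
  obtain ⟨c, hc, hcr⟩ := h.R_fuse hrR hrx
  have hc' := mem_centralizer_singleton_iff.1 hc
  set i' := c * i * c⁻¹ with hi'
  have hi'v : i' * h.j vz = h.j vz * i' := by
    have h1 : i * r = r * i := by
      calc i * r = i * r * (i * i) := by rw [hi2, mul_one]
        _ = i * r * i * i := by group
        _ = r * i := by rw [hir]
    rw [hi', ← hcr]
    calc c * i * c⁻¹ * (c * r * c⁻¹) = c * (i * r) * c⁻¹ := by group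
      _ = _ := by rw [h1]; group
  obtain ⟨hfd, hfw, hwv, hde, hfvz, -, -, -, hwit, -, -, -, -, -, -, he1, hvz⟩ := small_fix
  obtain ⟨m, hm⟩ := h.exists_emb hk (h.loc_zero hk hloc hvz hfvz (mem_centralizer_singleton_iff.2 hi'v))
  have hm2 : m * m = 1 := h.emb_inj hk (by
    rw [map_mul, hm, map_one, hi']
    calc c * i * c⁻¹ * (c * i * c⁻¹) = c * (i * i) * c⁻¹ := by group
      _ = 1 := by rw [hi2]; group)
  have hact : ∀ a : A, h.emb hk m * h.j a * (h.emb hk m)⁻¹ = h.j (act m.right a) := fun a => by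
    rw [← SemidirectProduct.inl_left_mul_inr_right m, map_mul, h.emb_inl, h.emb_inr]
    calc h.j m.left * h.mon hk m.right * h.j a * (h.j m.left * h.mon hk m.right)⁻¹
        = h.j m.left * (h.mon hk m.right * h.j a * (h.mon hk m.right)⁻¹) * (h.j m.left)⁻¹ := by group
      _ = _ := by
          rw [h.mon_conj, h.j_comm, mul_inv_cancel_right,
            SemidirectProduct.inl_left_mul_inr_right]
  have hmv : act m.right vz = vz := h.j_inj (by rw [← hact, hm, hi'v, mul_inv_cancel_right])
  have hmx : act m.right xA = xA⁻¹ := h.j_inj (by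
    rw [← hact, hm, map_inv, hi']
    have hc2 : c⁻¹ * h.x * c = h.x := by rw [mul_assoc, ← hc', inv_mul_cancel_left]
    calc c * i * c⁻¹ * h.x * (c * i * c⁻¹)⁻¹ = c * (i * (c⁻¹ * h.x * c) * i⁻¹) * c⁻¹ := by group
      _ = c * h.x⁻¹ * c⁻¹ := by rw [hc2, hii, hix]
      _ = h.x⁻¹ := by rw [(show Commute c h.x from hc').inv_right.eq, mul_inv_cancel_right])
  have hr := hwit _ hmv hmx
  refine h.not_small hk hloc hvz hwv hfw (fun u h3 hu _ => (flip_three u h3).2.2 hu)
    (h.loc_zero hk hloc hvz hfvz) ?_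
  refine (isConj_iff.2 ⟨g, hi.symm⟩).trans ((isConj_iff.2 ⟨c, (rfl : c * i * c⁻¹ = i')⟩).trans
    (isConj_iff.2 ⟨(h.j m.left⁻¹)⁻¹, ?_⟩))
  show _ * i' * _ = _
  have hinv := congrArg (h.emb hk) (invol_Mf m hm2).1
  simp only [map_mul, map_inv, h.emb_inl, h.emb_inr] at hinv
  rw [← hm, ← hr, ← hinv, map_inv]
  group

/-- The conjugates of the sign change in the normaliser. -/
theorem conj_flip_iff (m : Mf) : IsConj (h.flipOne hk) (h.emb hk m) ↔ m * m = 1 ∧ IsFlip m.right := by
  have htr : m * m = 1 → IsConj (h.mon hk m.right) (h.emb hk m) := fun hm => by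
    refine isConj_iff.2 ⟨h.j m.left⁻¹, ?_⟩
    conv_rhs => rw [← (invol_Mf m hm).1]
    simp only [map_mul, map_inv, h.emb_inl, h.emb_inr]
  constructor
  · intro e
    obtain ⟨g, hg⟩ := isConj_iff.1 e
    have hf2 : h.flipOne hk * h.flipOne hk = 1 := by
      show h.mon hk wf * h.mon hk wf = 1
      rw [← map_mul, show wf * wf = 1 from wreath_model.2.2.2.2.2.2.2.1, map_one]
    have hm : m * m = 1 := h.emb_inj hk (by
      rw [map_mul, map_one, ← hg]
      calc g * h.flipOne hk * g⁻¹ * (g * h.flipOne hk * g⁻¹) = g * (h.flipOne hk * h.flipOne hk) * g⁻¹ := by group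
        _ = 1 := by rw [hf2]; group)
    have hne : m.right ≠ 1 := fun e1 => wreath_model.2.2.2.2.2.2.2.2 (by
      have h1 := (invol_Mf m hm).2 e1
      rw [h1, map_one, conj_eq_one_iff] at hg
      exact (h.emb_inj hk).comp SemidirectProduct.inr_injective (hg.trans (map_one (h.mon hk)).symm))
    have hr2 : m.right * m.right = 1 := congrArg SemidirectProduct.right hm
    refine ⟨hm, ?_⟩
    rcases invol_W _ hr2 hne with hf | ⟨w, hw⟩ | ⟨w, hw⟩
    · exact hf
    · exfalso
      have e' : IsConj (h.flipOne hk) (h.mon hk (w⁻¹ * m.right * w)) :=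
        e.trans ((htr hm).symm.trans (isConj_iff.2 ⟨(h.mon hk w)⁻¹, by
          simp only [map_mul, map_inv]; group⟩))
      obtain ⟨k, hk'⟩ := isConj_iff.1 e'
      rcases hw with hw | hw
      · refine h.not_cent hk hloc k ?_
        rw [hk']
        exact (h.mon_comm hk hw).eq
      · refine h.not_line hk hloc k ?_
        rw [hk', h.mon_conj, hw, map_inv]
    · exfalso
      obtain ⟨hfd, -, -, hde, -, -, -, -, -, -, -, -, -, -, -, he1, -⟩ := small_fix
      refine h.not_small hk hloc he1 hde hfd (fun u h3 hu hv => (flip_three u h3).2.1 hu hv) hloc ?_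
      refine e.trans ((htr hm).symm.trans (isConj_iff.2 ⟨(h.mon hk w)⁻¹, ?_⟩))
      rw [← hw]
      simp only [map_mul, map_inv]; group
  · rintro ⟨hm, hf⟩
    obtain ⟨w, hw⟩ := flip_conj _ hf
    refine (isConj_iff.2 ⟨h.mon hk w, ?_⟩).trans (htr hm)
    rw [← hw, map_mul, map_mul, map_inv]
    rfl

theorem conj_flip_card : Nat.card {n : G // n ∈ h.N ∧ IsConj (h.flipOne hk) n} = 9 := by
  rw [← flip_count, ← Fintype.card_subtype, ← Nat.card_eq_fintype_card]
  refine (Nat.card_congr (Equiv.ofBijective (fun m : {m : Mf // m * m = 1 ∧ IsFlip m.right} =>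
    (⟨h.emb hk m.1, h.emb_mem hk _, (h.conj_flip_iff hk hloc m.1).2 m.2⟩ :
      {n : G // n ∈ h.N ∧ IsConj (h.flipOne hk) n})) ⟨fun a b e => ?_, ?_⟩)).symm
  · exact Subtype.ext (h.emb_inj hk (congrArg Subtype.val e :))
  · rintro ⟨n, hn, hc⟩
    obtain ⟨m, rfl⟩ := h.exists_emb hk hn
    exact ⟨⟨m, (h.conj_flip_iff hk hloc m).1 hc⟩, rfl⟩

omit hloc

include hk in
theorem N_card : Nat.card h.N = 1296 := by
  have e : Nat.card h.N = Nat.card Mf := (Nat.card_congr (Equiv.ofBijective (fun m : Mf =>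
    (⟨h.emb hk m, h.emb_mem hk m⟩ : h.N)) ⟨fun a b e => h.emb_inj hk (congrArg Subtype.val e :), fun g => by
      obtain ⟨m, hm⟩ := h.exists_emb hk g.2
      exact ⟨m, Subtype.ext hm⟩⟩)).symm
  rw [e, Nat.card_congr SemidirectProduct.equivProd, Nat.card_prod, card_A, Nat.card_eq_fintype_card]
  rfl

include hk in
/-- The index of the normaliser is even. -/
theorem index_even : Even h.N.index := by
  classical
  haveI : Fact (Nat.Prime 2) := ⟨Nat.prime_two⟩
  letI := Fintype.ofFinite G
  by_contra hodd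
  set C := centralizer ({h.x} : Set G) with hC
  obtain ⟨π, hπs, hπ⟩ := h.projX'
  haveI : Nonempty (Sylow 2 C) := inferInstance
  let P : Sylow 2 C := Classical.arbitrary _
  have hP8 : Nat.card (P : Subgroup C) = 8 := by
    rw [P.card_eq_multiplicity, show Nat.card C = 648 from h.card_x,
      show (648 : ℕ) = 2 ^ 3 * 81 by norm_num, Nat.factorization_mul (by norm_num) (by norm_num),
      Nat.prime_two.factorization_pow]
    simp [Nat.factorization_eq_zero_of_not_dvd (show ¬ 2 ∣ 81 by decide)]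
  letI := Fintype.ofFinite (P : Subgroup C)
  set ρ := π.comp (P : Subgroup C).subtype with hρ
  have hinj : Function.Injective ρ := (injective_iff_map_eq_one ρ).2 fun p hp => by
    have h8 : p ^ 8 = 1 := orderOf_dvd_iff_pow_eq_one.1 (hP8 ▸ orderOf_dvd_natCard p)
    have hR : ((p : C) : G) ∈ h.R := (hπ _).1 hp
    refine orderOf_eq_one_iff.1 (Nat.eq_one_of_dvd_coprimes (show Nat.Coprime 8 3 by norm_num)
      (orderOf_dvd_of_pow_eq_one h8) (orderOf_dvd_of_pow_eq_one (Subtype.ext (Subtype.ext ?_))))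
    exact h.cubeR _ hR
  obtain ⟨hcard, h4, a, b, ha, hb, ha2, hb2, hab⟩ := sl3_quat
  have hall : ∀ g : PSp43Amalgam.SL3, g * g * (g * g) = 1 → ∃ p, ρ p = g := by
    intro g hg
    have hsub : (Finset.univ.image ρ) ⊆ Finset.univ.filter fun g : PSp43Amalgam.SL3 => g * g * (g * g) = 1 := by
      intro y hy
      simp only [Finset.mem_image, Finset.mem_univ, true_and] at hy
      obtain ⟨p, rfl⟩ := hy
      simp only [Finset.mem_filter, Finset.mem_univ, true_and]
      exact h4 _ (by rw [← map_pow, orderOf_dvd_iff_pow_eq_one.1 (hP8 ▸ orderOf_dvd_natCard p), map_one])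
    have e := Finset.eq_of_subset_of_card_le hsub (by
      rw [hcard, Finset.card_image_of_injective _ hinj, Finset.card_univ, ← Nat.card_eq_fintype_card, hP8])
    have hm : g ∈ Finset.univ.image ρ := by rw [e]; simpa using hg
    simpa using hm
  obtain ⟨p, rfl⟩ := hall a ha
  obtain ⟨p', rfl⟩ := hall b hb
  simp only [← map_inv, ← map_mul, ← map_one ρ, hinj.eq_iff, hinj.ne_iff] at ha ha2 hb2 hab
  -- a fixed coset of the two-group
  have hP : IsPGroup 2 ((P : Subgroup C).map C.subtype) := P.2.map C.subtype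
  obtain ⟨q, hq⟩ := hP.nonempty_fixed_point_of_prime_not_dvd_card (G ⧸ h.N) (by
    rw [← index_eq_card]; exact fun hd => hodd (even_iff_two_dvd.2 hd))
  obtain ⟨y, rfl⟩ := QuotientGroup.mk_surjective q
  have hmem : ∀ p : (P : Subgroup C), ∃ m : Mf, h.emb hk m = y⁻¹ * ((p : C) : G) * y := fun p =>
    h.exists_emb hk (by
      have e1 : ((((p : C) : G) * y : G) : G ⧸ h.N) = (y : G ⧸ h.N) := hq ⟨_, ⟨(p : C), p.2, rfl⟩⟩
      rw [eq_comm, QuotientGroup.eq, ← mul_assoc] at e1
      exact e1)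
  choose μ hμ using hmem
  let μh : (P : Subgroup C) →* Mf := MonoidHom.mk' μ fun p q => h.emb_inj hk (by
    rw [map_mul, hμ, hμ, hμ]
    simp only [Subgroup.coe_mul]
    group)
  have hμinj : Function.Injective μh := fun p q e => by
    have : y⁻¹ * ((p : C) : G) * y = y⁻¹ * ((q : C) : G) * y := by
      rw [← hμ, ← hμ]; exact congrArg _ e
    exact Subtype.ext (Subtype.ext (mul_left_cancel (mul_right_cancel this)))
  set u := (μh p).right with hu
  set v := (μh p').right with hv
  have hu4 : u ^ 4 = 1 := by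
    have := congrArg (fun z => (μh z).right) ha
    simpa [pow_succ, mul_assoc, ← hu] using this
  have hu2 : u * u ≠ 1 := fun e => ha2 (hμinj (by
    rw [map_mul, map_one]
    exact sq_Mf _ (by rw [← map_mul, ← map_mul, ha, map_one]) e))
  exact no_quat u v hu4 hu2 (by simpa [← hu, ← hv] using congrArg (fun z => (μh z).right) hb2)
    (by simpa [← hu, ← hv] using congrArg (fun z => (μh z).right) hab)

end Conf

end Cfsg.Agent.Sp6Local
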