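import Cfsg.Agent.Sp6Local.Loc
import Cfsg.Agent.Sym9ThreeLocal.FactsProof

/-!
# The centraliser of the given element of order three
-/

set_option autoImplicit false
set_option synthInstance.maxSize 4000
set_option synthInstance.maxHeartbeats 400000

namespace Cfsg.Agent.Sp6Local

open Cfsg Cfsg.Agent Subgroup Cfsg.Agent.Sym9ThreeLocal

universe u

/-- A vector of sum zero outside the diagonal line. -/
def vz : A := vec 0 1 2

theorem x_stab_card : ∀ k, (Finset.univ.filter fun q : W => inK k q ∧ act q xA = xA).card = 6 := by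
  decide +kernel

theorem xz_stab : (∀ k, (Finset.univ.filter fun q : W => inK k q ∧ act q xA = xA ∧ act q vz = vz).card = 1) ∧
    vz ≠ 1 ∧ vz ∉ ({1, xA, xA * xA} : Finset A) := by
  decide +kernel

theorem x_model : (∀ u : W, u.left = 1 → u ^ 3 = 1 → InS u) ∧
    (∀ u : W, InS u → u.left = 1 ∧ act u xA = xA) ∧
    (∀ u : W, act u xA = xA → u ^ 6 = 1 ∧ u * u ∈ ({1, wc, wc * wc} : Finset W)) ∧
    (∀ m : Mf, InS m.right → m.right ≠ 1 → m ^ 3 = 1 →
      ∃ i j : Fin 3, m.left = xA ^ (i : ℕ) * vz ^ (j : ℕ)) ∧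
    (∀ m : Mf, InS m.right → m ^ 27 = 1) := by
  refine ⟨by decide +kernel, by decide +kernel, by decide +kernel, by decide +kernel, by decide +kernel⟩

theorem shift_cases : ∀ u : W, InS u → u ≠ 1 → ∀ a : A,
    (act u a * a⁻¹ = 1 ∧ (a = 1 ∨ a = xA ∨ a = xA * xA)) ∨
    (∃ i l : Fin 3, a = xA ^ (i : ℕ) * vz ^ (l : ℕ) ∧ l ≠ 0) ∨
    (∃ i l : Fin 3, act u a * a⁻¹ = xA ^ (i : ℕ) * vz ^ (l : ℕ) ∧ l ≠ 0) := by
  decide +kernel

theorem vz_pow : ∀ l : Fin 3, l ≠ 0 → vz ^ (l : ℕ) = vz ∨ vz ^ (l : ℕ) = vz⁻¹ := by decide +kernel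

theorem sl3_card : Nat.card PSp43Amalgam.SL3 = 24 := by
  rw [Nat.card_eq_fintype_card]; decide +kernel

namespace Conf

variable {G : Type u} [Group G] [Finite G] (h : Conf G)

theorem projX' : ∃ f : centralizer ({h.x} : Set G) →* PSp43Amalgam.SL3, Function.Surjective f ∧
    ∀ g, f g = 1 ↔ (g : G) ∈ h.R := h.projX

theorem leR' : h.R ≤ centralizer ({h.x} : Set G) := h.leR

theorem centerR' (r : G) : r ∈ zpowers h.x ↔ r ∈ h.R ∧ ∀ s ∈ h.R, r * s = s * r := h.centerR r

theorem card_x : Nat.card (centralizer ({h.x} : Set G)) = 648 := by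
  obtain ⟨f, hs, hf⟩ := h.projX'
  have h1 := f.ker.card_mul_index
  have e : f.ker = h.R.subgroupOf (centralizer ({h.x} : Set G)) := by
    ext g; rw [MonoidHom.mem_ker, mem_subgroupOf]; exact hf g
  rw [index_ker, MonoidHom.range_eq_top.2 hs, card_top, sl3_card, e,
    Nat.card_congr (subgroupOfEquivOfLe h.leR').toEquiv, h.cardR] at h1
  exact h1.symm

theorem R_normal {g r : G} (hg : g * h.x = h.x * g) (hr : r ∈ h.R) : g * r * g⁻¹ ∈ h.R := by
  obtain ⟨f, -, hf⟩ := h.projX'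
  set C := centralizer ({h.x} : Set G) with hC
  have e := (hf (⟨g, mem_centralizer_singleton_iff.2 hg⟩ * ⟨r, h.leR' hr⟩ *
    (⟨g, mem_centralizer_singleton_iff.2 hg⟩ : C)⁻¹)).1 (by
      rw [map_mul, map_mul, map_inv, (hf ⟨r, h.leR' hr⟩).2 hr, mul_one, mul_inv_cancel])
  exact e

theorem x_mem_R : h.x ∈ h.R := ((h.centerR' h.x).1 (mem_zpowers _)).1

theorem x_comm_R {r : G} (hr : r ∈ h.R) : r * h.x = h.x * r :=
  (((h.centerR' h.x).1 (mem_zpowers _)).2 r hr).symm

/-- The stabiliser of the diagonal vector in the normaliser. -/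
theorem card_x_inf : Nat.card (h.N ⊓ centralizer ({h.x} : Set G) : Subgroup G) = 162 := by
  rw [h.card_cent_inf, x_stab_card]

theorem mem_S {g : G} : g ∈ h.S ↔ ∃ (c : A) (u : KG h.k), InS u ∧ g = h.j c * h.q u := by
  constructor
  · intro hg
    let S' : Subgroup G :=
      { carrier := {g | ∃ (c : A) (u : KG h.k), InS u ∧ g = h.j c * h.q u}
        one_mem' := ⟨1, 1, Or.inl rfl, by simp⟩
        mul_mem' := by
          rintro _ _ ⟨c, u, hu, rfl⟩ ⟨c', u', hu', rfl⟩
          refine ⟨c * act u c', u * u', sylow_model.2.1 _ _ hu hu', ?_⟩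
          rw [map_mul, map_mul, ← h.conj_j]; group
        inv_mem' := by
          rintro _ ⟨c, u, hu, rfl⟩
          refine ⟨act ((u⁻¹ : KG h.k) : W) c⁻¹, u⁻¹, sylow_model.2.2.1 _ hu, ?_⟩
          rw [← h.conj_j, map_inv, map_inv, mul_inv_rev]; group }
    have hle : h.S ≤ S' := sup_le
      (by rintro _ ⟨a, rfl⟩; exact ⟨a, 1, Or.inl rfl, by simp⟩)
      (zpowers_le.2 ⟨1, ⟨wc, inK_wc h.k⟩, Or.inr (Or.inl rfl), by rw [map_one, one_mul]; rfl⟩)
    exact hle hg
  · rintro ⟨c, u, hu, rfl⟩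
    refine mul_mem (mem_sup_left (h.j_mem c)) (mem_sup_right ?_)
    rcases hu with e | e | e
    · rw [show u = 1 from Subtype.ext e, map_one]; exact one_mem _
    · rw [show u = ⟨wc, inK_wc h.k⟩ from Subtype.ext e]; exact mem_zpowers _
    · rw [show u = ⟨wc, inK_wc h.k⟩ * ⟨wc, inK_wc h.k⟩ from Subtype.ext e, map_mul]
      exact mul_mem (mem_zpowers _) (mem_zpowers _)

theorem S_card : Nat.card h.S = 81 := by
  classical
  rw [show 81 = Nat.card A * (Finset.univ.filter fun u : W => inK h.k u ∧ InS u).card by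
      rw [card_A, sylow_model.1],
    ← Fintype.card_subtype, ← Nat.card_eq_fintype_card, ← Nat.card_prod]
  refine (Nat.card_congr (Equiv.ofBijective
    (fun p : A × {u : W // inK h.k u ∧ InS u} =>
      (⟨h.j p.1 * h.q ⟨p.2.1, p.2.2.1⟩, h.mem_S.2 ⟨_, _, p.2.2.2, rfl⟩⟩ : h.S)) ⟨?_, ?_⟩)).symm
  · rintro ⟨a, q⟩ ⟨b, r⟩ e
    have e' : h.j a * h.q ⟨q.1, q.2.1⟩ = h.j b * h.q ⟨r.1, r.2.1⟩ := congrArg Subtype.val e
    have e2 : inlA h.k a * inrK h.k ⟨q.1, q.2.1⟩ = inlA h.k b * inrK h.k ⟨r.1, r.2.1⟩ :=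
      h.inj (by rw [map_mul, map_mul]; exact e')
    have e3 := congrArg Subtype.val e2
    change (SemidirectProduct.inl a * SemidirectProduct.inr q.1 : Mf) =
      SemidirectProduct.inl b * SemidirectProduct.inr r.1 at e3
    have hl := congrArg SemidirectProduct.left e3
    have hr := congrArg SemidirectProduct.right e3
    simp at hl hr
    exact Prod.ext hl (Subtype.ext hr)
  · rintro ⟨g, hg⟩
    obtain ⟨c, u, hu, rfl⟩ := h.mem_S.1 hg
    exact ⟨(c, ⟨u, u.2, hu⟩), rfl⟩

theorem J_le_S : h.J ≤ h.S := le_sup_left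

theorem S_le_N : h.S ≤ h.N := sup_le h.J_le_N (zpowers_le.2 (h.q_mem_N _))

theorem S_le_cent : h.S ≤ centralizer ({h.x} : Set G) := by
  intro g hg
  obtain ⟨c, u, hu, rfl⟩ := h.mem_S.1 hg
  refine mul_mem (h.J_le_cent xA (h.j_mem c)) (mem_centralizer_singleton_iff.2 ?_)
  exact mul_inv_eq_iff_eq_mul.1 ((h.conj_j u xA).trans (congrArg h.j (x_model.2.1 _ hu).2))

theorem S_center : ∀ s ∈ h.S, (∀ t ∈ h.S, s * t = t * s) → s ∈ zpowers h.x := by
  intro s hs hc
  obtain ⟨a, rfl⟩ := h.cent_J fun a => hc _ (h.J_le_S (h.j_mem a))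
  have hcy : h.cyc ∈ h.S := mem_sup_right (mem_zpowers _)
  have e := hc _ hcy
  have hfix : act wc a = a := h.j_inj (by
    rw [← h.conj_j ⟨wc, inK_wc h.k⟩]
    exact mul_inv_eq_iff_eq_mul.2 e.symm)
  rcases sylow_model.2.2.2.2.2.1 a hfix with rfl | rfl | rfl
  · rw [map_one]; exact one_mem _
  · exact mem_zpowers _
  · rw [map_mul]; exact mul_mem (mem_zpowers _) (mem_zpowers _)

theorem S_isPGroup : IsPGroup 3 h.S := IsPGroup.of_card (n := 4) (by rw [h.S_card]; norm_num)

/-- A subgroup of odd order of the stabiliser lies in the Sylow subgroup. -/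
theorem mem_S_of_inf {g : G} (hg : g ∈ h.N) (hx : g * h.x = h.x * g) (h3 : g ^ 27 = 1) : g ∈ h.S := by
  obtain ⟨u, hu, c, rfl⟩ := h.exists_act hg
  have hfix : act u xA = xA := h.j_inj (by rw [← hu]; exact mul_inv_eq_iff_eq_mul.2 hx)
  obtain ⟨h6, hsq⟩ := x_model.2.2.1 _ hfix
  simp only [Finset.mem_insert, Finset.mem_singleton] at hsq
  -- the square is in the Sylow subgroup
  have hs : (h.j c * h.q u) * (h.j c * h.q u) ∈ h.S := by
    refine h.mem_S.2 ⟨c * act u c, u * u, hsq, ?_⟩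
    rw [map_mul, map_mul, ← h.conj_j]; group
  have e : h.j c * h.q u = ((h.j c * h.q u) * (h.j c * h.q u)) ^ 14 := by
    rw [← pow_two, ← pow_mul, show 2 * 14 = 27 + 1 from rfl, pow_add, h3, one_mul, pow_one]
  rw [e]
  exact pow_mem hs _

/-- The extraspecial subgroup lies in the Sylow subgroup. -/
theorem R_le_S : h.R ≤ h.S := by
  classical
  haveI : Fact (Nat.Prime 3) := ⟨Nat.prime_three⟩
  have hn : h.J ≤ normalizer (h.R : Set G) := fun g hg => mem_normalizer_fintype fun r hr =>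
    h.R_normal (h.J_comm _ hg _ (h.j_mem xA)) hr
  have hP : IsPGroup 3 (h.J ⊔ h.R : Subgroup G) :=
    (IsPGroup.of_card (n := 3) (by rw [h.J_card]; norm_num)).to_sup_of_normal_right'
      (IsPGroup.of_card (n := 3) (by rw [h.cardR]; norm_num)) hn
  set P : Subgroup G := h.J ⊔ h.R with hPdef
  have hPle : P ≤ centralizer ({h.x} : Set G) := sup_le (h.J_le_cent xA) h.leR'
  have hR : h.R ≤ h.N := by
    have hd : Nat.card P ∣ 648 := h.card_x ▸ card_dvd_of_le hPle
    obtain ⟨n, hn'⟩ := IsPGroup.iff_card.1 hP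
    rw [hn'] at hd
    have hn4 : n ≤ 4 := by
      by_contra hlt
      have : 3 ^ 5 ∣ 648 := (pow_dvd_pow 3 (by omega)).trans hd
      norm_num at this
    have hJ' : Nat.card (h.J.subgroupOf P) = 27 := by
      rw [Nat.card_congr (subgroupOfEquivOfLe (le_sup_left : h.J ≤ P)).toEquiv, h.J_card]
    have hidx := card_mul_index (h.J.subgroupOf P)
    rw [hJ', hn'] at hidx
    haveI : (h.J.subgroupOf P).Normal := by
      rcases (show n ≤ 2 ∨ n = 3 ∨ n = 4 by omega) with e | e | e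
      · exfalso
        have := (Nat.pow_le_pow_right (show 0 < 3 by norm_num) e)
        have := (h.J.subgroupOf P).index_ne_zero_of_finite
        omega
      · subst e
        have : (h.J.subgroupOf P).index = 1 := by omega
        rw [index_eq_one.1 this]; infer_instance
      · subst e
        refine Subgroup.normal_of_index_eq_minFac_card ?_
        rw [hn', Nat.pow_minFac (by norm_num), Nat.prime_three.minFac_eq]
        omega
    intro r hr
    rw [h.N_eq]
    exact (normal_subgroupOf_iff_le_normalizer (le_sup_left : h.J ≤ P)).1 inferInstance (mem_sup_right hr)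
  exact fun r hr => h.mem_S_of_inf (hR hr) (h.x_comm_R hr) (by
    rw [show (27 : ℕ) = 3 * 9 from rfl, pow_mul, h.cubeR r hr, one_pow])

/-- An element of order three of the Sylow subgroup outside the elementary subgroup, read in the model. -/
theorem exists_zero_sum {g : G} (hg : g ∈ h.S) (hJ : g ∉ h.J) (h3 : g ^ 3 = 1) :
    ∃ (i l : Fin 3) (u : KG h.k), g = h.j (xA ^ (i : ℕ) * vz ^ (l : ℕ)) * h.q u ∧ InS u ∧ (u : W) ≠ 1 := by
  obtain ⟨c, u, hu, rfl⟩ := h.mem_S.1 hg
  have hu1 : (u : W) ≠ 1 := fun e => hJ (by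
    rw [show u = 1 from Subtype.ext e, map_one, mul_one]; exact h.j_mem c)
  have hm : (inlA h.k c * inrK h.k u) ^ 3 = 1 := h.inj (by rw [map_pow, map_mul, map_one]; exact h3)
  have hm' : ((SemidirectProduct.inl c * SemidirectProduct.inr (u : W)) : Mf) ^ 3 = 1 := congrArg Subtype.val hm
  obtain ⟨i, l, e⟩ := x_model.2.2.2.1 (SemidirectProduct.inl c * SemidirectProduct.inr (u : W))
    (by simpa using hu) (by simpa using hu1) hm'
  simp at e
  exact ⟨i, l, u, by rw [e], hu, hu1⟩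

/-- The two generators of the intersection of the subgroups, and the cycle. -/
theorem R_gens : h.j vz ∈ h.R ∧ h.cyc ∈ h.R := by
  classical
  haveI : Fact (Nat.Prime 3) := ⟨Nat.prime_three⟩
  have hne : h.R ≠ h.J := by
    intro e
    have hall : h.R ≤ zpowers h.x := fun r hr => (h.centerR' r).2 ⟨hr, fun s hs =>
      h.J_comm r (e ▸ hr) s (e ▸ hs)⟩
    have := card_le_of_le hall
    rw [h.cardR, Nat.card_zpowers, h.order_j xA_ne] at this
    omega
  obtain ⟨r, hr, hrJ⟩ : ∃ r ∈ h.R, r ∉ h.J := by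
    by_contra hall
    push Not at hall
    exact hne (eq_of_le_of_card_ge hall (by rw [h.cardR, h.J_card]))
  -- the intersection is not central
  have hzR : h.j vz ∈ h.R := by
    by_contra hzn
    have hmem : ∀ s ∈ h.R, s ∈ h.J → s ∈ zpowers h.x := by
      intro s hs hsJ
      obtain ⟨a, rfl⟩ := hsJ
      by_contra ha
      -- the commutator with an element outside is a central vector
      obtain ⟨i, l, u, e, hu, hu1⟩ := h.exists_zero_sum (h.R_le_S hr) hrJ (h.cubeR r hr)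
      have hc : r * h.j a * r⁻¹ = h.j (act u a) := by
        rw [e]
        calc h.j (xA ^ (i : ℕ) * vz ^ (l : ℕ)) * h.q u * h.j a * (h.j (xA ^ (i : ℕ) * vz ^ (l : ℕ)) * h.q u)⁻¹
            = h.j (xA ^ (i : ℕ) * vz ^ (l : ℕ)) * (h.q u * h.j a * (h.q u)⁻¹) *
              (h.j (xA ^ (i : ℕ) * vz ^ (l : ℕ)))⁻¹ := by group
          _ = _ := by rw [h.conj_j, h.j_comm, mul_inv_cancel_right]
      rcases shift_cases u hu hu1 a
        with ⟨-, e1 | e1 | e1⟩ | ⟨i', l', e1, hl⟩ | ⟨i', l', e1, hl⟩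
      · exact ha (by rw [e1, map_one]; exact one_mem _)
      · exact ha (by rw [e1]; exact mem_zpowers _)
      · exact ha (by rw [e1, map_mul]; exact mul_mem (mem_zpowers _) (mem_zpowers _))
      all_goals
        have hv : h.j (xA ^ (i' : ℕ) * vz ^ (l' : ℕ)) ∈ h.R := by
          rw [← e1]
          first
            | exact hs
            | (rw [map_mul, map_inv, ← hc]
               exact mul_mem (mul_mem (mul_mem hr hs) (inv_mem hr)) (inv_mem hs))
        have hv2 : h.j (vz ^ (l' : ℕ)) ∈ h.R := by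
          have := mul_mem (inv_mem (pow_mem h.x_mem_R (i' : ℕ))) hv
          rwa [← map_pow, ← map_inv, ← map_mul, inv_mul_cancel_left] at this
        refine hzn ?_
        have e3 := vz_pow l' hl
        rcases e3 with e3 | e3
        · rwa [e3] at hv2
        · rw [e3, map_inv, inv_mem_iff] at hv2; exact hv2
    -- then the index of the central line in the extraspecial subgroup would be at most three
    set T := h.J.subgroupOf h.R with hT
    have hT3 : Nat.card T ≤ 3 := by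
      rw [← h.order_j xA_ne, ← Nat.card_zpowers]
      refine Nat.card_le_card_of_injective (fun t : T => (⟨((t : h.R) : G),
        hmem _ (t : h.R).2 t.2⟩ : zpowers h.x)) fun s t e => ?_
      exact Subtype.ext (Subtype.ext (congrArg Subtype.val e :))
    have hidx : T.index ≤ 3 := by
      have h1 : T.index ≤ (h.J.subgroupOf h.S).index := by
        rw [hT]
        show h.J.relIndex h.R ≤ h.J.relIndex h.S
        exact relIndex_le_of_le_right h.R_le_S (by
          show (h.J.subgroupOf h.S).index ≠ 0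
          exact index_ne_zero_of_finite)
      have h2 := card_mul_index (h.J.subgroupOf h.S)
      rw [Nat.card_congr (subgroupOfEquivOfLe h.J_le_S).toEquiv, h.J_card, h.S_card] at h2
      omega
    have h3 := card_mul_index T
    rw [h.cardR] at h3
    nlinarith [T.index_ne_zero_of_finite]
  refine ⟨hzR, ?_⟩
  obtain ⟨i, l, u, e, hu, hu1⟩ := h.exists_zero_sum (h.R_le_S hr) hrJ (h.cubeR r hr)
  have hq : h.q u ∈ h.R := by
    have hc : h.j (xA ^ (i : ℕ) * vz ^ (l : ℕ)) ∈ h.R := by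
      rw [map_mul, map_pow, map_pow]; exact mul_mem (pow_mem h.x_mem_R _) (pow_mem hzR _)
    have := mul_mem (inv_mem hc) hr
    rwa [e, inv_mul_cancel_left] at this
  rcases hu with e1 | e1 | e1
  · exact absurd e1 hu1
  · rwa [show u = ⟨wc, inK_wc h.k⟩ from Subtype.ext e1] at hq
  · have h2 := mul_mem hq hq
    rw [← map_mul, show u * u = ⟨wc, inK_wc h.k⟩ from Subtype.ext (by
      show (u : W) * (u : W) = wc
      rw [e1]; decide +kernel)] at h2
    exact h2

/-- Elements of order dividing three of the Sylow subgroup. -/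
theorem S_three {g : G} (hg : g ∈ h.S) (h3 : g ^ 3 = 1) : g ∈ h.J ∨ g ∈ h.R := by
  by_cases hJ : g ∈ h.J
  · exact Or.inl hJ
  right
  obtain ⟨i, l, u, rfl, hu, hu1⟩ := h.exists_zero_sum hg hJ h3
  obtain ⟨hz, hc⟩ := h.R_gens
  refine mul_mem (by rw [map_mul, map_pow, map_pow]; exact mul_mem (pow_mem h.x_mem_R _) (pow_mem hz _)) ?_
  rcases hu with e | e | e
  · exact absurd e hu1
  · rwa [show u = ⟨wc, inK_wc h.k⟩ from Subtype.ext e]
  · rw [show u = ⟨wc, inK_wc h.k⟩ * ⟨wc, inK_wc h.k⟩ from Subtype.ext e, map_mul]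
    exact mul_mem hc hc

/-- The elements of the given centraliser commuting with the second vector. -/
theorem cent_xz : centralizer ({h.x} : Set G) ⊓ centralizer ({h.j vz} : Set G) = h.J := by
  classical
  refine le_antisymm (fun g hg => ?_) (le_inf (h.J_le_cent _) (h.J_le_cent _))
  have hw : vz ∉ zpowers xA := fun hm => by
    have h3 := xz_stab.2.2
    rcases A9ThreeLocal.zpowers_three_cases (A_cube xA) hm with e | e | e <;> rw [e] at h3
    · exact h3 (by simp)
    · exact h3 (by simp)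
    · exact h3 (by simp [show xA⁻¹ = xA * xA by decide +kernel])
  have hgN : g ∈ h.N := h.pair xA_ne hw hg
  obtain ⟨u, hu, c, rfl⟩ := h.exists_act hgN
  have h1 : act u xA = xA := h.j_inj (by
    rw [← hu]; exact mul_inv_eq_iff_eq_mul.2 (mem_centralizer_singleton_iff.1 hg.1))
  have h2 : act u vz = vz := h.j_inj (by
    rw [← hu]; exact mul_inv_eq_iff_eq_mul.2 (mem_centralizer_singleton_iff.1 hg.2))
  have hm : ∀ k (q : W), inK k q → act q xA = xA → act q vz = vz → q = 1 := by decide +kernel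
  rw [show u = 1 from Subtype.ext (hm h.k u u.2 h1 h2), map_one, mul_one]
  exact h.j_mem c

/-- Every non-central element of the extraspecial subgroup is conjugate to the second vector. -/
theorem R_fuse {r : G} (hr : r ∈ h.R) (hr1 : r ∉ zpowers h.x) :
    ∃ c ∈ centralizer ({h.x} : Set G), c * r * c⁻¹ = h.j vz := by
  classical
  set C := centralizer ({h.x} : Set G) with hC
  obtain ⟨hz, -⟩ := h.R_gens
  haveI := Fintype.ofFinite G
  set O : Finset G := Finset.univ.filter fun y => ∃ c ∈ C, c * h.j vz * c⁻¹ = y with hO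
  set U : Finset G := Finset.univ.filter fun y => y ∈ h.R ∧ y ∉ zpowers h.x with hU
  have hzx : h.j vz ∉ zpowers h.x := fun hm => by
    have h3 := xz_stab.2.2
    obtain ⟨i, hi⟩ := mem_zpowers_iff.1 hm
    rw [← map_zpow, h.j_inj.eq_iff] at hi
    rcases A9ThreeLocal.zpowers_three_cases (A_cube xA) (mem_zpowers_iff.2 ⟨i, hi⟩) with e | e | e <;>
      rw [e] at h3
    · exact h3 (by simp)
    · exact h3 (by simp)
    · exact h3 (by simp [show xA⁻¹ = xA * xA by decide +kernel])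
  have hsub : O ⊆ U := by
    intro y hy
    simp only [hO, hU, Finset.mem_filter, Finset.mem_univ, true_and] at hy ⊢
    obtain ⟨c, hc, rfl⟩ := hy
    have hcx := mem_centralizer_singleton_iff.1 hc
    refine ⟨h.R_normal hcx hz, fun hm => hzx ?_⟩
    obtain ⟨i, hi⟩ := mem_zpowers_iff.1 hm
    refine mem_zpowers_iff.2 ⟨i, ?_⟩
    calc h.x ^ i = c⁻¹ * (c * h.x ^ i) := by group
      _ = c⁻¹ * (h.x ^ i * c) := by rw [((show Commute c h.x from hcx).zpow_right i).eq]
      _ = h.j vz := by rw [hi]; group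
  have hUc : U.card = 24 := by
    have hsd : U = (Finset.univ.filter fun y => y ∈ h.R) \ Finset.univ.filter fun y => y ∈ zpowers h.x := by
      ext y; simp [hU]
    rw [hsd, Finset.card_sdiff_of_subset (by
      intro y hy
      simp only [Finset.mem_filter, Finset.mem_univ, true_and] at hy ⊢
      exact zpowers_le.2 h.x_mem_R hy), ← Fintype.card_subtype, ← Fintype.card_subtype,
      ← Nat.card_eq_fintype_card, ← Nat.card_eq_fintype_card]
    rw [show Nat.card {y // y ∈ h.R} = 27 from h.cardR,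
      show Nat.card {y // y ∈ zpowers h.x} = 3 from (Nat.card_zpowers _).trans (h.order_j xA_ne)]
  have hOc : O.card = 24 := by
    let act' : MulAction C G := MulAction.compHom G
      ((ConjAct.toConjAct : G ≃* ConjAct G).toMonoidHom.comp C.subtype)
    letI := act'
    have hsm : ∀ (f : C) (a : G), f • a = (f : G) * a * (f : G)⁻¹ := fun f a =>
      ConjAct.smul_def (ConjAct.toConjAct (f : G)) a
    have horb : MulAction.orbit C (h.j vz) = {y | ∃ c ∈ C, c * h.j vz * c⁻¹ = y} := by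
      ext y
      constructor
      · rintro ⟨f, rfl⟩; exact ⟨f, f.2, (hsm f _).symm⟩
      · rintro ⟨c, hc, rfl⟩; exact ⟨⟨c, hc⟩, hsm _ _⟩
    have hst : MulAction.stabilizer C (h.j vz) = h.J.subgroupOf C := by
      ext f
      rw [MulAction.mem_stabilizer_iff, hsm, mul_inv_eq_iff_eq_mul, mem_subgroupOf, ← h.cent_xz, mem_inf,
        mem_centralizer_singleton_iff, mem_centralizer_singleton_iff]
      exact ⟨fun e => ⟨mem_centralizer_singleton_iff.1 f.2, e⟩, fun e => e.2⟩
    have h1 := card_mul_index (MulAction.stabilizer C (h.j vz))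
    rw [index_eq_card, ← Nat.card_congr (MulAction.orbitEquivQuotientStabilizer C (h.j vz)), horb, hst,
      Nat.card_congr (subgroupOfEquivOfLe (h.J_le_cent xA)).toEquiv, h.J_card, hC, h.card_x] at h1
    rw [hO, ← Fintype.card_subtype, ← Nat.card_eq_fintype_card]
    exact Nat.eq_of_mul_eq_mul_left (show 0 < 27 by norm_num) h1
  have e : O = U := Finset.eq_of_subset_of_card_le hsub (by rw [hUc, hOc])
  have hm : r ∈ O := by rw [e, hU]; simp [hr, hr1]
  simp only [hO, Finset.mem_filter, Finset.mem_univ, true_and] at hm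
  obtain ⟨c, hc, hcr⟩ := hm
  exact ⟨c⁻¹, inv_mem hc, by rw [← hcr]; group⟩

/-- The subgroup is a Sylow subgroup. -/
theorem sylow (P : Subgroup G) (hP : IsPGroup 3 P) : ∃ g : G, ∀ y ∈ P, g * y * g⁻¹ ∈ h.S := by
  haveI : Fact (Nat.Prime 3) := ⟨Nat.prime_three⟩
  obtain ⟨Q, hQ⟩ := h.S_isPGroup.exists_le_sylow
  have hQS : (Q : Subgroup G) = h.S := by
    by_contra hne
    have hlt : h.S.subgroupOf (Q : Subgroup G) < ⊤ :=
      lt_top_iff_ne_top.2 fun e => hne (le_antisymm (subgroupOf_eq_top.1 e) hQ)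
    haveI : Group.IsNilpotent (Q : Subgroup G) := Q.2.isNilpotent
    obtain ⟨g, hgN, hgS⟩ := SetLike.exists_of_lt (Group.normalizerCondition_of_isNilpotent _ hlt)
    have hgn : ∀ y ∈ h.S, (g : G) * y * (g : G)⁻¹ ∈ h.S := fun y hy =>
      (mem_normalizer_iff.1 hgN ⟨y, hQ hy⟩).1 hy
    have hxS : h.x ∈ h.S := h.J_le_S (h.j_mem xA)
    have hgx : (g : G) * h.x * (g : G)⁻¹ ∈ zpowers h.x := by
      refine h.S_center _ (hgn _ hxS) fun t ht => ?_
      have hgn' : (g : G)⁻¹ * t * g ∈ h.S := (mem_normalizer_iff''.1 hgN ⟨t, hQ ht⟩).1 ht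
      have hc := mem_centralizer_singleton_iff.1 (h.S_le_cent hgn')
      calc (g : G) * h.x * (g : G)⁻¹ * t = (g : G) * (h.x * ((g : G)⁻¹ * t * g)) * (g : G)⁻¹ := by group
        _ = _ := by rw [← hc]; group
    have hgC : (g : G) ∈ centralizer ({h.x} : Set G) := by
      rcases A9ThreeLocal.zpowers_three_cases (h.J_cube _ (h.j_mem xA)) hgx with e | e | e
      · exact absurd (conj_eq_one_iff.1 e) (h.j_ne xA_ne)
      · exact mem_centralizer_singleton_iff.2 (mul_inv_eq_iff_eq_mul.1 e)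
      · exfalso
        obtain ⟨n, hn⟩ := Q.2 g
        have hn' : (g : G) ^ 3 ^ n = 1 := by simpa using congrArg Subtype.val hn
        have hodd : ∀ m : ℕ, (g : G) ^ (2 * m + 1) * h.x * ((g : G) ^ (2 * m + 1))⁻¹ = h.x⁻¹ := by
          intro m
          induction m with
          | zero => simpa using e
          | succ m ih =>
            calc (g : G) ^ (2 * (m + 1) + 1) * h.x * ((g : G) ^ (2 * (m + 1) + 1))⁻¹
                = (g : G) * ((g : G) * ((g : G) ^ (2 * m + 1) * h.x * ((g : G) ^ (2 * m + 1))⁻¹) * (g : G)⁻¹) *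
                  (g : G)⁻¹ := by
                  rw [show 2 * (m + 1) + 1 = (2 * m + 1) + 1 + 1 by ring, pow_succ', pow_succ']; group
              _ = h.x⁻¹ := by rw [ih, ← conj_inv, e, inv_inv, e]
        obtain ⟨m, hm⟩ := Odd.pow (n := n) (show Odd 3 by decide)
        have h2 := hodd m
        rw [← hm, hn'] at h2
        have h4 : h.x = h.x⁻¹ := by simpa using h2
        have h5 : h.x * h.x = 1 := by nth_rw 2 [h4]; exact mul_inv_cancel _
        have h6 := h.J_cube _ (h.j_mem xA)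
        rw [pow_succ, pow_two, h5, one_mul] at h6
        exact h.j_ne xA_ne h6
    -- a larger three-subgroup of the centraliser
    have hle : h.S ⊔ zpowers (g : G) ≤ centralizer ({h.x} : Set G) :=
      sup_le h.S_le_cent (zpowers_le.2 hgC)
    have hlt' : h.S < h.S ⊔ zpowers (g : G) :=
      lt_of_le_of_ne le_sup_left fun e => hgS (mem_subgroupOf.2 (e ▸ mem_sup_right (mem_zpowers _)))
    have hp : IsPGroup 3 (h.S ⊔ zpowers (g : G) : Subgroup G) :=
      Q.2.to_le (sup_le hQ (zpowers_le.2 g.2))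
    obtain ⟨n, hn⟩ := IsPGroup.iff_card.1 hp
    have hd := card_dvd_of_le hle
    rw [h.card_x, hn] at hd
    have h5 : 5 ≤ n := by
      by_contra hlt5
      have h81 : Nat.card (h.S ⊔ zpowers (g : G) : Subgroup G) ≤ Nat.card h.S := by
        rw [hn, h.S_card]; exact Nat.pow_le_pow_right (n := 3) (by norm_num) (by omega : n ≤ 4)
      exact hlt'.ne (eq_of_le_of_card_ge hlt'.le h81)
    have : 3 ^ 5 ∣ 648 := (pow_dvd_pow 3 h5).trans hd
    norm_num at this
  obtain ⟨R, hR⟩ := hP.exists_le_sylow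
  obtain ⟨k, hk⟩ := MulAction.exists_smul_eq G R Q
  refine ⟨k, fun y hy => ?_⟩
  rw [← hQS, ← hk, Sylow.coe_subgroup_smul]
  exact ⟨y, hR hy, rfl⟩

/-- Every element of order dividing three is conjugate into the elementary subgroup. -/
theorem three (y : G) (hy : y ^ 3 = 1) : ∃ g : G, g * y * g⁻¹ ∈ h.J := by
  haveI : Fact (Nat.Prime 3) := ⟨Nat.prime_three⟩
  obtain ⟨g, hg⟩ := h.sylow (zpowers y) fun z => ⟨1, by
    obtain ⟨i, hi⟩ := mem_zpowers_iff.1 z.2
    refine Subtype.ext ?_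
    show (z : G) ^ 3 ^ 1 = 1
    rw [pow_one, ← hi, ← zpow_natCast, ← zpow_mul, mul_comm, zpow_mul, zpow_natCast, hy, one_zpow]⟩
  have h3 : (g * y * g⁻¹) ^ 3 = 1 := by rw [conj_pow, hy, mul_one, mul_inv_cancel]
  rcases h.S_three (hg y (mem_zpowers _)) h3 with hJ | hR
  · exact ⟨g, hJ⟩
  by_cases hx : g * y * g⁻¹ ∈ zpowers h.x
  · exact ⟨g, zpowers_le.2 (h.j_mem xA) hx⟩
  obtain ⟨c, -, hc⟩ := h.R_fuse hR hx
  exact ⟨c * g, by
    rw [show c * g * y * (c * g)⁻¹ = c * (g * y * g⁻¹) * c⁻¹ by group, hc]; exact h.j_mem _⟩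

/-- The given centraliser has no normal subgroup of order prime to three. -/
theorem core_x (K : Subgroup G) (hK : K ≤ centralizer ({h.x} : Set G)) (h3 : (Nat.card K).Coprime 3)
    (hn : centralizer ({h.x} : Set G) ≤ normalizer (K : Set G)) : K = ⊥ := by
  refine eq_bot_iff.2 fun k hk => ?_
  have hcom : ∀ r ∈ h.R, k * r = r * k := by
    intro r hr
    have h1 : k * r * k⁻¹ * r⁻¹ ∈ h.R :=
      mul_mem (h.R_normal (mem_centralizer_singleton_iff.1 (hK hk)) hr) (inv_mem hr)
    have h2 : k * r * k⁻¹ * r⁻¹ ∈ K := by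
      rw [show k * r * k⁻¹ * r⁻¹ = k * (r * k⁻¹ * r⁻¹) by group]
      exact mul_mem hk ((mem_normalizer_iff.1 (hn (h.leR' hr)) _).1 (inv_mem hk))
    have e : k * r * k⁻¹ * r⁻¹ = 1 := orderOf_eq_one_iff.1 (Nat.eq_one_of_dvd_coprimes h3
      (K.orderOf_dvd_natCard h2) (orderOf_dvd_of_pow_eq_one (h.cubeR _ h1)))
    exact mul_inv_eq_iff_eq_mul.1 (mul_inv_eq_one.1 e)
  have hJ : k ∈ h.J := h.cent_xz ▸ mem_inf.2 ⟨hK hk, mem_centralizer_singleton_iff.2 (hcom _ h.R_gens.1)⟩
  exact mem_bot.2 (orderOf_eq_one_iff.1 (Nat.eq_one_of_dvd_coprimes h3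
    (K.orderOf_dvd_natCard hk) (orderOf_dvd_of_pow_eq_one (h.J_cube _ hJ))))

/-- An abelian subgroup of order 27 of the given centraliser is conjugate in it to the elementary one. -/
theorem exists_conj_J {T : Subgroup G} (hT : T ≤ centralizer ({h.x} : Set G))
    (hc : ∀ a ∈ T, ∀ b ∈ T, a * b = b * a) (h27 : Nat.card T = 27) :
    ∃ c ∈ centralizer ({h.x} : Set G), ∀ y ∈ T, c * y * c⁻¹ ∈ h.J := by
  classical
  haveI : Fact (Nat.Prime 3) := ⟨Nat.prime_three⟩
  set C := centralizer ({h.x} : Set G) with hC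
  have hP : IsPGroup 3 (h.S.subgroupOf C) := IsPGroup.of_card (n := 4) (by
    rw [Nat.card_congr (subgroupOfEquivOfLe h.S_le_cent).toEquiv, h.S_card]; norm_num)
  have hidx : ¬ 3 ∣ (h.S.subgroupOf C).index := by
    have h1 := card_mul_index (h.S.subgroupOf C)
    rw [Nat.card_congr (subgroupOfEquivOfLe h.S_le_cent).toEquiv, h.S_card,
      show Nat.card C = 648 from h.card_x] at h1
    omega
  have hTp : IsPGroup 3 (T.subgroupOf C) := IsPGroup.of_card (n := 3) (by
    rw [Nat.card_congr (subgroupOfEquivOfLe hT).toEquiv, h27]; norm_num)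
  obtain ⟨Q, hQ⟩ := hTp.exists_le_sylow
  obtain ⟨c, hc'⟩ := MulAction.exists_smul_eq C Q (hP.toSylow hidx)
  have hmem : ∀ y ∈ T, (c : G) * y * (c : G)⁻¹ ∈ h.S := by
    intro y hy
    have : c * ⟨y, hT hy⟩ * c⁻¹ ∈ h.S.subgroupOf C := by
      rw [← IsPGroup.toSylow_coe hP hidx, ← hc', Sylow.coe_subgroup_smul]
      exact ⟨_, hQ (show (⟨y, hT hy⟩ : C) ∈ T.subgroupOf C from hy), rfl⟩
    exact this
  refine ⟨c, c.2, fun y hy => ?_⟩
  set T' := T.map (MulAut.conj (c : G)).toMonoidHom with hT'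
  have hmemT : ∀ t : T', (t : G) ∈ h.S := by
    rintro ⟨t, s, hs, rfl⟩; exact hmem s hs
  by_contra hne
  set t0 := (c : G) * y * (c : G)⁻¹ with ht0
  have ht0T : t0 ∈ T' := ⟨y, hy, rfl⟩
  have hlift : ∀ t : T', ∃ m : Mk h.k, h.φ m = (t : G) ∧ InS m.1.right := fun t => by
    obtain ⟨a, u, hu, e⟩ := h.mem_S.1 (hmemT t)
    refine ⟨inlA h.k a * inrK h.k u, by rw [map_mul, e]; rfl, ?_⟩
    show InS ((SemidirectProduct.inl a * SemidirectProduct.inr (u : W) : Mf)).right
    simpa using hu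
  obtain ⟨m, hm, hmS⟩ := hlift ⟨t0, ht0T⟩
  have hr : m.1.right ≠ 1 := fun e => hne ⟨m.1.left, by
    show h.φ (inlA h.k m.1.left) = t0
    refine Eq.trans ?_ hm; congr 1
    exact Subtype.ext (SemidirectProduct.ext rfl e.symm)⟩
  have hlt := abelian_small m.1 (x_model.2.1 _ hmS).1 hr (x_model.2.2.2.2 _ hmS)
  choose f hf hfS using hlift
  have hle : Nat.card T' ≤ (Finset.univ.filter fun n : Mf => n.right.left = 1 ∧ n * m.1 = m.1 * n).card := by
    rw [← Fintype.card_subtype, ← Nat.card_eq_fintype_card]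
    refine Nat.card_le_card_of_injective (fun t => ⟨(f t).1, (x_model.2.1 _ (hfS t)).1, ?_⟩) fun s t e => ?_
    · refine congrArg Subtype.val (show f t * m = m * f t from h.inj ?_)
      rw [map_mul, map_mul, hf, hm]
      obtain ⟨s', hs', e'⟩ := t.2
      show (t : G) * t0 = t0 * (t : G)
      rw [ht0, ← e']
      show MulAut.conj (c : G) s' * MulAut.conj (c : G) y = MulAut.conj (c : G) y * MulAut.conj (c : G) s'
      rw [← map_mul, ← map_mul, hc s' hs' y hy]
    · have e' : f s = f t := Subtype.ext (congrArg Subtype.val e :)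
      exact Subtype.ext (by rw [← hf s, ← hf t, e'])
  rw [hT', card_map_of_injective (MulAut.conj (c : G)).injective, h27] at hle
  omega

/-- An element normalising the line is a product. -/
theorem line (g : G) (hg : g * h.x * g⁻¹ = h.x ∨ g * h.x * g⁻¹ = h.x⁻¹) :
    ∃ c ∈ centralizer ({h.x} : Set G), ∃ n ∈ h.N, g = c * n := by
  have hle : h.J.map (MulAut.conj g).toMonoidHom ≤ centralizer ({h.x} : Set G) := by
    rintro _ ⟨y, hy, rfl⟩
    have e : MulAut.conj g h.x * MulAut.conj g y = MulAut.conj g y * MulAut.conj g h.x := by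
      rw [← map_mul, ← map_mul, h.J_comm _ (h.j_mem xA) _ hy]
    rw [MulAut.conj_apply g h.x] at e
    rcases hg with e' | e' <;> rw [e'] at e
    · exact mem_centralizer_singleton_iff.2 e.symm
    · exact mem_centralizer_singleton_iff.2 (Commute.inv_right_iff.1 e.symm)
  obtain ⟨c, hc, hcT⟩ := h.exists_conj_J hle (by
    rintro _ ⟨a, ha, rfl⟩ _ ⟨b, hb, rfl⟩
    rw [← map_mul, ← map_mul, h.J_comm a ha b hb]) (by
    rw [card_map_of_injective (MulAut.conj g).injective, h.J_card])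
  refine ⟨c⁻¹, inv_mem hc, c * g, h.mem_N_iff.2 fun a => ?_, by group⟩
  obtain ⟨b, hb⟩ := hcT _ ⟨_, h.j_mem a, rfl⟩
  exact ⟨b, by rw [hb]; simp [mul_assoc]⟩

/-- Fusion in the elementary subgroup is controlled by its normaliser. -/
theorem ctrl (g : G) (v v' : A) (hv : v ≠ 1) (he : g * h.j v * g⁻¹ = h.j v') :
    ∃ w : W, inK h.k w ∧ act w v = v' := by
  haveI : Fact (Nat.Prime 3) := ⟨Nat.prime_three⟩
  have hv' : v' ≠ 1 := fun e => h.j_ne hv (conj_eq_one_iff.1 (by rw [he, e, map_one]))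
  have key : ∀ (g : G) (v v' : A), v' ≠ 1 → ¬ XLike h.k v' → g * h.j v * g⁻¹ = h.j v' →
      ∃ w : W, inK h.k w ∧ act w v = v' := by
    intro g v v' hv' hx he
    set C := centralizer ({h.j v'} : Set G) with hC
    have hJC' : h.J.map (MulAut.conj g).toMonoidHom ≤ C := by
      rintro _ ⟨y, hy, rfl⟩
      rw [hC, mem_centralizer_singleton_iff, ← he]
      show MulAut.conj g y * MulAut.conj g (h.j v) = MulAut.conj g (h.j v) * MulAut.conj g y
      rw [← map_mul, ← map_mul, h.J_comm y hy _ (h.j_mem v)]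
    have hJ3 : IsPGroup 3 h.J := IsPGroup.of_card (n := 3) (by rw [h.J_card]; norm_num)
    obtain ⟨P, hP⟩ := (hJ3.comap_subtype (K := C)).exists_le_sylow
    obtain ⟨R, hR⟩ := ((hJ3.map (MulAut.conj g).toMonoidHom).comap_subtype (K := C)).exists_le_sylow
    obtain ⟨c, hc⟩ := MulAction.exists_smul_eq C R P
    have hJP : h.J ≤ (P : Subgroup C).map C.subtype := fun y hy => ⟨⟨y, h.J_le_cent v' hy⟩, hP hy, rfl⟩
    have hPJ := h.pgroup_eq_J hv' hx (P.2.map C.subtype) hJP (map_subtype_le _)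
    have hT : h.J.map (MulAut.conj ((c : G) * g)).toMonoidHom ≤ h.J := by
      rintro _ ⟨y, hy, rfl⟩
      rw [← hPJ]
      have hmem : (⟨g * y * g⁻¹, hJC' ⟨y, hy, rfl⟩⟩ : C) ∈ (R : Subgroup C) := hR ⟨y, hy, rfl⟩
      refine ⟨c * ⟨g * y * g⁻¹, hJC' ⟨y, hy, rfl⟩⟩ * c⁻¹, ?_, ?_⟩
      · rw [← hc, Sylow.coe_subgroup_smul]; exact ⟨_, hmem, rfl⟩
      · simp [mul_assoc]
    have hN : (c : G) * g ∈ h.N := h.mem_N_iff.2 fun a => by
      obtain ⟨b, hb⟩ := hT ⟨_, h.j_mem a, rfl⟩
      exact ⟨b, hb.symm⟩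
    obtain ⟨w, hw, -⟩ := h.exists_act hN
    refine ⟨w, w.2, h.j_inj ?_⟩
    rw [← hw]
    calc (c : G) * g * h.j v * ((c : G) * g)⁻¹ = (c : G) * (g * h.j v * g⁻¹) * (c : G)⁻¹ := by group
      _ = h.j v' := by rw [he, mem_centralizer_singleton_iff.1 c.2, mul_inv_cancel_right]
  by_cases hx' : XLike h.k v'
  swap
  · exact key g v v' hv' hx' he
  by_cases hx : XLike h.k v
  swap
  · obtain ⟨w, hw, e⟩ := key g⁻¹ v' v hv hx (by rw [← he]; group)
    exact ⟨w⁻¹, inK_inv _ _ hw, by rw [← e, ← act_mul, inv_mul_cancel, act_one]⟩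
  obtain ⟨w, hw, e⟩ := hx
  obtain ⟨w', hw', e'⟩ := hx'
  set n := h.q ⟨w, hw⟩ with hn
  set n' := h.q ⟨w', hw'⟩ with hn'
  -- the vectors as images of the diagonal one
  obtain ⟨s, hs, e⟩ : ∃ s : A, (s = xA ∨ s = xA⁻¹) ∧ act w s = v := by
    rcases e with e | e
    · exact ⟨xA, Or.inl rfl, e⟩
    · exact ⟨xA⁻¹, Or.inr rfl, by rw [← theta_apply, map_inv, theta_apply, e, inv_inv]⟩
  obtain ⟨s', hs', e'⟩ : ∃ s : A, (s = xA ∨ s = xA⁻¹) ∧ act w' s = v' := by
    rcases e' with e' | e'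
    · exact ⟨xA, Or.inl rfl, e'⟩
    · exact ⟨xA⁻¹, Or.inr rfl, by rw [← theta_apply, map_inv, theta_apply, e', inv_inv]⟩
  set g' := n'⁻¹ * g * n with hg'
  have hgs : g' * h.j s * g'⁻¹ = h.j s' := by
    rw [hg', show n'⁻¹ * g * n * h.j s * (n'⁻¹ * g * n)⁻¹ = n'⁻¹ * (g * (n * h.j s * n⁻¹) * g⁻¹) * n' by group,
      hn, h.conj_j, e, he, ← e', ← h.conj_j ⟨w', hw'⟩, ← hn']
    group
  have hline : g' * h.x * g'⁻¹ = h.x ∨ g' * h.x * g'⁻¹ = h.x⁻¹ := by
    rcases hs with rfl | rfl <;> rcases hs' with rfl | rfl <;>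
      (try simp only [map_inv] at hgs)
    · exact Or.inl hgs
    · exact Or.inr hgs
    · rw [← conj_inv, inv_eq_iff_eq_inv] at hgs; exact Or.inr hgs
    · rw [← conj_inv, inv_inj] at hgs; exact Or.inl hgs
  obtain ⟨c, hc, m, hm, hcm⟩ := h.line g' hline
  obtain ⟨u, hu, -⟩ := h.exists_act hm
  have hus : act u s = s' := by
    refine h.j_inj ?_
    have hcs : c⁻¹ * h.j s' * c = h.j s' := by
      have hc0 : Commute c h.x := mem_centralizer_singleton_iff.1 hc
      have hc1 : Commute c (h.j s') := by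
        rcases hs' with rfl | rfl
        · exact hc0
        · rw [map_inv]; exact hc0.inv_right
      rw [mul_assoc, ← hc1.eq, inv_mul_cancel_left]
    calc h.j (act u s) = m * h.j s * m⁻¹ := (hu s).symm
      _ = c⁻¹ * (g' * h.j s * g'⁻¹) * c := by rw [hcm]; group
      _ = h.j s' := by rw [hgs, hcs]
  exact ⟨w' * u * w⁻¹, inK_mul _ _ _ (inK_mul _ _ _ hw' u.2) (inK_inv _ _ hw), by
    rw [← e, ← act_mul, inv_mul_cancel_right, act_mul, hus, e']⟩

end Conf

end Cfsg.Agent.Sp6Local
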