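import Cfsg.Agent.Sp6Local.Interface
import Cfsg.Agent.Sp6Local.CentX

/-!
# Finite facts for the case of the automorphism group of `PSp(4,3)`
-/

set_option autoImplicit false
set_option synthInstance.maxSize 4000
set_option synthInstance.maxHeartbeats 400000

namespace Cfsg.Agent.Sp6Local

open Cfsg Cfsg.Agent Cfsg.Agent.Sym9ThreeLocal

/-- The two sign changes outside the first block. -/
def wdd : W := wq 0 1 1 (.r 0)

/-- An element inverting the diagonal vector and fixing the second one. -/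
def wit : W := wi * wt

/-- A single sign change. -/
def IsFlip (u : W) : Prop := u = wf ∨ u = wf2 ∨ u = wf3

instance (u : W) : Decidable (IsFlip u) := by unfold IsFlip; infer_instance

theorem W_twelve : ∀ u : W, u ^ 12 = 1 := by decide +kernel

theorem flip_three : ∀ u : W, u ^ 3 = 1 →
    (u * wf = wf * u → u = 1) ∧ (u * wdd = wdd * u → act u e1 = e1 → u = 1) ∧
      (u * wit = wit * u → u = 1) := by
  decide +kernel

theorem small_fix : (∀ a : A, act wdd a = a → a = 1 ∨ a = e1 ∨ a = e1 * e1) ∧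
    (∀ a : A, act wit a = a → a = 1 ∨ a = vz ∨ a = vz * vz) ∧
    act wit vz = vz ∧ act wdd e1 = e1 ∧ act wf vz = vz ∧ act wf e2 = e2 ∧ act wf e3 = e3 ∧
    (∀ w : W, act w xA ≠ 1 ∧ act wf (act w xA) ≠ act w xA) ∧
    (∀ u : W, act u vz = vz → act u xA = xA⁻¹ → u = wit) ∧
    (e2 ≠ 1 ∧ e3 ≠ 1 ∧ e2 ≠ e3 ∧ e2 * e2 ≠ 1 ∧ e2 * e2 ≠ e3 ∧ e2 * e2 ≠ e2 ∧ e1 ≠ 1 ∧ vz ≠ 1) := by
  decide +kernel

theorem zero_entry : ∀ v : A, v ≠ 1 → act wf v = v →
    (∃ w : W, act w e1 = v) ∨ (¬ XLike .eight v ∧ ¬ EType .eight v) := by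
  decide +kernel

theorem comm_wf : ∀ m : Mf, m * SemidirectProduct.inr wf = SemidirectProduct.inr wf * m →
    act wf m.left = m.left ∧ m.right * wf = wf * m.right := by
  decide +kernel

theorem invol_W : ∀ u : W, u * u = 1 → u ≠ 1 → IsFlip u ∨
    (∃ w : W, act (w⁻¹ * u * w) xA = xA ∨ act (w⁻¹ * u * w) xA = xA⁻¹) ∨ (∃ w : W, w * wdd * w⁻¹ = u) := by
  decide +kernel

theorem invol_Mf : ∀ m : Mf, m * m = 1 →
    SemidirectProduct.inl m.left⁻¹ * SemidirectProduct.inr m.right * (SemidirectProduct.inl m.left⁻¹)⁻¹ = m ∧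
      (m.right = 1 → m = 1) := by
  decide +kernel

theorem flip_conj : ∀ u : W, IsFlip u → ∃ w : W, w * wf * w⁻¹ = u := by decide +kernel

theorem flip_count : (Finset.univ.filter fun m : Mf => m * m = 1 ∧ IsFlip m.right).card = 9 := by
  decide +kernel

theorem cent_wf_count :
    (Finset.univ.filter fun m : Mf => m * SemidirectProduct.inr wf = SemidirectProduct.inr wf * m).card = 144 := by
  decide +kernel

theorem no_quat : ∀ a b : W, a ^ 4 = 1 → a * a ≠ 1 → b * b = a * a → b * a * b⁻¹ ≠ a⁻¹ := by decide +kernel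

theorem sq_Mf : ∀ m : Mf, m * m * (m * m) = 1 → m.right * m.right = 1 → m * m = 1 := by decide +kernel

theorem cent_pair : ∀ m : Mf, m * SemidirectProduct.inl e2 = SemidirectProduct.inl e2 * m →
    m * SemidirectProduct.inl e3 = SemidirectProduct.inl e3 * m →
    (m.right = 1 ∨ m.right = wf) ∧ (m * (m * m) = 1 → m.right = 1) := by
  decide +kernel

theorem wreath_model : wf2 * wf2 = 1 ∧ wt * wt = 1 ∧ wf2 * wf = wf * wf2 ∧ wt * wf = wf * wt ∧
    ((wf2 * wt) * (wf2 * wt)) * ((wf2 * wt) * (wf2 * wt)) = 1 ∧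
    (wf2 * wt) * (wf2 * wt) ≠ 1 ∧ (wf2 * wt) * (wf2 * wt) ≠ wf ∧ wf * wf = 1 ∧ wf ≠ 1 := by
  decide +kernel

theorem parity_words : ∀ u : W, ∃ a b c : Fin 2, ∃ i : Fin 3, ∃ e : Fin 2,
    wf ^ (a : ℕ) * (wc * wf * wc⁻¹) ^ (b : ℕ) * (wc * wc * wf * (wc * wc)⁻¹) ^ (c : ℕ) *
      wc ^ (i : ℕ) * wt ^ (e : ℕ) = u ∧ (((a : ℕ) + b + c) % 2 = 0 ↔ inK .four u) := by
  decide +kernel

theorem four_fixed : (∀ a : A, act wt a = a → act wc a = a → act (wf * wf2) a = a → a = 1) ∧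
    act wt xA = xA ∧ act wc xA = xA ∧ act wi xA = xA⁻¹ ∧ inK .four (wf * wf2) ∧ xA⁻¹ ≠ xA := by
  decide +kernel

theorem sl3_models : (∀ a : PSp43Amalgam.SL3, a * (a * a) = 1 →
      (∀ b : PSp43Amalgam.SL3, (a * (b * a * b⁻¹)) * ((a * (b * a * b⁻¹)) * (a * (b * a * b⁻¹))) = 1) → a = 1) ∧
    (∀ g : PSp43Amalgam.SL3, ∃ a b c : PSp43Amalgam.SL3, a * (a * a) = 1 ∧ b * (b * b) = 1 ∧ c * (c * c) = 1 ∧
      a * b * c = g) := by
  decide +kernel

theorem sl3_quat : (Finset.univ.filter fun g : PSp43Amalgam.SL3 => g * g * (g * g) = 1).card = 8 ∧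
    (∀ g : PSp43Amalgam.SL3, g ^ 8 = 1 → g * g * (g * g) = 1) ∧
    ∃ a b : PSp43Amalgam.SL3, a * a * (a * a) = 1 ∧ b * b * (b * b) = 1 ∧ a * a ≠ 1 ∧ b * b = a * a ∧
      b * a * b⁻¹ = a⁻¹ := by
  decide +kernel

end Cfsg.Agent.Sp6Local
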