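import Cfsg.Agent.Sp6Local.AutBase
import Cfsg.Agent.ThreeTINine.Wreath

/-!
# The centraliser of a single sign change when the coordinate centralisers are local
-/

set_option autoImplicit false
set_option synthInstance.maxSize 4000
set_option synthInstance.maxHeartbeats 400000

namespace Cfsg.Agent.Sp6Local

open Cfsg Cfsg.Agent Subgroup Cfsg.Agent.Sym9ThreeLocal

universe u

theorem fix_mod_two {G : Type u} [Group G] [Finite G] (N : Subgroup G) {i : G} (hi : i * i = 1) :
    Nat.card {p : G ⧸ N // i • p = p} % 2 = N.index % 2 := by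
  classical
  haveI : Fact (Nat.Prime 2) := ⟨Nat.prime_two⟩
  haveI := Fintype.ofFinite (G ⧸ N)
  have hσ : MulAction.toPerm (α := G) (β := G ⧸ N) i ^ 2 ^ 1 = 1 := Equiv.ext fun p => by
    rw [pow_one, pow_two, Equiv.Perm.mul_apply, Equiv.Perm.one_apply, MulAction.toPerm_apply,
      MulAction.toPerm_apply, smul_smul, hi, one_smul]
  have h1 := Equiv.Perm.card_compl_support_modEq hσ
  have h2 : (Equiv.Perm.support (MulAction.toPerm (α := G) (β := G ⧸ N) i))ᶜ.card =
      Nat.card {p : G ⧸ N // i • p = p} := by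
    rw [Nat.card_eq_fintype_card, Fintype.card_subtype]
    congr 1
    ext p
    simp
  rw [h2, ← Nat.card_eq_fintype_card, ← index_eq_card] at h1
  exact h1

namespace Conf

variable {G : Type u} [Group G] [Finite G] (h : Conf G) (hk : h.k = .eight)

omit [Finite G] in
theorem flip_sq : h.flipOne hk * h.flipOne hk = 1 := by
  show h.mon hk wf * h.mon hk wf = 1
  rw [← map_mul, show wf * wf = 1 from wreath_model.2.2.2.2.2.2.2.1, map_one]

omit [Finite G] in
theorem flip_ne : h.flipOne hk ≠ 1 := fun e => wreath_model.2.2.2.2.2.2.2.2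
  (SemidirectProduct.inr_injective (h.emb_inj hk (e.trans (map_one (h.mon hk)).symm)))

theorem cent_flip_inf :
    Nat.card (h.N ⊓ centralizer ({h.flipOne hk} : Set G) : Subgroup G) = 144 := by
  rw [← cent_wf_count, ← Fintype.card_subtype, ← Nat.card_eq_fintype_card]
  refine (Nat.card_congr (Equiv.ofBijective
    (fun m : {m : Mf // m * SemidirectProduct.inr wf = SemidirectProduct.inr wf * m} =>
      (⟨h.emb hk m.1, h.emb_mem hk _, mem_centralizer_singleton_iff.2 (by
        show h.emb hk m.1 * h.mon hk wf = h.mon hk wf * h.emb hk m.1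
        rw [← h.emb_inr hk, ← map_mul, m.2, map_mul])⟩ :
        (h.N ⊓ centralizer ({h.flipOne hk} : Set G) : Subgroup G))) ⟨fun a b e => ?_, ?_⟩)).symm
  · exact Subtype.ext (h.emb_inj hk (congrArg Subtype.val e :))
  · rintro ⟨g, hgN, hgf⟩
    obtain ⟨m, rfl⟩ := h.exists_emb hk hgN
    refine ⟨⟨m, h.emb_inj hk ?_⟩, rfl⟩
    rw [map_mul, map_mul, h.emb_inr]
    exact mem_centralizer_singleton_iff.1 hgf

variable (hloc : centralizer ({h.j e1} : Set G) ≤ h.N)
include hloc

/-- The centraliser of the sign change has order `1440` and the sign change fixes ten cosets of the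
normaliser. -/
theorem cent_flip_card : Nat.card (centralizer ({h.flipOne hk} : Set G)) = 1440 ∧
    Nat.card {p : G ⧸ h.N // h.flipOne hk • p = p} = 10 := by
  classical
  haveI : Fact (Nat.Prime 3) := ⟨Nat.prime_three⟩
  have hfix := fix_card_mul h.N (h.flipOne hk)
  rw [h.N_card hk, h.conj_flip_card hk hloc] at hfix
  have hfe := fix_mod_two h.N (h.flip_sq hk)
  have hev := Nat.even_iff.1 (h.index_even hk)
  set f := h.flipOne hk with hf
  set C := centralizer ({f} : Set G) with hC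
  have hnot : ¬ C ≤ h.N := fun hle => by
    have := h.cent_flip_inf hk
    rw [inf_eq_right.2 hle] at this
    rw [this] at hfix
    omega
  have hfC : f ∈ C := mem_centralizer_singleton_iff.2 rfl
  set Z : Subgroup C := (zpowers f).subgroupOf C with hZ
  haveI hZn : Z.Normal := ⟨fun y hy d => by
    rw [hZ, mem_subgroupOf] at hy ⊢
    obtain ⟨i, hi⟩ := mem_zpowers_iff.1 hy
    have hd : Commute (d : G) f := mem_centralizer_singleton_iff.1 d.2
    show (d : G) * y * (d : G)⁻¹ ∈ zpowers f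
    rw [← hi, (hd.zpow_right i).eq, mul_inv_cancel_right]
    exact zpow_mem (mem_zpowers _) i⟩
  set π : C →* C ⧸ Z := QuotientGroup.mk' Z with hπdef
  have hπs : Function.Surjective π := QuotientGroup.mk'_surjective Z
  have hπ : ∀ d : C, π d = 1 ↔ (d : G) = 1 ∨ (d : G) = f := fun d => by
    rw [hπdef, QuotientGroup.mk'_apply, QuotientGroup.eq_one_iff, hZ, mem_subgroupOf]
    constructor
    · intro hd
      obtain ⟨i, hi⟩ := mem_zpowers_iff.1 hd
      rw [← hi, ← zpow_mod_orderOf f i]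
      have h2 : orderOf f = 2 := by
        haveI : Fact (Nat.Prime 2) := ⟨Nat.prime_two⟩
        exact orderOf_eq_prime (by rw [pow_two, hf, h.flip_sq]) (h.flip_ne hk)
      rw [h2]
      rcases Int.emod_two_eq i with e | e <;> simp [e]
    · rintro (e | e) <;> rw [e]
      · exact one_mem _
      · exact mem_zpowers _
  have hcubeP : ∀ p ∈ h.fixNine, p ^ 3 = 1 := by
    rintro _ ⟨a, -, rfl⟩
    exact h.J_cube _ (h.j_mem a)
  -- two elements of order dividing three with equal images are equal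
  have hlift : ∀ p q : C, (p : G) ∈ h.fixNine → (q : G) ^ 3 = 1 → π q = π p → q = p := by
    intro p q hp hq e
    have e1 : π (p⁻¹ * q) = 1 := by rw [map_mul, map_inv, e, inv_mul_cancel]
    rcases (hπ _).1 e1 with e2 | e2
    · exact Subtype.ext (inv_mul_eq_one.1 e2).symm
    · exfalso
      have e3 : (q : G) = (p : G) * f := eq_mul_of_inv_mul_eq e2
      have hc : Commute (p : G) f := h.fixNine_comm hk hp
      rw [e3, hc.mul_pow, hcubeP _ hp, one_mul, pow_succ, pow_two, hf, h.flip_sq, one_mul] at hq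
      exact h.flip_ne hk hq
  have hP0C : h.fixNine ≤ C := fun p hp => mem_centralizer_singleton_iff.2 (h.fixNine_comm hk hp)
  have hP3 : IsPGroup 3 h.fixNine := (IsPGroup.of_card (p := 3) (G := h.J) (n := 3)
    (by rw [h.J_card]; norm_num)).to_le (by rintro _ ⟨a, -, rfl⟩; exact h.j_mem a)
  obtain ⟨S0, hS0⟩ := (hP3.comap_subtype (K := C)).exists_le_sylow
  have hS0eq : ∀ d : C, d ∈ (S0 : Subgroup C) ↔ (d : G) ∈ h.fixNine := fun d =>
    ⟨fun hd => h.fixNine_max hk hloc (P := (S0 : Subgroup C).map C.subtype) (S0.2.map C.subtype)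
      (fun p hp => ⟨⟨p, hP0C hp⟩, hS0 hp, rfl⟩)
      (by rintro _ ⟨p, -, rfl⟩; exact mem_centralizer_singleton_iff.1 p.2) ⟨d, hd, rfl⟩,
    fun hd => hS0 hd⟩
  let T : Sylow 3 (C ⧸ Z) := S0.mapSurjective hπs
  have hTm : ∀ y, y ∈ (T : Subgroup (C ⧸ Z)) ↔ ∃ p : C, (p : G) ∈ h.fixNine ∧ π p = y := fun y => by
    show y ∈ (S0 : Subgroup C).map π ↔ _
    constructor
    · rintro ⟨p, hp, rfl⟩; exact ⟨p, (hS0eq p).1 hp, rfl⟩
    · rintro ⟨p, hp, rfl⟩; exact ⟨p, (hS0eq p).2 hp, rfl⟩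
  obtain ⟨-, -, -, -, -, hfe2, hfe3, -, -, he2, he3, -⟩ := small_fix
  let p2 : C := ⟨h.j e2, hP0C (h.mem_fixNine.2 ⟨e2, hfe2, rfl⟩)⟩
  let p3 : C := ⟨h.j e3, hP0C (h.mem_fixNine.2 ⟨e3, hfe3, rfl⟩)⟩
  have hloc2 : centralizer ({h.j e2} : Set G) ≤ h.N := h.loc_zero hk hloc he2 hfe2
  have hcomm : ∀ p d : C, (p : G) ∈ h.fixNine → π d * π p = π p * π d → (d : G) * p = p * (d : G) := by
    intro p d hp e
    have e1 : d * p * d⁻¹ = p := hlift p _ hp (by
      show ((d : G) * p * (d : G)⁻¹) ^ 3 = 1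
      rw [conj_pow, hcubeP _ hp, mul_one, mul_inv_cancel]) (by
      rw [map_mul, map_mul, map_inv, e, mul_inv_cancel_right])
    exact congrArg Subtype.val (mul_inv_eq_iff_eq_mul.1 e1)
  have hTabel : ∀ x ∈ (T : Subgroup (C ⧸ Z)), ∀ y ∈ (T : Subgroup (C ⧸ Z)), x * y = y * x := by
    intro x hx y hy
    obtain ⟨p, hp, rfl⟩ := (hTm x).1 hx
    obtain ⟨q, hq, rfl⟩ := (hTm y).1 hy
    rw [← map_mul, ← map_mul]
    refine congrArg π (Subtype.ext ?_)
    obtain ⟨a, -, ea⟩ := h.mem_fixNine.1 hp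
    obtain ⟨b, -, eb⟩ := h.mem_fixNine.1 hq
    show (p : G) * q = q * p
    rw [← ea, ← eb, h.j_comm]
  have hTcube : ∀ x ∈ (T : Subgroup (C ⧸ Z)), x ^ 3 = 1 := by
    intro x hx
    obtain ⟨p, hp, rfl⟩ := (hTm x).1 hx
    rw [← map_pow, show p ^ 3 = 1 from Subtype.ext (hcubeP _ hp), map_one]
  have hTcard : Nat.card (T : Subgroup (C ⧸ Z)) = 9 := by
    have h9 : Nat.card h.fixNine = 9 := by
      show Nat.card (fixWf.map h.j) = 9
      rw [card_map_of_injective h.j_inj]
      show Nat.card {a : A // act wf a = a} = 9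
      rw [Nat.card_eq_fintype_card, Fintype.card_subtype]
      decide +kernel
    rw [← h9]
    refine (Nat.card_congr (Equiv.ofBijective (fun p : h.fixNine =>
      (⟨π ⟨p, hP0C p.2⟩, (hTm _).2 ⟨_, p.2, rfl⟩⟩ : (T : Subgroup (C ⧸ Z)))) ⟨fun p q e => ?_, ?_⟩)).symm
    · exact Subtype.ext (congrArg Subtype.val (hlift ⟨q, hP0C q.2⟩ ⟨p, hP0C p.2⟩ q.2 (hcubeP _ p.2)
        (congrArg Subtype.val e :)) :)
    · rintro ⟨y, hy⟩
      obtain ⟨p, hp, rfl⟩ := (hTm y).1 hy
      exact ⟨⟨p, hp⟩, rfl⟩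
  -- membership in the normaliser
  have hnorm : ∀ d : C, π d ∈ normalizer ((T : Subgroup (C ⧸ Z)) : Set (C ⧸ Z)) ↔ (d : G) ∈ h.N := by
    intro d
    constructor
    · intro hd
      have hback : ∀ p : C, (p : G) ∈ h.fixNine → (d : G)⁻¹ * p * d ∈ h.fixNine := by
        intro p hp
        have h1 := (mem_normalizer_iff''.1 hd (π p)).1 ((hTm _).2 ⟨p, hp, rfl⟩)
        rw [← map_inv, ← map_mul, ← map_mul] at h1
        obtain ⟨q, hq, eq'⟩ := (hTm _).1 h1
        have e1 := hlift q (d⁻¹ * p * d) hq (by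
          show ((d : G)⁻¹ * p * d) ^ 3 = 1
          have := conj_pow (i := 3) (a := (d : G)⁻¹) (b := (p : G))
          rw [inv_inv, hcubeP _ hp, mul_one, inv_mul_cancel] at this
          exact this) eq'.symm
        rw [← e1] at hq
        exact hq
      refine h.mem_N_iff.2 fun a => ?_
      have hy : ∀ p : C, (p : G) ∈ h.fixNine →
          (d : G) * h.j a * (d : G)⁻¹ * p = p * ((d : G) * h.j a * (d : G)⁻¹) := by
        intro p hp
        obtain ⟨b, -, eb⟩ := h.mem_fixNine.1 (hback p hp)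
        calc (d : G) * h.j a * (d : G)⁻¹ * p = (d : G) * (h.j a * ((d : G)⁻¹ * p * d)) * (d : G)⁻¹ := by group
          _ = _ := by rw [← eb, h.j_comm, eb]; group
      obtain ⟨m, hm⟩ := h.exists_emb hk (hloc2 (mem_centralizer_singleton_iff.2
        (hy p2 (h.mem_fixNine.2 ⟨e2, hfe2, rfl⟩))))
      have h2 := hy p2 (h.mem_fixNine.2 ⟨e2, hfe2, rfl⟩)
      have h3 := hy p3 (h.mem_fixNine.2 ⟨e3, hfe3, rfl⟩)
      rw [← hm] at h2 h3
      change h.emb hk m * h.j e2 = h.j e2 * h.emb hk m at h2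
      change h.emb hk m * h.j e3 = h.j e3 * h.emb hk m at h3
      rw [← h.emb_inl hk, ← map_mul, ← map_mul] at h2 h3
      have hc3 : m * (m * m) = 1 := h.emb_inj hk (by
        rw [map_one, map_mul, map_mul, hm, ← pow_three, conj_pow, h.J_cube _ (h.j_mem a), mul_one,
          mul_inv_cancel])
      have hr := (cent_pair m (h.emb_inj hk h2) (h.emb_inj hk h3)).2 hc3
      refine ⟨m.left, hm.symm.trans ?_⟩
      rw [← h.emb_inl hk]
      exact congrArg (h.emb hk) (SemidirectProduct.ext rfl hr)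
    · intro hd
      refine mem_normalizer_fintype fun y hy => ?_
      obtain ⟨p, hp, rfl⟩ := (hTm y).1 hy
      rw [SetLike.mem_coe, ← map_inv, ← map_mul, ← map_mul]
      refine (hTm _).2 ⟨_, ?_, rfl⟩
      show (d : G) * p * (d : G)⁻¹ ∈ h.fixNine
      obtain ⟨a, -, ea⟩ := h.mem_fixNine.1 hp
      obtain ⟨b, hb⟩ := h.mem_N_iff.1 hd a
      rw [← ea, hb]
      refine h.mem_fixNine.2 ⟨b, h.j_inj ?_, rfl⟩
      have hcd : Commute ((d * p * d⁻¹ : C) : G) f := mem_centralizer_singleton_iff.1 (d * p * d⁻¹).2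
      rw [Subgroup.coe_mul, Subgroup.coe_mul, Subgroup.coe_inv, ← ea, hb] at hcd
      rw [← h.mon_conj hk]
      exact mul_inv_eq_iff_eq_mul.2 hcd.symm.eq
  have hTcent : centralizer ((T : Subgroup (C ⧸ Z)) : Set (C ⧸ Z)) = T := by
    refine le_antisymm (fun y hy => ?_) fun y hy => mem_centralizer_iff.2 fun x hx => hTabel x hx y hy
    obtain ⟨d, rfl⟩ := hπs y
    have h2 := hcomm p2 d (h.mem_fixNine.2 ⟨e2, hfe2, rfl⟩)
      (mem_centralizer_iff.1 hy _ ((hTm _).2 ⟨p2, h.mem_fixNine.2 ⟨e2, hfe2, rfl⟩, rfl⟩)).symm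
    have h3 := hcomm p3 d (h.mem_fixNine.2 ⟨e3, hfe3, rfl⟩)
      (mem_centralizer_iff.1 hy _ ((hTm _).2 ⟨p3, h.mem_fixNine.2 ⟨e3, hfe3, rfl⟩, rfl⟩)).symm
    obtain ⟨m, hm⟩ := h.exists_emb hk (hloc2 (mem_centralizer_singleton_iff.2 h2))
    have hd := mem_centralizer_singleton_iff.1 d.2
    rw [← hm, hf] at hd
    rw [← hm] at h2 h3
    change h.emb hk m * h.j e2 = h.j e2 * h.emb hk m at h2
    change h.emb hk m * h.j e3 = h.j e3 * h.emb hk m at h3
    change h.emb hk m * h.mon hk wf = h.mon hk wf * h.emb hk m at hd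
    rw [← h.emb_inl hk, ← map_mul, ← map_mul] at h2 h3
    rw [← h.emb_inr hk, ← map_mul, ← map_mul] at hd
    have hl := (comm_wf m (h.emb_inj hk hd)).1
    refine (hTm _).2 ⟨⟨h.j m.left, hP0C (h.mem_fixNine.2 ⟨_, hl, rfl⟩)⟩,
      h.mem_fixNine.2 ⟨_, hl, rfl⟩, ?_⟩
    rw [← mul_inv_eq_one, ← map_inv, ← map_mul, hπ]
    show h.j m.left * (d : G)⁻¹ = 1 ∨ h.j m.left * (d : G)⁻¹ = f
    have em : h.emb hk m = h.j m.left * h.mon hk m.right := by
      rw [← h.emb_inl hk, ← h.emb_inr hk, ← map_mul, SemidirectProduct.inl_left_mul_inr_right]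
    rw [← hm, em, mul_inv_rev]
    rcases (cent_pair m (h.emb_inj hk h2) (h.emb_inj hk h3)).1 with e | e <;> rw [e]
    · left; simp
    · right
      have e1 : Commute (h.mon hk wf) (h.j m.left) := h.mon_comm hk hl
      rw [← mul_assoc, ← (e1.inv_left).eq, mul_inv_cancel_right,
        inv_eq_of_mul_eq_one_right (show h.mon hk wf * h.mon hk wf = 1 from h.flip_sq hk)]
      rfl
  have hTloc : ∀ x ∈ (T : Subgroup (C ⧸ Z)), x ≠ 1 →
      centralizer ({x} : Set (C ⧸ Z)) ≤ normalizer ((T : Subgroup (C ⧸ Z)) : Set (C ⧸ Z)) := by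
    intro x hx hx1 y hy
    obtain ⟨p, hp, rfl⟩ := (hTm x).1 hx
    obtain ⟨d, rfl⟩ := hπs y
    rw [hnorm]
    have hc := hcomm p d hp (mem_centralizer_singleton_iff.1 hy)
    obtain ⟨a, ha, ea⟩ := h.mem_fixNine.1 hp
    rw [← ea] at hc
    refine h.loc_zero hk hloc (fun e => hx1 ?_) ha (mem_centralizer_singleton_iff.2 hc)
    rw [show p = 1 from Subtype.ext (by rw [← ea, e, map_one]; rfl), map_one]
  set NT := normalizer ((T : Subgroup (C ⧸ Z)) : Set (C ⧸ Z)) with hNT
  have hNcard : Nat.card NT = 72 := by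
    have h1 : NT.comap π = (h.N ⊓ C).subgroupOf C := by
      ext d
      rw [mem_comap, hnorm, mem_subgroupOf]
      exact ⟨fun e => ⟨e, d.2⟩, fun e => e.1⟩
    have hZ2 : Nat.card π.ker = 2 := by
      rw [QuotientGroup.ker_mk', hZ,
        Nat.card_congr (subgroupOfEquivOfLe (zpowers_le.2 hfC)).toEquiv, Nat.card_zpowers]
      haveI : Fact (Nat.Prime 2) := ⟨Nat.prime_two⟩
      exact orderOf_eq_prime (by rw [pow_two, hf, h.flip_sq]) (h.flip_ne hk)
    have h2 := card_mul_index (NT.comap π)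
    have hinf : Nat.card (h.N ⊓ C : Subgroup G) = 144 := h.cent_flip_inf hk
    rw [index_comap_of_surjective NT hπs, h1,
      Nat.card_congr (subgroupOfEquivOfLe (inf_le_right : h.N ⊓ C ≤ C)).toEquiv, hinf] at h2
    have h3 : Nat.card C = 2 * (Nat.card NT * NT.index) := by
      rw [← card_mul_index π.ker, hZ2, card_mul_index NT, index_ker, MonoidHom.range_eq_top.2 hπs, card_top]
    rw [h3, ← mul_assoc] at h2
    have := Nat.eq_of_mul_eq_mul_right (Nat.pos_of_ne_zero NT.index_ne_zero_of_finite) h2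
    omega
  obtain ⟨hf2, ht2, hf2c, htc, h4, h2n, h2f, -, -⟩ := wreath_model
  have hmC : ∀ u : W, u * wf = wf * u → h.mon hk u ∈ C := fun u hu => mem_centralizer_singleton_iff.2 (by
    show h.mon hk u * h.mon hk wf = h.mon hk wf * h.mon hk u
    rw [← map_mul, ← map_mul, hu])
  let t : C := ⟨h.mon hk wf2, hmC _ hf2c⟩
  let w : C := ⟨h.mon hk wt, hmC _ htc⟩
  have hgens : ThreeWreath.Gens T (π t) (π w) := by
    refine ⟨hTabel, hTcube, hTcard, hTcent, hTloc, hNcard, (hnorm t).2 (h.emb_mem hk _),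
      (hnorm w).2 (h.emb_mem hk _), ?_, ?_, ?_, ?_⟩
    · rw [← map_mul, show t * t = 1 from Subtype.ext (show h.mon hk wf2 * h.mon hk wf2 = 1 by
        rw [← map_mul, hf2, map_one]), map_one]
    · rw [← map_mul, show w * w = 1 from Subtype.ext (show h.mon hk wt * h.mon hk wt = 1 by
        rw [← map_mul, ht2, map_one]), map_one]
    · rw [← map_mul, ← map_mul, ← map_mul, hπ]
      left
      show h.mon hk wf2 * h.mon hk wt * (h.mon hk wf2 * h.mon hk wt) *
        (h.mon hk wf2 * h.mon hk wt * (h.mon hk wf2 * h.mon hk wt)) = 1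
      simp only [← map_mul, h4, map_one]
    · rw [← map_mul, ← map_mul, Ne, hπ]
      show ¬ (h.mon hk wf2 * h.mon hk wt * (h.mon hk wf2 * h.mon hk wt) = 1 ∨
        h.mon hk wf2 * h.mon hk wt * (h.mon hk wf2 * h.mon hk wt) = h.mon hk wf)
      have hinj : Function.Injective (h.mon hk) := (h.emb_inj hk).comp SemidirectProduct.inr_injective
      simp only [← map_mul, ← map_one (h.mon hk), hinj.eq_iff]
      exact fun e => e.elim h2n h2f
  rcases ThreeTINine.Wreath.main hgens with htop | ⟨⟨e⟩⟩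
  · exact absurd (fun d hd => (hnorm ⟨d, hd⟩).1 (show π ⟨d, hd⟩ ∈ normalizer ((T : Subgroup (C ⧸ Z)) : Set (C ⧸ Z)) by rw [htop]; exact mem_top _)) hnot
  have hcard : Nat.card C = 1440 := by
    rw [← card_mul_index Z, index_eq_card, Nat.card_congr e.toEquiv, Nat.card_eq_fintype_card (α := Equiv.Perm (Fin 6)),
      Fintype.card_perm, Fintype.card_fin, hZ,
      Nat.card_congr (subgroupOfEquivOfLe (zpowers_le.2 hfC)).toEquiv, Nat.card_zpowers,
      show orderOf f = 2 by
        haveI : Fact (Nat.Prime 2) := ⟨Nat.prime_two⟩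
        exact orderOf_eq_prime (by rw [pow_two, hf, h.flip_sq]) (h.flip_ne hk)]
    rfl
  refine ⟨hcard, ?_⟩
  rw [hcard] at hfix
  omega

end Conf

end Cfsg.Agent.Sp6Local
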