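import Cfsg.Agent.Sp6Local.CentTauModel

/-!
# The centraliser of the exchange modulo the exchange
-/

set_option autoImplicit false
set_option synthInstance.maxSize 4000
set_option synthInstance.maxHeartbeats 400000

namespace Cfsg.Agent.Sp6Local

open Cfsg Cfsg.Agent Equiv Subgroup Cfsg.Agent.Sym9ThreeLocal

universe u

namespace Conf

variable {G : Type u} [Group G] (h : Conf G)

/-- The centraliser of the exchange. -/
abbrev ctau : Subgroup G := centralizer ({h.tau} : Set G)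

/-- The exchange in its centraliser. -/
def tauC : h.ctau := ⟨h.tau, mem_centralizer_singleton_iff.2 rfl⟩

instance tauC_normal : (zpowers h.tauC).Normal :=
  ⟨fun y hy d => by
    obtain ⟨i, rfl⟩ := mem_zpowers_iff.1 hy
    have hd : Commute d h.tauC := Subtype.ext (mem_centralizer_singleton_iff.1 d.2)
    rw [(hd.zpow_right i).eq, mul_inv_cancel_right]
    exact zpow_mem (mem_zpowers _) i⟩

/-- The centraliser of the exchange modulo it. -/
abbrev TX : Type u := h.ctau ⧸ zpowers h.tauC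

/-- The projection. -/
def prT : h.ctau →* h.TX := QuotientGroup.mk' _

theorem prT_surj : Function.Surjective h.prT := QuotientGroup.mk'_surjective _

variable [Finite G]

theorem prT_tau : h.prT h.tauC = 1 := (QuotientGroup.eq_one_iff _).2 (mem_zpowers _)

theorem tauC_cases {d : h.ctau} (hd : h.prT d = 1) : (d : G) = 1 ∨ (d : G) = h.tau := by
  obtain ⟨i, rfl⟩ := mem_zpowers_iff.1 ((QuotientGroup.eq_one_iff d).1 hd)
  rw [SubgroupClass.coe_zpow]
  show h.tau ^ i = 1 ∨ h.tau ^ i = h.tau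
  have e2 : h.tau ^ (2 : ℤ) = 1 := by rw [zpow_two, h.tau_sq']
  rw [← Int.emod_add_mul_ediv i 2, zpow_add, zpow_mul, e2, one_zpow, mul_one]
  rcases (show i % 2 = 0 ∨ i % 2 = 1 by omega) with e | e <;> rw [e] <;> simp

theorem prT_eq {a b : h.ctau} (e : h.prT a = h.prT b) : (a : G) = b ∨ (a : G) = b * h.tau := by
  rcases h.tauC_cases (d := b⁻¹ * a) (by rw [map_mul, map_inv, e, inv_mul_cancel]) with e1 | e1 <;>
    rw [Subgroup.coe_mul, Subgroup.coe_inv, inv_mul_eq_iff_eq_mul] at e1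
  · exact Or.inl (by simpa using e1)
  · exact Or.inr e1

/-- Elements of order three are determined by their images. -/
theorem prT_cube {a b : h.ctau} (ha : (a : G) ^ 3 = 1) (hb : (b : G) ^ 3 = 1) (e : h.prT a = h.prT b) :
    (a : G) = b := by
  rcases h.prT_eq e with e1 | e1
  · exact e1
  · exfalso
    rw [e1, (show Commute (b : G) h.tau from mem_centralizer_singleton_iff.1 b.2).mul_pow, hb, one_mul,
      pow_succ, pow_two, h.tau_sq', one_mul] at ha
    exact h.tau_ne' ha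

/-- Elements commuting with the image of an element of order three commute with it. -/
theorem prT_comm {d a : h.ctau} (ha : (a : G) ^ 3 = 1) (e : h.prT d * h.prT a = h.prT a * h.prT d) :
    (d : G) * a = a * d := by
  refine mul_inv_eq_iff_eq_mul.1 (h.prT_cube (a := d * a * d⁻¹) ?_ ha ?_)
  · rw [Subgroup.coe_mul, Subgroup.coe_mul, Subgroup.coe_inv, conj_pow, ha, mul_one, mul_inv_cancel]
  · rw [map_mul, map_mul, map_inv, e, mul_inv_cancel_right]

section

variable (hk : h.k = .eight)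

theorem tl_mem {m : Mf} (hm : m * mw wt = mw wt * m) : h.emb hk m ∈ h.ctau :=
  mem_centralizer_singleton_iff.2 (by rw [← h.tau_emb hk, ← map_mul, hm, map_mul])

/-- The image of a vector fixed by the exchange. -/
def vT (v : A) (hv : act wt v = v) : h.ctau := ⟨h.j v, h.tl_mem hk (comm_ma _ hv)⟩

/-- The image of an element of the group of signs and permutations commuting with the exchange. -/
def wT (w : W) (hw : w * wt = wt * w) : h.ctau :=
  ⟨h.emb hk (mw w), h.tl_mem hk (by rw [← map_mul, hw, map_mul])⟩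

/-- The data. -/
def tauData : CentTwoData h.TX where
  e := h.prT (h.vT hk e1 tau_facts.1)
  u := h.prT (h.vT hk vu vec_types.2.2.2.2.2.2.2.1)
  r := h.prT (h.wT hk wf tau_facts.2.2.2.2.2.2.2.1)
  s := h.prT (h.wT hk (wf2 * wf3) tau_facts.2.2.2.2.2.2.2.2.1)

theorem vT_cube (v : A) (hv : act wt v = v) : ((h.vT hk v hv : h.ctau) : G) ^ 3 = 1 :=
  h.J_cube _ (h.j_mem v)

theorem vT_order {v : A} (hv : act wt v = v) (hv1 : v ≠ 1) : orderOf (h.prT (h.vT hk v hv)) = 3 := by
  haveI : Fact (Nat.Prime 3) := ⟨Nat.prime_three⟩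
  refine orderOf_eq_prime ?_ fun e => h.j_ne hv1 ?_
  · rw [← map_pow, show h.vT hk v hv ^ 3 = 1 from Subtype.ext (h.vT_cube hk v hv), map_one]
  · exact h.prT_cube (b := 1) (h.vT_cube hk v hv) (one_pow 3) (by rw [e, map_one])

/-- The image of an element of the elementary group fixed by the exchange. -/
theorem vT_eq {g : h.ctau} {i j : ℕ} (e : (g : G) = h.j (e1 ^ i * vu ^ j)) :
    h.prT g = (h.tauData hk).e ^ i * (h.tauData hk).u ^ j := by
  rw [show (h.tauData hk).e ^ i * (h.tauData hk).u ^ j = h.prT ((h.vT hk e1 tau_facts.1) ^ i *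
    (h.vT hk vu vec_types.2.2.2.2.2.2.2.1) ^ j) by rw [map_mul, map_pow, map_pow]; rfl]
  exact congrArg _ (Subtype.ext (by rw [e, map_mul, map_pow, map_pow]; rfl))

/-- The Sylow subgroup of the data consists of the images of the fixed vectors. -/
theorem mem_base {y : h.TX} :
    y ∈ zpowers (h.tauData hk).e ⊔ zpowers (h.tauData hk).u ↔
      ∃ (v : A) (hv : act wt v = v), h.prT (h.vT hk v hv) = y := by
  constructor
  · intro hy
    let B : Subgroup h.TX :=
      { carrier := {y | ∃ (v : A) (hv : act wt v = v), h.prT (h.vT hk v hv) = y}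
        one_mem' := ⟨1, by decide +kernel, by
          rw [show h.vT hk 1 _ = 1 from Subtype.ext h.j.map_one, map_one]⟩
        mul_mem' := by
          rintro _ _ ⟨v, hv, rfl⟩ ⟨w, hw, rfl⟩
          refine ⟨v * w, fix_mul v w hv hw, ?_⟩
          rw [← map_mul]; exact congrArg _ (Subtype.ext (map_mul h.j v w))
        inv_mem' := by
          rintro _ ⟨v, hv, rfl⟩
          refine ⟨v⁻¹, fix_inv v hv, ?_⟩
          rw [← map_inv]; exact congrArg _ (Subtype.ext (map_inv h.j v)) }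
    have hle : zpowers (h.tauData hk).e ⊔ zpowers (h.tauData hk).u ≤ B :=
      sup_le (zpowers_le.2 ⟨_, _, rfl⟩) (zpowers_le.2 ⟨_, _, rfl⟩)
    exact hle hy
  · rintro ⟨v, hv, rfl⟩
    obtain ⟨i, j, hij⟩ := tau_model.1 v hv
    rw [h.vT_eq hk (g := h.vT hk v hv) (i := i) (j := j) (congrArg h.j hij)]
    exact mul_mem (mem_sup_left (pow_mem (mem_zpowers _) _)) (mem_sup_right (pow_mem (mem_zpowers _) _))

theorem split_tau {g : h.ctau} (hg : (g : G) ∈ h.N) :
    ∃ (a : A) (w : W), (g : G) = h.emb hk (ma a * mw w) ∧ ma a * mw w * mw wt = mw wt * (ma a * mw w) ∧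
      ∀ b, (g : G) * h.j b * (g : G)⁻¹ = h.j (act w b) := by
  obtain ⟨a, w, he, hact⟩ := h.split_emb hk hg
  refine ⟨a, w, he, h.emb_injective hk ?_, hact⟩
  rw [map_mul, map_mul _ (mw wt), ← he, h.tau_emb hk, mem_centralizer_singleton_iff.1 g.2]

/-- The image of a word in the model. -/
theorem word_eq {g : h.ctau} {i j k : ℕ} {t : W} (ht : t ∈ [1, wt])
    (e : (g : G) = h.emb hk (ma (e1 ^ i * vu ^ j) * mw (wf ^ k * t))) :
    h.prT g = (h.tauData hk).e ^ i * (h.tauData hk).u ^ j * (h.tauData hk).r ^ k := by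
  have hv : act wt (e1 ^ i * vu ^ j) = e1 ^ i * vu ^ j :=
    fix_mul _ _ (fix_pow tau_facts.1 i) (fix_pow vec_types.2.2.2.2.2.2.2.1 j)
  rw [← h.vT_eq hk (g := h.vT hk _ hv) (i := i) (j := j) rfl,
    show (h.tauData hk).r ^ k = h.prT (h.wT hk wf tau_facts.2.2.2.2.2.2.2.1 ^ k) from (map_pow _ _ _).symm,
    ← map_mul]
  have e' : (g : G) = h.j (e1 ^ i * vu ^ j) * h.emb hk (mw wf) ^ k * h.emb hk (mw t) := by
    rw [e, map_mul, h.emb_a hk, mul_assoc,
      show mw (wf ^ k * t) = mw wf ^ k * mw t from (map_mul _ _ _).trans (congrArg (· * mw t) (map_pow _ _ _)),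
      ]
    simp only [map_mul, map_pow, mul_assoc]
  rcases List.mem_pair.1 (by simpa using ht) with rfl | rfl
  · exact congrArg _ (Subtype.ext (by rw [e']; simp [vT, wT]))
  · rw [← mul_one (h.prT (h.vT hk _ hv * h.wT hk wf _ ^ k)), ← h.prT_tau, ← map_mul]
    exact congrArg _ (Subtype.ext (by rw [e', h.tau_emb hk]; simp [vT, wT, tauC]))

theorem tau_norm (F : h.Facts) (g : h.TX)
    (hg : g ∈ normalizer ((zpowers (h.tauData hk).e ⊔ zpowers (h.tauData hk).u : Subgroup h.TX) : Set h.TX)) :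
    ∃ (i j : ℕ) (k l : Fin 2), g = (h.tauData hk).e ^ i * (h.tauData hk).u ^ j *
      (h.tauData hk).r ^ (k : ℕ) * (h.tauData hk).s ^ (l : ℕ) := by
  obtain ⟨d, rfl⟩ := h.prT_surj g
  set D := h.tauData hk
  have hconj : ∀ (v : A) (hv : act wt v = v), v ≠ 1 → ∃ w : W, act wt (act w v) = act w v ∧
      (d : G) * h.j v * (d : G)⁻¹ = h.j (act w v) := by
    intro v hv hv1
    obtain ⟨v', hv', he⟩ := (h.mem_base hk).1 ((mem_normalizer_iff.1 hg _).1 ((h.mem_base hk).2 ⟨v, hv, rfl⟩))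
    rw [← map_inv, ← map_mul, ← map_mul] at he
    have e := (h.prT_cube (h.vT_cube hk v' hv') (b := d * h.vT hk v hv * d⁻¹) (by
      rw [Subgroup.coe_mul, Subgroup.coe_mul, Subgroup.coe_inv, conj_pow, h.vT_cube, mul_one, mul_inv_cancel]) he).symm
    obtain ⟨w, -, hw⟩ := F.ctrl _ v v' hv1 e
    exact ⟨w, by rw [hw]; exact hv', by rw [hw]; exact e⟩
  obtain ⟨hte, -, hind, hfe, hfu, hde, hdu, hft, hdt, hff, hdd, hfd⟩ := tau_facts
  obtain ⟨w1, hw1, hd1⟩ := hconj e1 hte (by decide +kernel)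
  obtain ⟨w2, hw2, hd2⟩ := hconj vu vec_types.2.2.2.2.2.2.2.1 vec_types.1
  -- a product of the two flips making both images positive
  obtain ⟨k, l, hk1, hl1⟩ : ∃ k l : Fin 2,
      ((d : G) * h.emb hk (mw (wf ^ (k : ℕ) * (wf2 * wf3) ^ (l : ℕ)))) * h.j e1 =
        h.j e1 * ((d : G) * h.emb hk (mw (wf ^ (k : ℕ) * (wf2 * wf3) ^ (l : ℕ)))) ∧
      ((d : G) * h.emb hk (mw (wf ^ (k : ℕ) * (wf2 * wf3) ^ (l : ℕ)))) * h.j vu =
        h.j vu * ((d : G) * h.emb hk (mw (wf ^ (k : ℕ) * (wf2 * wf3) ^ (l : ℕ)))) := by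
    have key : ∀ (v : A) (q : W), (d : G) * h.j (act q v) * (d : G)⁻¹ = h.j v →
        (d : G) * h.emb hk (mw q) * h.j v = h.j v * ((d : G) * h.emb hk (mw q)) := fun v q e => by
      rw [← h.conj_w hk] at e
      refine mul_inv_eq_iff_eq_mul.1 ?_
      calc (d : G) * h.emb hk (mw q) * h.j v * ((d : G) * h.emb hk (mw q))⁻¹
          = (d : G) * (h.emb hk (mw q) * h.j v * (h.emb hk (mw q))⁻¹) * (d : G)⁻¹ := by group
        _ = h.j v := e
    have hneg : ∀ v w : A, (d : G) * h.j v * (d : G)⁻¹ = h.j w →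
        (d : G) * h.j v⁻¹ * (d : G)⁻¹ = h.j w⁻¹ := fun v w e => by
      rw [map_inv, map_inv, ← e, conj_inv]
    rcases tau_model.2.2.2.1 w1 hw1 with a | a <;> rcases tau_model.2.2.2.2 w2 hw2 with b | b <;>
      rw [a] at hd1 <;> rw [b] at hd2
    · exact ⟨0, 0, key _ _ (by rwa [show act (wf ^ ((0 : Fin 2) : ℕ) * (wf2 * wf3) ^ ((0 : Fin 2) : ℕ)) e1 = e1 by decide +kernel]),
        key _ _ (by rwa [show act (wf ^ ((0 : Fin 2) : ℕ) * (wf2 * wf3) ^ ((0 : Fin 2) : ℕ)) vu = vu by decide +kernel])⟩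
    · exact ⟨0, 1, key _ _ (by rwa [show act (wf ^ ((0 : Fin 2) : ℕ) * (wf2 * wf3) ^ ((1 : Fin 2) : ℕ)) e1 = e1 by decide +kernel]),
        key _ _ (by
          have := hneg _ _ hd2
          rw [inv_inv] at this
          rwa [show act (wf ^ ((0 : Fin 2) : ℕ) * (wf2 * wf3) ^ ((1 : Fin 2) : ℕ)) vu = vu⁻¹ by decide +kernel])⟩
    · exact ⟨1, 0, key _ _ (by
          have := hneg _ _ hd1
          rw [inv_inv] at this
          rwa [show act (wf ^ ((1 : Fin 2) : ℕ) * (wf2 * wf3) ^ ((0 : Fin 2) : ℕ)) e1 = e1⁻¹ by decide +kernel]),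
        key _ _ (by rwa [show act (wf ^ ((1 : Fin 2) : ℕ) * (wf2 * wf3) ^ ((0 : Fin 2) : ℕ)) vu = vu by decide +kernel])⟩
    · exact ⟨1, 1, key _ _ (by
          have := hneg _ _ hd1
          rw [inv_inv] at this
          rwa [show act (wf ^ ((1 : Fin 2) : ℕ) * (wf2 * wf3) ^ ((1 : Fin 2) : ℕ)) e1 = e1⁻¹ by decide +kernel]),
        key _ _ (by
          have := hneg _ _ hd2
          rw [inv_inv] at this
          rwa [show act (wf ^ ((1 : Fin 2) : ℕ) * (wf2 * wf3) ^ ((1 : Fin 2) : ℕ)) vu = vu⁻¹ by decide +kernel])⟩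
  set q : h.ctau := h.wT hk wf hft ^ (k : ℕ) * h.wT hk (wf2 * wf3) hdt ^ (l : ℕ) with hq
  have hqv : (q : G) = h.emb hk (mw (wf ^ (k : ℕ) * (wf2 * wf3) ^ (l : ℕ))) := by
    rw [hq]; simp [wT]
  have hnv : vu ∉ zpowers e1 := fun e => by
    rcases A9ThreeLocal.zpowers_three_cases (A_cube e1) e with e' | e' | e'
    · exact hind 0 (by simpa using e')
    · exact hind 1 (by simpa using e')
    · exact hind 2 (e'.trans (by decide +kernel))
  have hN : ((d * q : h.ctau) : G) ∈ h.N := F.pair e1 vu (by decide +kernel) hnv (by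
    rw [Subgroup.coe_mul, hqv]
    exact ⟨mem_centralizer_singleton_iff.2 hk1, mem_centralizer_singleton_iff.2 hl1⟩)
  obtain ⟨a, w, hdw, hcm, hact⟩ := h.split_tau hk hN
  rw [Subgroup.coe_mul, hqv] at hact
  obtain ⟨i, j, t, ht, hm⟩ := tau_model.2.1 w
    (h.j_inj (by rw [← hact, hk1, mul_inv_cancel_right]))
    (h.j_inj (by rw [← hact, hl1, mul_inv_cancel_right])) a hcm
  have hpr := h.word_eq hk (g := d * q) (i := i) (j := j) (k := 0) ht (by rw [hdw, hm, pow_zero, one_mul])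
  rw [pow_zero, mul_one, map_mul] at hpr
  have hprq : h.prT q = D.r ^ (k : ℕ) * D.s ^ (l : ℕ) := by rw [hq, map_mul, map_pow, map_pow]; rfl
  have hqq : h.prT q * h.prT q = 1 := by
    rw [← map_mul, show q * q = 1 from Subtype.ext ?_, map_one]
    rw [Subgroup.coe_mul, hqv, ← map_mul, ← map_mul (SemidirectProduct.inr : W →* Mf), OneMemClass.coe_one]
    have e := wfd_sq k l
    rw [e, map_one, map_one]
  refine ⟨i, j, k, l, ?_⟩
  calc h.prT d = h.prT d * h.prT q * h.prT q := by rw [mul_assoc, hqq, mul_one]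
    _ = _ := by rw [hpr, hprq, ← mul_assoc]

theorem tau_cover (F : h.Facts) (Q : Subgroup h.TX) (hQ : IsPGroup 3 Q) :
    ∃ k : h.TX, ∀ a ∈ Q, k * a * k⁻¹ ∈ zpowers (h.tauData hk).e ⊔ zpowers (h.tauData hk).u := by
  classical
  haveI : Fact (Nat.Prime 3) := ⟨Nat.prime_three⟩
  set D := h.tauData hk
  set T0 := zpowers D.e ⊔ zpowers D.u with hT0
  have hp : IsPGroup 3 T0 := fun y => by
    obtain ⟨v, hv, he⟩ := (h.mem_base hk).1 y.2
    exact ⟨1, Subtype.ext (by
      rw [SubmonoidClass.coe_pow, ← he, pow_one, ← map_pow,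
        show h.vT hk v hv ^ 3 = 1 from Subtype.ext (h.vT_cube hk v hv), map_one]; rfl)⟩
  obtain ⟨T, hT⟩ := hp.exists_le_sylow
  have hTeq : (T : Subgroup h.TX) = T0 := by
    refine le_antisymm ?_ hT
    by_contra hne
    have hlt : T0.subgroupOf (T : Subgroup h.TX) < ⊤ :=
      lt_top_iff_ne_top.2 fun e => hne (subgroupOf_eq_top.1 e)
    haveI : Group.IsNilpotent (T : Subgroup h.TX) := T.2.isNilpotent
    obtain ⟨g, hgN, hgT⟩ := SetLike.exists_of_lt (Group.normalizerCondition_of_isNilpotent _ hlt)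
    obtain ⟨i, j, k, l, hg⟩ := h.tau_norm hk F g
      (mem_normalizer_fintype fun y hy => (mem_normalizer_iff.1 hgN ⟨y, hT hy⟩).1 hy)
    have hij : D.e ^ i * D.u ^ j ∈ T0 :=
      mul_mem (mem_sup_left (pow_mem (mem_zpowers _) _)) (mem_sup_right (pow_mem (mem_zpowers _) _))
    set q := D.r ^ (k : ℕ) * D.s ^ (l : ℕ) with hq
    have hgq : (g : h.TX) = D.e ^ i * D.u ^ j * q := by rw [hg, hq, ← mul_assoc]
    have hqT : q ∈ (T : Subgroup h.TX) := by
      have := mul_mem (inv_mem (hT hij)) g.2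
      rwa [hgq, inv_mul_cancel_left] at this
    have hq2 : q * q = 1 := by
      obtain ⟨-, -, -, -, -, -, -, hft, hdt, -⟩ := tau_facts
      have e := wfd_sq k l
      rw [hq, show D.r ^ (k : ℕ) * D.s ^ (l : ℕ) =
        h.prT (h.wT hk wf hft ^ (k : ℕ) * h.wT hk (wf2 * wf3) hdt ^ (l : ℕ)) by
          rw [map_mul, map_pow, map_pow]; rfl, ← map_mul]
      convert map_one h.prT using 2
      refine Subtype.ext ?_
      have e2 := congrArg (fun w => h.emb hk (mw w)) e
      simpa [wT] using e2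
    obtain ⟨n, hn⟩ := T.2 ⟨q, hqT⟩
    have hq1 : q = 1 := orderOf_eq_one_iff.1 (Nat.eq_one_of_dvd_coprimes
      ((show Nat.Coprime 3 2 by norm_num).pow_left n)
      (orderOf_dvd_of_pow_eq_one (by simpa using congrArg Subtype.val hn))
      (orderOf_dvd_of_pow_eq_one (by rw [pow_two, hq2])))
    exact hgT (mem_subgroupOf.2 (by rw [hgq, hq1, mul_one]; exact hij))
  obtain ⟨R, hR⟩ := hQ.exists_le_sylow
  obtain ⟨c, hc⟩ := MulAction.exists_smul_eq h.TX R T
  refine ⟨c, fun a ha => ?_⟩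
  rw [← hTeq, ← hc, Sylow.coe_subgroup_smul]
  exact ⟨a, hR ha, rfl⟩

theorem tau_cent_u (F : h.Facts) (g : h.TX) (hg : g * (h.tauData hk).u = (h.tauData hk).u * g) :
    ∃ (i j : ℕ) (k : Fin 2),
      g = (h.tauData hk).e ^ i * (h.tauData hk).u ^ j * (h.tauData hk).r ^ (k : ℕ) := by
  obtain ⟨d, rfl⟩ := h.prT_surj g
  have hdu := h.prT_comm (h.vT_cube hk _ _) hg
  obtain ⟨hv1, -, -, hE, hX, -, -, hwu, -⟩ := vec_types
  have hN : (d : G) ∈ h.N := F.loc vu hv1 (by rw [hk]; exact hX) (by rw [hk]; exact hE)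
    (mem_centralizer_singleton_iff.2 hdu)
  obtain ⟨a, w, hdw, hcm, hact⟩ := h.split_tau hk hN
  obtain ⟨i, j, k, t, ht, hm⟩ := tau_model.2.2.1 w
    (h.j_inj (by rw [← hact]; exact mul_inv_eq_iff_eq_mul.2 hdu)) a hcm
  exact ⟨i, j, k, h.word_eq hk ht (by rw [hdw, hm])⟩

theorem tau_cent_e (f : h.Frame hk) :
    ∃ p : centralizer ({(h.tauData hk).e} : Set h.TX) →* Multiplicative (ZMod 3) × Perm (Fin 4),
      Function.Bijective p := by
  classical
  have he10 : e1 ≠ (1 : A) := by decide +kernel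
  set E := h.vT hk e1 tau_facts.1
  let lift : Perm (Fin 4) → h.ctau := fun π => ⟨f.ψ (pairHom π), mem_centralizer_singleton_iff.2 (by
    rw [← f.map_w, ← map_mul, ← map_mul, pairHom_spec.1])⟩
  let liftH : Perm (Fin 4) →* h.ctau := MonoidHom.mk' lift fun π ρ => Subtype.ext (by simp [lift])
  let powH : Multiplicative (ZMod 3) →* h.ctau := MonoidHom.mk' (fun a => E ^ a.toAdd.val) fun a b => by
    rw [← pow_add, toAdd_mul, ZMod.val_add,
      ← pow_eq_pow_mod _ (show E ^ 3 = 1 from Subtype.ext (h.vT_cube hk e1 _))]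
  have hcomm : ∀ a π, Commute (powH a) (liftH π) := fun a π =>
    Subtype.ext (by simpa [powH, liftH, lift, E, vT] using ((f.comm_e (pairHom π)).pow_left a.toAdd.val).eq)
  let Θ0 : Multiplicative (ZMod 3) × Perm (Fin 4) →* h.TX :=
    h.prT.comp (MonoidHom.noncommCoprod powH liftH hcomm)
  have hmem : ∀ p, Θ0 p ∈ centralizer ({(h.tauData hk).e} : Set h.TX) := fun p => by
    refine mem_centralizer_singleton_iff.2 ?_
    show h.prT _ * h.prT E = h.prT E * h.prT _
    rw [← map_mul, ← map_mul]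
    refine congrArg _ (Subtype.ext ?_)
    simpa [powH, liftH, lift, E, vT] using
      (((Commute.refl (h.j e1)).pow_left p.1.toAdd.val).mul_left (f.comm_e (pairHom p.2)).symm).eq
  let Θ := Θ0.codRestrict _ hmem
  have hbij : Function.Bijective Θ := by
    constructor
    · refine (injective_iff_map_eq_one Θ).2 ?_
      rintro ⟨a, π⟩ e
      have e' : h.prT (powH a * liftH π) = 1 := congrArg Subtype.val e
      have key : ∀ σ : P6, h.j e1 ^ a.toAdd.val * f.ψ σ = 1 → a = 1 ∧ σ = 1 := by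
        intro σ e0
        obtain ⟨h1, h2⟩ := f.unique e0
        have hdvd := orderOf_dvd_of_pow_eq_one h1
        rw [h.order_j he10] at hdvd
        have hlt := ZMod.val_lt a.toAdd
        have h0 := Nat.eq_zero_of_dvd_of_lt hdvd hlt
        exact ⟨toAdd_eq_zero.1 ((ZMod.val_eq_zero _).1 h0), h2⟩
      rcases h.tauC_cases e' with e1' | e1'
      · obtain ⟨ha, hσ⟩ := key (pairHom π) (by simpa [powH, liftH, lift, E, vT] using e1')
        exact Prod.ext ha (pairHom_spec.2.1 π (Or.inl hσ))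
      · obtain ⟨ha, hσ⟩ := key (pairHom π * pw⁻¹) (by
          rw [map_mul, map_inv, f.map_w, ← mul_assoc, mul_inv_eq_one]
          simpa [powH, liftH, lift, E, vT] using e1')
        exact Prod.ext ha (pairHom_spec.2.1 π (Or.inr (mul_inv_eq_one.1 hσ)))
    · rintro ⟨g, hg⟩
      obtain ⟨d, rfl⟩ := h.prT_surj g
      have hde := h.prT_comm (h.vT_cube hk e1 _) (mem_centralizer_singleton_iff.1 hg)
      obtain ⟨k, σ, hd⟩ := f.dec _ hde
      have hσ : σ * pw = pw * σ := f.inj (by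
        rw [map_mul, map_mul, f.map_w]
        have := mem_centralizer_singleton_iff.1 d.2
        rw [hd, mul_assoc, ← mul_assoc h.tau, ← f.map_w,
          ← ((f.comm_e pw).pow_left (k : ℕ)).eq, mul_assoc, mul_right_inj, f.map_w] at this
        exact this)
      obtain ⟨π, hπ⟩ := pairHom_spec.2.2 σ hσ
      refine ⟨(Multiplicative.ofAdd ((k : ℕ) : ZMod 3), π), Subtype.ext ?_⟩
      show h.prT (powH _ * liftH π) = h.prT d
      have hv : ((k : ℕ) : ZMod 3).val = (k : ℕ) := ZMod.val_natCast_of_lt k.2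
      rcases hπ with rfl | rfl
      · exact congrArg _ (Subtype.ext (by simp [powH, liftH, lift, E, vT, hv, hd]))
      · rw [← mul_one (h.prT (powH _ * liftH π)), ← h.prT_tau, ← map_mul]
        exact congrArg _ (Subtype.ext (by
          simp [powH, liftH, lift, E, vT, hv, hd, tauC, f.map_w, mul_assoc]))
  exact ⟨(MulEquiv.ofBijective Θ hbij).symm.toMonoidHom, (MulEquiv.ofBijective Θ hbij).symm.bijective⟩

include hk in
/-- The centre is all of the extraspecial subgroup commuting with the exchange. -/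
theorem R_cent_tau (F : h.Facts) {g : G} (hgR : g ∈ h.R) (hgt : g * h.tau = h.tau * g) :
    g ∈ zpowers h.x := by
  by_contra hgx
  obtain ⟨c, hc, hcg⟩ := h.R_fuse hgR hgx
  obtain ⟨-, hz1, hE, -, -, hX, -⟩ := vec_types
  have hcx := mem_centralizer_singleton_iff.1 hc
  set t := c * h.tau * c⁻¹
  have htz : t * h.j vz = h.j vz * t := by
    rw [← hcg]
    calc c * h.tau * c⁻¹ * (c * g * c⁻¹) = c * (h.tau * g) * c⁻¹ := by group
      _ = _ := by rw [← hgt]; simp [t, mul_assoc]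
  have htN : t ∈ h.N := F.loc vz hz1 (by rw [hk]; exact hX) (by rw [hk]; exact hE .eight)
    (mem_centralizer_singleton_iff.2 htz)
  have htx : t * h.x = h.x * t :=
    (((show Commute c h.x from hcx).mul_left h.tau_comm_x).mul_left (show Commute c h.x from hcx).inv_left).eq
  obtain ⟨a, w, htw, hact⟩ := h.split_emb hk htN
  have ht2 : t * t = 1 := by
    rw [show t * t = c * (h.tau * h.tau) * c⁻¹ by simp [t, mul_assoc], h.tau_sq', mul_one, mul_inv_cancel]
  have htJ : t ∈ h.J := by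
    rw [← h.cent_xz]
    exact ⟨mem_centralizer_singleton_iff.2 htx, mem_centralizer_singleton_iff.2 htz⟩
  have h3 := h.J_cube _ htJ
  rw [pow_succ, pow_two, ht2, one_mul] at h3
  exact h.tau_ne' (conj_eq_one_iff.1 h3)

theorem card_model : Nat.card (Multiplicative (ZMod 3) × alternatingGroup (Fin 4)) = 36 := by
  rw [Nat.card_eq_fintype_card]; decide +kernel

theorem tau_cent_a (F : h.Facts) :
    ∃ p : centralizer ({(h.tauData hk).e * (h.tauData hk).u} : Set h.TX) →*
      Multiplicative (ZMod 3) × alternatingGroup (Fin 4), Function.Bijective p := by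
  classical
  set K : Subgroup G := centralizer ({h.x} : Set G) ⊓ h.ctau with hK
  have hxK : h.x ∈ K := ⟨mem_centralizer_singleton_iff.2 rfl, mem_centralizer_singleton_iff.2 h.tau_comm_x.symm⟩
  obtain ⟨f, hfs, hf⟩ := h.projX'
  let fK : K →* PSp43Amalgam.SL3 := f.comp (Subgroup.inclusion inf_le_left)
  have fsurj : Function.Surjective fK := fun M => by
    obtain ⟨c, rfl⟩ := hfs M
    obtain ⟨r, hr, hc⟩ := h.exists_cent_tau (mem_centralizer_singleton_iff.1 c.2)
    have hcx : r⁻¹ * (c : G) ∈ centralizer ({h.x} : Set G) := mul_mem (inv_mem (h.leR' hr)) c.2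
    refine ⟨⟨r⁻¹ * c, hcx, mem_centralizer_singleton_iff.2 hc⟩, ?_⟩
    show f ⟨r⁻¹ * (c : G), hcx⟩ = f c
    rw [show (⟨r⁻¹ * (c : G), hcx⟩ : centralizer ({h.x} : Set G)) = ⟨r, h.leR' hr⟩⁻¹ * c from rfl, map_mul,
      map_inv, (hf ⟨r, h.leR' hr⟩).2 hr, inv_one, one_mul]
  -- the kernel is the line
  have hker : ∀ g : K, fK g = 1 → (g : G) ∈ zpowers h.x := fun g hg =>
    h.R_cent_tau hk F ((hf _).1 hg) (mem_centralizer_singleton_iff.1 g.2.2)
  have cardK : Nat.card K = 72 := by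
    have h1 := fK.ker.card_mul_index
    rw [index_ker, MonoidHom.range_eq_top.2 fsurj, card_top, sl3_card] at h1
    have h2 : fK.ker = zpowers (⟨h.x, hxK⟩ : K) := by
      refine le_antisymm (fun g hg => ?_) (zpowers_le.2 ((hf _).2 h.x_mem_R))
      obtain ⟨n, hn⟩ := mem_zpowers_iff.1 (hker g hg)
      exact mem_zpowers_iff.2 ⟨n, Subtype.ext (by rw [SubgroupClass.coe_zpow]; exact hn)⟩
    rw [h2, Nat.card_zpowers, orderOf_mk, h.order_j xA_ne] at h1
    exact h1.symm
  -- a retraction onto the line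
  have hJT : ∀ v : A, act wt v = v → h.j v ∈ K := fun v hv =>
    ⟨mem_centralizer_singleton_iff.2 (h.j_comm v xA), h.tl_mem hk (comm_ma _ hv)⟩
  let AT : Subgroup A :=
    { carrier := {v | v.toAdd.2.1 = v.toAdd.2.2}
      one_mem' := rfl
      mul_mem' := fun {a b} (ha : _ = _) (hb : _ = _) => by
        show a.toAdd.2.1 + b.toAdd.2.1 = a.toAdd.2.2 + b.toAdd.2.2
        rw [ha, hb]
      inv_mem' := fun {a} (ha : _ = _) => by
        show -a.toAdd.2.1 = -a.toAdd.2.2
        rw [ha] }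
  have hAT : ∀ v : A, act wt v = v ↔ v.toAdd.2.1 = v.toAdd.2.2 := by decide +kernel
  let jK : AT →* K := (h.j.comp AT.subtype).codRestrict _ fun v => hJT v.1 ((hAT _).2 v.2)
  have jKinj : Function.Injective jK := fun a b e => Subtype.ext (h.j_inj (congrArg Subtype.val e))
  let eA := MonoidHom.ofInjective jKinj
  let ζ : AT →* Multiplicative (ZMod 3) :=
    MonoidHom.mk' (fun a => Multiplicative.ofAdd a.1.toAdd.2.2) fun a b => rfl
  set χ : K →* Multiplicative (ZMod 3) := MonoidHom.transfer (ζ.comp eA.symm.toMonoidHom) with hχ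
  have hidx : jK.range.index = 8 := by
    have h1 := jK.range.card_mul_index
    rw [cardK, ← Nat.card_congr eA.toEquiv] at h1
    have h2 : Nat.card AT = 9 := by
      rw [show 9 = (Finset.univ.filter fun a : A => a.toAdd.2.1 = a.toAdd.2.2).card by decide +kernel,
        ← Fintype.card_subtype, ← Nat.card_eq_fintype_card]
      exact Nat.card_congr (Equiv.refl _)
    rw [h2] at h1
    omega
  set xK : K := ⟨h.x, hxK⟩
  have cen : ∀ g : K, Commute g xK := fun g => Subtype.ext (mem_centralizer_singleton_iff.1 g.2.1)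
  have χx : χ xK ≠ 1 := by
    rw [hχ, MonoidHom.transfer_eq_pow _ _ fun k g₀ _ => by
      rw [mul_assoc, ← ((cen g₀).pow_right k).eq, inv_mul_cancel_left]]
    have e8 : xK ^ jK.range.index = (eA ⟨xA * xA, rfl⟩ : K) := by
      refine Subtype.ext ?_
      rw [SubmonoidClass.coe_pow, hidx]
      show h.j xA ^ 8 = h.j (xA * xA)
      rw [map_mul, show (8 : ℕ) = 3 * 2 + 2 from rfl, pow_add, pow_mul, h.J_cube _ (h.j_mem xA), one_pow,
        one_mul, pow_two]
    simp only [MonoidHom.coe_comp, Function.comp_apply, MulEquiv.coe_toMonoidHom]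
    rw [show (⟨xK ^ jK.range.index, _⟩ : jK.range) = eA ⟨xA * xA, rfl⟩ from Subtype.ext e8, eA.symm_apply_apply]
    decide +kernel
  -- the map on the preimage
  let θ : K →* Multiplicative (ZMod 3) × alternatingGroup (Fin 4) := χ.prod (plnAlt.comp fK)
  have hKC : K ≤ h.ctau := inf_le_right
  let π : K →* h.TX := h.prT.comp (Subgroup.inclusion hKC)
  have hmemC : ∀ g, π g ∈ centralizer ({(h.tauData hk).e * (h.tauData hk).u} : Set h.TX) := fun g => by
    refine mem_centralizer_singleton_iff.2 ?_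
    show h.prT _ * (h.prT _ * h.prT _) = h.prT _ * h.prT _ * h.prT _
    rw [← map_mul h.prT (h.vT hk e1 _), ← map_mul, ← map_mul]
    refine congrArg _ (Subtype.ext ?_)
    show (g : G) * (h.j e1 * h.j vu) = h.j e1 * h.j vu * g
    rw [← map_mul, tau_facts.2.1]
    exact mem_centralizer_singleton_iff.1 g.2.1
  let πC := π.codRestrict _ hmemC
  have πsurj : Function.Surjective πC := fun ⟨y, hy⟩ => by
    obtain ⟨d, rfl⟩ := h.prT_surj y
    have hy' := mem_centralizer_singleton_iff.1 hy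
    rw [show (h.tauData hk).e * (h.tauData hk).u =
      h.prT (h.vT hk e1 tau_facts.1 * h.vT hk vu vec_types.2.2.2.2.2.2.2.1) from (map_mul _ _ _).symm] at hy'
    have hx := h.prT_comm (a := h.vT hk e1 tau_facts.1 * h.vT hk vu vec_types.2.2.2.2.2.2.2.1) (by
      show (h.j e1 * h.j vu) ^ 3 = 1
      rw [← map_mul]; exact h.J_cube _ (h.j_mem _)) hy'
    simp only [Subgroup.coe_mul] at hx
    change (d : G) * (h.j e1 * h.j vu) = h.j e1 * h.j vu * d at hx
    rw [← map_mul, tau_facts.2.1] at hx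
    exact ⟨⟨d, mem_centralizer_singleton_iff.2 hx, d.2⟩, rfl⟩
  have htK : h.tau ∈ K := ⟨mem_centralizer_singleton_iff.2 h.tau_comm_x, h.tauC.2⟩
  have hk2 : ∀ g : K, θ g = 1 ↔ πC g = 1 := by
    intro g
    have hz3 : ∀ a : Multiplicative (ZMod 3), a * a = 1 → a = 1 := z3_sq
    constructor
    · intro e
      have e1 : χ g = 1 := congrArg Prod.fst e
      have e2 : plnHom (fK g) = 1 := congrArg (fun p => (p.2 : Perm (Fin 4))) e
      have h2 := plnHom_spec.2 _ e2
      rw [← map_mul] at h2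
      have hx2 := hker _ h2
      obtain ⟨n, hn⟩ := mem_zpowers_iff.1 hx2
      have hgg : g * g = xK ^ n := Subtype.ext (by rw [SubgroupClass.coe_zpow]; exact hn.symm)
      have hc1 : χ xK ^ n = 1 := by rw [← map_zpow, ← hgg, map_mul, e1, one_mul]
      have hn3 : (orderOf (χ xK) : ℤ) ∣ n := orderOf_dvd_iff_zpow_eq_one.2 hc1
      haveI : Fact (Nat.Prime 3) := ⟨Nat.prime_three⟩
      rw [orderOf_eq_prime (show χ xK ^ 3 = 1 by rw [← map_pow, show xK ^ 3 = 1 from
        Subtype.ext (h.J_cube _ (h.j_mem xA)), map_one]) χx] at hn3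
      obtain ⟨m, rfl⟩ := hn3
      have hgg1 : (g : G) * g = 1 := by
        refine hn.symm.trans ?_
        rw [zpow_mul, show h.x ^ ((3 : ℕ) : ℤ) = 1 from (zpow_natCast _ _).trans (h.J_cube _ (h.j_mem xA)),
          one_zpow]
      refine Subtype.ext ?_
      show h.prT _ = 1
      by_cases hg1 : (g : G) = 1
      · rw [show Subgroup.inclusion hKC g = 1 from Subtype.ext hg1, map_one]
      · obtain ⟨r, hr, hrt⟩ := h.exists_conj_tau (mem_centralizer_singleton_iff.1 g.2.1) hgg1 hg1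
        have hcomm : Commute h.tau (g : G) := (mem_centralizer_singleton_iff.1 g.2.2).symm
        -- both lie over the central involution
        have hfg : fK g = fK ⟨h.tau, htK⟩ := by
          obtain ⟨S, -, -, hu⟩ := sl3_minus
          have hne : ∀ t : K, (t : G) * t = 1 → (t : G) ≠ 1 → fK t ≠ 1 := fun t ht ht1 e0 => by
            have h3 : (t : G) ^ 3 = 1 := h.cubeR _ ((hf _).1 e0)
            rw [pow_succ, pow_two, ht, one_mul] at h3
            exact ht1 h3
          rw [hu (fK g) (by rw [← map_mul, show g * g = 1 from Subtype.ext hgg1, map_one]) (hne g hgg1 hg1),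
            hu (fK ⟨h.tau, htK⟩) (by rw [← map_mul, show (⟨h.tau, htK⟩ : K) * ⟨h.tau, htK⟩ = 1 from
              Subtype.ext h.tau_sq', map_one]) (hne _ h.tau_sq' h.tau_ne')]
        have hx3 := hker (g * ⟨h.tau, htK⟩⁻¹) (by rw [map_mul, map_inv, hfg, mul_inv_cancel])
        have hsq : ((g : G) * h.tau⁻¹) * ((g : G) * h.tau⁻¹) = 1 := by
          rw [inv_eq_of_mul_eq_one_right h.tau_sq', mul_assoc, ← mul_assoc h.tau, hcomm.eq]
          rw [mul_assoc (g : G) h.tau h.tau, h.tau_sq', mul_one, hgg1]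
        have hcube : ((g : G) * h.tau⁻¹) ^ 3 = 1 := by
          obtain ⟨n', hn'⟩ := mem_zpowers_iff.1 hx3
          change h.x ^ n' = (g : G) * h.tau⁻¹ at hn'
          rw [← hn', ← zpow_natCast, ← zpow_mul, mul_comm, zpow_mul, zpow_natCast,
            h.J_cube _ (h.j_mem xA), one_zpow]
        rw [pow_succ, pow_two, hsq, one_mul, mul_inv_eq_one] at hcube
        rw [show Subgroup.inclusion hKC g = h.tauC from Subtype.ext hcube, h.prT_tau]
    · intro e
      rcases h.tauC_cases (congrArg Subtype.val e : h.prT _ = 1) with e1 | e1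
      · rw [show g = 1 from Subtype.ext e1, map_one]
      · rw [show g = ⟨h.tau, htK⟩ from Subtype.ext e1]
        have h2 : (⟨h.tau, htK⟩ : K) * ⟨h.tau, htK⟩ = 1 := Subtype.ext h.tau_sq'
        refine Prod.ext (hz3 _ (by show χ _ * χ _ = 1; rw [← map_mul, h2, map_one])) (Subtype.ext ?_)
        show plnHom (fK ⟨h.tau, htK⟩) = 1
        have hM : fK ⟨h.tau, htK⟩ * fK ⟨h.tau, htK⟩ = 1 := by rw [← map_mul, h2, map_one]
        exact line_sq _ hM
  have hke : πC.ker = θ.ker := Subgroup.ext fun g => by rw [MonoidHom.mem_ker, MonoidHom.mem_ker, hk2]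
  have hrange : θ.range = ⊤ := by
    refine eq_top_of_card_eq _ ?_
    have hcard : Nat.card θ.ker = 2 := by
      rw [← hke]
      have h2 : πC.ker = zpowers (⟨h.tau, htK⟩ : K) := by
        refine le_antisymm (fun g hg => ?_) (zpowers_le.2 (Subtype.ext h.prT_tau))
        rcases h.tauC_cases (congrArg Subtype.val hg : h.prT _ = 1) with e1 | e1
        · rw [show g = 1 from Subtype.ext e1]; exact one_mem _
        · rw [show g = ⟨h.tau, htK⟩ from Subtype.ext e1]; exact mem_zpowers _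
      haveI : Fact (Nat.Prime 2) := ⟨Nat.prime_two⟩
      rw [h2, Nat.card_zpowers, orderOf_mk, orderOf_eq_prime (by rw [pow_two, h.tau_sq']) h.tau_ne']
    have h1 := θ.ker.card_mul_index
    rw [index_ker, hcard, cardK] at h1
    rw [card_model]
    omega
  let e := (QuotientGroup.quotientKerEquivOfSurjective πC πsurj).symm.trans
    ((QuotientGroup.quotientMulEquivOfEq hke).trans
      (QuotientGroup.quotientKerEquivOfSurjective θ (MonoidHom.range_eq_top.1 hrange)))
  exact ⟨e.toMonoidHom, e.bijective⟩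

theorem tau_inv_e (F : h.Facts) (f : h.Frame hk) (i : h.TX) (hi : i * i = 1)
    (hie : i * (h.tauData hk).e * i = ((h.tauData hk).e)⁻¹) : ¬ IsConj (h.tauData hk).s i := by
  intro hc
  obtain ⟨c, hc⟩ := isConj_iff.1 hc
  obtain ⟨y, rfl⟩ := h.prT_surj c
  set S := h.wT hk (wf2 * wf3) tau_facts.2.2.2.2.2.2.2.2.1
  set g : h.ctau := y * S * y⁻¹ with hg
  have hgi : h.prT g = i := by rw [hg, map_mul, map_mul, map_inv]; exact hc
  -- the same coset contains a conjugate of the exchange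
  have hfst : ∃ t : h.ctau, h.prT t = i ∧ IsConj h.tau (t : G) := by
    refine ⟨g * h.tauC, by rw [map_mul, h.prT_tau, mul_one, hgi], isConj_iff.2 ?_⟩
    have hdt : IsConj h.tau (h.emb hk (mw (wf2 * wf3)) * h.tau) := by
      rw [f.double_eq, ← f.map_w, ← map_mul]
      obtain ⟨π, hπ⟩ := double_pw
      exact isConj_iff.2 ⟨f.ψ π, by rw [← map_inv, ← map_mul, ← map_mul, hπ]⟩
    obtain ⟨π, hπ⟩ := isConj_iff.1 hdt
    refine ⟨(y : G) * π, ?_⟩
    have hyt : Commute (y : G)⁻¹ h.tau :=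
      (show Commute (y : G) h.tau from mem_centralizer_singleton_iff.1 y.2).inv_left
    calc (y : G) * π * h.tau * ((y : G) * π)⁻¹ = y * (π * h.tau * π⁻¹) * (y : G)⁻¹ := by group
      _ = y * (h.emb hk (mw (wf2 * wf3))) * ((y : G)⁻¹ * h.tau) := by rw [hπ, hyt.eq]; group
      _ = _ := by simp [g, S, wT, tauC, mul_assoc]
  obtain ⟨t, hti, htc⟩ := hfst
  set E := h.vT hk e1 tau_facts.1
  have hE3 := h.vT_cube hk e1 tau_facts.1
  have hcube2 : ((t * E * t⁻¹ : h.ctau) : G) = ((E⁻¹ : h.ctau) : G) := by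
    refine h.prT_cube ?_ ?_ ?_
    · rw [Subgroup.coe_mul, Subgroup.coe_mul, Subgroup.coe_inv, conj_pow, hE3, mul_one, mul_inv_cancel]
    · rw [Subgroup.coe_inv, inv_pow, hE3, inv_one]
    · rw [map_mul, map_mul, map_inv, map_inv, hti, inv_eq_of_mul_eq_one_right hi]; exact hie
  rw [Subgroup.coe_mul, Subgroup.coe_mul, Subgroup.coe_inv, Subgroup.coe_inv] at hcube2
  change (t : G) * h.j e1 * (t : G)⁻¹ = (h.j e1)⁻¹ at hcube2
  set F1 := h.emb hk (mw wf) with hF1
  have hF2 : F1 * F1 = 1 := by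
    rw [hF1, ← map_mul, ← map_mul (SemidirectProduct.inr : W →* Mf), tau_facts.2.2.2.2.2.2.2.2.2.1,
      map_one, map_one]
  have hFi : F1⁻¹ = F1 := inv_eq_of_mul_eq_one_right hF2
  have hFe : F1 * h.j e1 * F1 = (h.j e1)⁻¹ := by
    have := Frame.conj_e1 (h := h) (hk := hk)
    rw [← hF1, hFi] at this; exact this
  obtain ⟨k, σ, hd⟩ := f.dec (F1 * t) (by
    rw [← mul_inv_eq_iff_eq_mul]
    calc F1 * t * h.j e1 * (F1 * t)⁻¹ = F1 * ((t : G) * h.j e1 * (t : G)⁻¹) * F1⁻¹ := by group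
      _ = F1 * (h.j e1)⁻¹ * F1 := by rw [hcube2, hFi]
      _ = h.j e1 := by
        rw [← hFe]
        calc F1 * (F1 * h.j e1 * F1) * F1 = F1 * F1 * h.j e1 * (F1 * F1) := by group
          _ = _ := by rw [hF2, one_mul, mul_one])
  have hFt : (t : G) = F1 * (h.j e1 ^ (k : ℕ) * f.ψ σ) := by rw [← hd, ← mul_assoc, hF2, one_mul]
  have hFk : F1 * h.j e1 ^ (k : ℕ) * F1 = (h.j e1 ^ (k : ℕ))⁻¹ := by
    have h0 := conj_pow (a := F1) (b := h.j e1) (i := (k : ℕ))
    rw [hFi, hFe, inv_pow] at h0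
    exact h0.symm
  have hσ : σ * pw = pw * σ := f.inj (by
    rw [map_mul, map_mul, f.map_w]
    have h1 : Commute F1 h.tau := f.map_w ▸ f.comm_f pw
    have h2 : Commute (F1 * (t : G)) h.tau := h1.mul_left (mem_centralizer_singleton_iff.1 t.2)
    have h3 : Commute (h.j e1 ^ (k : ℕ)) h.tau := f.map_w ▸ (f.comm_e pw).pow_left _
    rw [hd] at h2
    have h4 := h3.inv_left.mul_left h2
    rw [inv_mul_cancel_left] at h4
    exact h4.eq)
  obtain ⟨w, hw⟩ := isConj_iff.1 htc
  have ht2 : (t : G) * t = 1 := by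
    rw [← hw, show w * h.tau * w⁻¹ * (w * h.tau * w⁻¹) = w * (h.tau * h.tau) * w⁻¹ by group, h.tau_sq',
      mul_one, mul_inv_cancel]
  have hσ2 : σ * σ = 1 := f.inj (by
    rw [map_mul, map_one, ← ht2, hFt]
    have c1 : Commute (f.ψ σ) F1 := (f.comm_f σ).symm
    calc f.ψ σ * f.ψ σ = (h.j e1 ^ (k : ℕ))⁻¹ * h.j e1 ^ (k : ℕ) * (f.ψ σ * f.ψ σ) := by group
      _ = F1 * h.j e1 ^ (k : ℕ) * F1 * h.j e1 ^ (k : ℕ) * (f.ψ σ * f.ψ σ) := by rw [hFk]
      _ = F1 * h.j e1 ^ (k : ℕ) * (F1 * h.j e1 ^ (k : ℕ) * f.ψ σ) * f.ψ σ := by group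
      _ = F1 * h.j e1 ^ (k : ℕ) * (f.ψ σ * (F1 * h.j e1 ^ (k : ℕ))) * f.ψ σ := by
        rw [(c1.mul_right ((f.comm_e σ).pow_left (k : ℕ)).symm).eq]
      _ = _ := by group)
  -- conjugate to remove the power of the first vector
  have hnx := f.noX_flip_mul F hσ2 hσ
  have hkey : (t : G) = h.j e1 ^ (k : ℕ) * (F1 * f.ψ σ) * (h.j e1 ^ (k : ℕ))⁻¹ := by
    rw [hFt]
    have he : F1 * h.j e1 ^ (k : ℕ) = (h.j e1 ^ (k : ℕ))⁻¹ * F1 := by
      rw [← hFk, mul_assoc (F1 * h.j e1 ^ (k : ℕ)), hF2, mul_one]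
    have hinv : (h.j e1 ^ (k : ℕ))⁻¹ = h.j e1 ^ (k : ℕ) * h.j e1 ^ (k : ℕ) := inv_eq_of_mul_eq_one_right (by
      rw [← mul_assoc, ← pow_three', ← pow_mul, mul_comm, pow_mul, h.J_cube _ (h.j_mem e1), one_pow])
    have hcb := ((f.comm_e σ).pow_left (k : ℕ)).inv_left
    set b := h.j e1 ^ (k : ℕ)
    clear_value b
    calc F1 * (b * f.ψ σ) = b⁻¹ * (F1 * f.ψ σ) := by rw [← mul_assoc, he, mul_assoc]
      _ = b * (b * F1) * f.ψ σ := by rw [hinv]; group
      _ = b * (F1 * b⁻¹) * f.ψ σ := by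
        congr 2
        calc b * F1 = b * (F1 * b) * b⁻¹ := by group
          _ = F1 * b⁻¹ := by rw [he]; group
      _ = b * F1 * (b⁻¹ * f.ψ σ) := by group
      _ = _ := by rw [hcb.eq]; group
  rw [hkey] at htc
  exact h.not_conj_tau (h.noX_conj hnx _) htc

theorem tau_inv_a (F : h.Facts) (f : h.Frame hk) (i : h.TX) (hi : i * i = 1)
    (hia : i * ((h.tauData hk).e * (h.tauData hk).u) * i = ((h.tauData hk).e * (h.tauData hk).u)⁻¹) :
    ¬ IsConj (h.tauData hk).s i := by
  intro hc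
  obtain ⟨c, hc⟩ := isConj_iff.1 hc
  obtain ⟨y, rfl⟩ := h.prT_surj c
  set S := h.wT hk (wf2 * wf3) tau_facts.2.2.2.2.2.2.2.2.1
  set t : h.ctau := y * (S * h.tauC) * y⁻¹ with ht
  have hti : h.prT t = i := by
    rw [ht, map_mul, map_mul, map_mul, map_inv, h.prT_tau, mul_one]; exact hc
  obtain ⟨π, hπ⟩ := double_pw
  have htc : IsConj h.tau (t : G) := by
    refine isConj_iff.2 ⟨(y : G) * f.ψ π, ?_⟩
    have e : f.ψ π * h.tau * (f.ψ π)⁻¹ = h.emb hk (mw (wf2 * wf3)) * h.tau := by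
      rw [f.double_eq, ← f.map_w, ← map_inv, ← map_mul, ← map_mul, ← map_mul, hπ]
    calc (y : G) * f.ψ π * h.tau * ((y : G) * f.ψ π)⁻¹ = y * (f.ψ π * h.tau * (f.ψ π)⁻¹) * (y : G)⁻¹ := by group
      _ = _ := by rw [e]; simp [t, S, wT, tauC, mul_assoc]
  obtain ⟨w, hw⟩ := isConj_iff.1 htc
  have ht2 : (t : G) * t = 1 := by
    rw [← hw, show w * h.tau * w⁻¹ * (w * h.tau * w⁻¹) = w * (h.tau * h.tau) * w⁻¹ by group, h.tau_sq',
      mul_one, mul_inv_cancel]
  set X := h.vT hk e1 tau_facts.1 * h.vT hk vu vec_types.2.2.2.2.2.2.2.1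
  have hX : (X : G) = h.x := (map_mul h.j e1 vu).symm.trans (congrArg h.j tau_facts.2.1)
  have hX3 : (X : G) ^ 3 = 1 := by rw [hX]; exact h.J_cube _ (h.j_mem xA)
  have hinv : ((t * X * t⁻¹ : h.ctau) : G) = ((X⁻¹ : h.ctau) : G) := by
    refine h.prT_cube ?_ ?_ ?_
    · rw [Subgroup.coe_mul, Subgroup.coe_mul, Subgroup.coe_inv, conj_pow, hX3, mul_one, mul_inv_cancel]
    · rw [Subgroup.coe_inv, inv_pow, hX3, inv_one]
    · rw [map_mul, map_mul, map_inv, map_inv, hti, inv_eq_of_mul_eq_one_right hi, map_mul]; exact hia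
  rw [Subgroup.coe_mul, Subgroup.coe_mul, Subgroup.coe_inv, Subgroup.coe_inv, hX,
    inv_eq_of_mul_eq_one_right ht2] at hinv
  exact h.not_conj_tau (h.noX_of_inv F hk ht2 hinv) htc

/-- The hypotheses on the centraliser of the exchange. -/
theorem centTwo (F : h.Facts) (f : h.Frame hk) : CentTwo (h.tauData hk) := by
  obtain ⟨hte, -, hind, hfe, hfu, hde, hdu, hft, hdt, hff, hdd, hfd⟩ := tau_facts
  have hwu := vec_types.2.2.2.2.2.2.2.1
  have inv1 : ∀ (w : W) (hw : w * wt = wt * w), w * w = 1 →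
      h.prT (h.wT hk w hw) * h.prT (h.wT hk w hw) = 1 := fun w hw e => by
    rw [← map_mul, show h.wT hk w hw * h.wT hk w hw = 1 from Subtype.ext (by
      show h.emb hk (mw w) * h.emb hk (mw w) = 1
      rw [← map_mul, ← map_mul (SemidirectProduct.inr : W →* Mf), e, map_one, map_one]), map_one]
  have hcj : ∀ (w : W) (hw : w * wt = wt * w) (v v' : A) (hv : act wt v = v) (hv' : act wt v' = v'),
      w * w = 1 → act w v = v' →
      h.prT (h.wT hk w hw) * h.prT (h.vT hk v hv) * h.prT (h.wT hk w hw) = h.prT (h.vT hk v' hv') :=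
    fun w hw v v' hv hv' e1 e2 => by
    nth_rw 2 [← inv_eq_of_mul_eq_one_right (inv1 w hw e1)]
    rw [← map_inv, ← map_mul, ← map_mul]
    exact congrArg _ (Subtype.ext ((h.conj_w hk w v).trans (congrArg h.j e2)))
  have hvi : ∀ (v : A) (hv : act wt v = v) (hv' : act wt v⁻¹ = v⁻¹),
      h.prT (h.vT hk v⁻¹ hv') = (h.prT (h.vT hk v hv))⁻¹ := fun v hv hv' => by
    rw [← map_inv]; exact congrArg _ (Subtype.ext (map_inv h.j v))
  have comm_of : ∀ a b : h.TX, a * a = 1 → a * b * a = b → a * b = b * a := fun a b e1 e2 => by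
    nth_rw 2 [← e2]
    rw [mul_assoc, e1, mul_one]
  have hrr := inv1 wf hft hff
  have hss := inv1 _ hdt hdd
  refine ⟨h.vT_order hk hte (by decide +kernel), h.vT_order hk hwu vec_types.1, ?_, ?_, hrr, hss, ?_,
    ?_, ?_, ?_, ?_, h.tau_norm hk F, h.tau_cover hk F, h.tau_cent_u hk F, h.tau_cent_e hk f,
    h.tau_cent_a hk F, h.tau_inv_e hk F f, h.tau_inv_a hk F f⟩
  · show h.prT _ * h.prT _ = h.prT _ * h.prT _
    rw [← map_mul, ← map_mul]; exact congrArg _ (Subtype.ext (h.j_comm _ _))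
  · intro hm
    rcases A9ThreeLocal.zpowers_three_cases (by
      rw [← h.vT_order hk hte (by decide +kernel)]; exact pow_orderOf_eq_one _) hm with e | e | e
    · exact hind 0 (h.j_inj ((h.prT_cube (h.vT_cube hk _ hwu) (b := 1) (one_pow 3)
        (e.trans (map_one _).symm)).trans (by simp)))
    · exact hind 1 (h.j_inj ((h.prT_cube (h.vT_cube hk _ hwu) (h.vT_cube hk _ hte) e).trans
        (by simp [vT])))
    · have hte' : act wt (e1⁻¹) = e1⁻¹ := by decide +kernel
      refine hind 2 (h.j_inj ((h.prT_cube (h.vT_cube hk _ hwu) (h.vT_cube hk _ hte')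
        (e.trans (hvi e1 hte hte').symm)).trans ?_))
      exact congrArg h.j (by decide +kernel)
  · show h.prT _ * h.prT _ = h.prT _ * h.prT _
    rw [← map_mul, ← map_mul]
    refine congrArg _ (Subtype.ext ?_)
    show h.emb hk (mw wf) * h.emb hk (mw (wf2 * wf3)) = h.emb hk (mw (wf2 * wf3)) * h.emb hk (mw wf)
    rw [← map_mul, ← map_mul (h.emb hk), ← map_mul (SemidirectProduct.inr : W →* Mf),
      ← map_mul (SemidirectProduct.inr : W →* Mf), hfd]
  · exact (hcj wf hft e1 e1⁻¹ hte (by decide +kernel) hff hfe).trans (hvi e1 hte _)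
  · exact comm_of _ _ hrr (hcj wf hft vu vu hwu hwu hff hfu)
  · exact comm_of _ _ hss (hcj _ hdt e1 e1 hte hte hdd hde)
  · exact (hcj _ hdt vu vu⁻¹ hwu (by decide +kernel) hdd hdu).trans (hvi vu hwu _)

end

end Conf

end Cfsg.Agent.Sp6Local
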