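import Cfsg.Agent.Sp6Local.Frame

/-!
# Computations for the centraliser of the exchange
-/

set_option autoImplicit false
set_option synthInstance.maxSize 4000
set_option synthInstance.maxHeartbeats 400000

namespace Cfsg.Agent.Sp6Local

open Equiv Cfsg.Agent.Sym9ThreeLocal

/-- The two-element subsets of four points, a pair of complements being three apart. -/
def pairIdx : Fin 4 → Fin 4 → Fin 6
  | 0, 1 => 0 | 1, 0 => 0 | 0, 2 => 1 | 2, 0 => 1 | 0, 3 => 2 | 3, 0 => 2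
  | 2, 3 => 3 | 3, 2 => 3 | 1, 3 => 4 | 3, 1 => 4 | 1, 2 => 5 | 2, 1 => 5
  | _, _ => 0

/-- The points of a two-element subset. -/
def pairPts : Fin 6 → Fin 4 × Fin 4 := ![(0, 1), (0, 2), (0, 3), (2, 3), (1, 3), (1, 2)]

/-- The action of a permutation of four points on the two-element subsets. -/
def pairFun (π : Perm (Fin 4)) (i : Fin 6) : Fin 6 := pairIdx (π (pairPts i).1) (π (pairPts i).2)

theorem pairFun_inv : ∀ π : Perm (Fin 4), ∀ i, pairFun π⁻¹ (pairFun π i) = i ∧ pairFun π (pairFun π⁻¹ i) = i := by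
  decide +kernel

theorem pairFun_mul : ∀ π ρ : Perm (Fin 4), ∀ i, pairFun (π * ρ) i = pairFun π (pairFun ρ i) := by
  decide +kernel

/-- The complement of the exchange in its centraliser inside the symmetric group of degree six. -/
def pairHom : Perm (Fin 4) →* P6 :=
  MonoidHom.mk' (fun π => ⟨pairFun π, pairFun π⁻¹, fun i => (pairFun_inv π i).1, fun i => (pairFun_inv π i).2⟩)
    fun π ρ => Equiv.ext fun i => pairFun_mul π ρ i

theorem pairHom_spec :
    (∀ π, pairHom π * pw = pw * pairHom π) ∧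
    (∀ π, pairHom π = 1 ∨ pairHom π = pw → π = 1) ∧
    (∀ σ : P6, σ * pw = pw * σ → ∃ π, σ = pairHom π ∨ σ = pairHom π * pw) := by
  decide +kernel

/-- Representatives of the lines of the plane. -/
def plnVec : Fin 4 → Fin 2 → ZMod 3 := ![![1, 0], ![0, 1], ![1, 1], ![1, 2]]

/-- The line of a non-zero vector. -/
def plnIdx (v : Fin 2 → ZMod 3) : Fin 4 := if v 0 = 0 then 1 else if v 1 = 0 then 0 else if v 0 = v 1 then 2 else 3

open PSp43Amalgam (SL3)

/-- The action on the lines. -/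
def plnFun (M : SL3) (i : Fin 4) : Fin 4 :=
  plnIdx fun r => (M : Matrix (Fin 2) (Fin 2) (ZMod 3)) r 0 * plnVec i 0 +
    (M : Matrix (Fin 2) (Fin 2) (ZMod 3)) r 1 * plnVec i 1

theorem plnFun_inv : ∀ M : SL3, ∀ i, plnFun M⁻¹ (plnFun M i) = i ∧ plnFun M (plnFun M⁻¹ i) = i := by
  decide +kernel

theorem plnFun_mul : ∀ M N : SL3, ∀ i, plnFun (M * N) i = plnFun M (plnFun N i) := by
  decide +kernel

/-- The permutations of the lines. -/
def plnHom : SL3 →* Perm (Fin 4) :=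
  MonoidHom.mk' (fun M => ⟨plnFun M, plnFun M⁻¹, fun i => (plnFun_inv M i).1, fun i => (plnFun_inv M i).2⟩)
    fun M N => Equiv.ext fun i => plnFun_mul M N i

theorem plnHom_spec :
    (∀ M, Perm.sign (plnHom M) = 1) ∧ ∀ M : SL3, plnHom M = 1 → M * M = 1 := by
  decide +kernel

theorem line_sq : ∀ M : SL3, M * M = 1 → plnHom M = 1 := by decide +kernel

theorem double_pw : ∃ π : P6, π * pw * π⁻¹ = p0 * p1 * pw := by decide +kernel

/-- The natural map onto the alternating group of degree four. -/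
def plnAlt : SL3 →* alternatingGroup (Fin 4) :=
  plnHom.codRestrict _ fun M => Perm.mem_alternatingGroup.2 (plnHom_spec.1 M)

theorem tau_model :
    (∀ v : A, act wt v = v → ∃ i j : Fin 3, v = e1 ^ (i : ℕ) * vu ^ (j : ℕ)) ∧
    (∀ w : W, act w e1 = e1 → act w vu = vu → ∀ a : A, ma a * mw w * mw wt = mw wt * (ma a * mw w) →
      ∃ i j : Fin 3, ∃ t ∈ [1, wt], ma a * mw w = ma (e1 ^ (i : ℕ) * vu ^ (j : ℕ)) * mw t) ∧
    (∀ w : W, act w vu = vu → ∀ a : A, ma a * mw w * mw wt = mw wt * (ma a * mw w) →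
      ∃ i j : Fin 3, ∃ k : Fin 2, ∃ t ∈ [1, wt],
        ma a * mw w = ma (e1 ^ (i : ℕ) * vu ^ (j : ℕ)) * mw (wf ^ (k : ℕ) * t)) ∧
    (∀ w : W, act wt (act w e1) = act w e1 → act w e1 = e1 ∨ act w e1 = e1⁻¹) ∧
    (∀ w : W, act wt (act w vu) = act w vu → act w vu = vu ∨ act w vu = vu⁻¹) := by
  decide +kernel

theorem comm_ma : ∀ v : A, act wt v = v → ma v * mw wt = mw wt * ma v := by decide +kernel

theorem fix_mul : ∀ v w : A, act wt v = v → act wt w = w → act wt (v * w) = v * w := by decide +kernel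

theorem fix_inv : ∀ v : A, act wt v = v → act wt v⁻¹ = v⁻¹ := by decide +kernel

theorem fix_pow {v : A} (hv : act wt v = v) : ∀ n : ℕ, act wt (v ^ n) = v ^ n
  | 0 => by rw [pow_zero]; decide +kernel
  | n + 1 => by rw [pow_succ]; exact fix_mul _ _ (fix_pow hv n) hv

theorem wfd_sq : ∀ k l : Fin 2, (wf ^ (k : ℕ) * (wf2 * wf3) ^ (l : ℕ)) * (wf ^ (k : ℕ) * (wf2 * wf3) ^ (l : ℕ)) = 1 := by
  decide +kernel

theorem tau_facts :
    act wt e1 = e1 ∧ e1 * vu = xA ∧ (∀ i : Fin 3, vu ≠ e1 ^ (i : ℕ)) ∧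
    act wf e1 = e1⁻¹ ∧ act wf vu = vu ∧ act (wf2 * wf3) e1 = e1 ∧ act (wf2 * wf3) vu = vu⁻¹ ∧
    wf * wt = wt * wf ∧ (wf2 * wf3) * wt = wt * (wf2 * wf3) ∧ wf * wf = 1 ∧
    (wf2 * wf3) * (wf2 * wf3) = 1 ∧ wf * (wf2 * wf3) = (wf2 * wf3) * wf := by
  decide +kernel

end Cfsg.Agent.Sp6Local
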