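import Cfsg.Agent.Sp6Local.Interface

/-!
# The centraliser of the involution: normal forms and the three centralisers
-/

set_option autoImplicit false

namespace Cfsg.Agent.Sp6Local

open Subgroup

universe u

/-- Permutations of four points. -/
abbrev P4 := Equiv.Perm (Fin 4)

/-- The group of order three. -/
abbrev M3 := Multiplicative (ZMod 3)

/-- Membership in the four-group of `S₄`. -/
def IsV (σ : P4) : Prop := σ * σ = 1 ∧ (σ = 1 ∨ ∀ i, σ i ≠ i)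

instance (σ : P4) : Decidable (IsV σ) := inferInstanceAs (Decidable (_ ∧ _))

theorem isV_sign : ∀ σ : P4, IsV σ → Equiv.Perm.sign σ = 1 := by decide +kernel

theorem isV_of_sq : ∀ σ : P4, σ * σ * (σ * σ) = 1 → IsV (σ * σ) := by decide +kernel

theorem isV_alt : ∀ σ : P4, Equiv.Perm.sign σ = 1 → σ * σ = 1 → IsV σ := by decide +kernel

theorem isV_conj : ∀ σ τ : P4, IsV σ → IsV (τ * σ * τ⁻¹) := by decide +kernel

theorem v_of_eight : ∀ τ : P4, τ ^ 3 = 1 → τ ≠ 1 → ∀ σ : P4, σ ^ 8 = 1 →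
    (σ * (τ * σ * τ⁻¹)) ^ 8 = 1 → (σ * (τ⁻¹ * σ * τ)) ^ 8 = 1 → IsV σ := by decide +kernel

theorem v_commutator : ∀ τ : P4, τ ^ 3 = 1 → τ ≠ 1 → ∀ σ : P4, IsV σ →
    ∃ a : P4, IsV a ∧ σ = a * τ * a⁻¹ * τ⁻¹ := by decide +kernel

theorem v_whole : ∀ τ : P4, τ ^ 3 = 1 → τ ≠ 1 → ∀ σ : P4, IsV σ → σ ≠ 1 → ∀ a : P4, IsV a →
    a = 1 ∨ a = σ ∨ a = τ * σ * τ⁻¹ ∨ a = τ⁻¹ * σ * τ := by decide +kernel

/-- The map of a centraliser onto a line times a group between the four-group and `S₄`. -/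
structure FourData {X : Type u} [Group X] (y v : X) where
  f : centralizer ({y} : Set X) →* M3 × P4
  inj : Function.Injective f
  surj : ∀ σ : P4, IsV σ → ∃ g, f g = (1, σ)
  mem : v ∈ centralizer ({y} : Set X)
  tau : (f ⟨v, mem⟩).2 ≠ 1
  cube : v ^ 3 = 1

namespace FourData

variable {X : Type u} [Group X] {y v : X} (D : FourData y v)

/-- The four-group of the centraliser. -/
def InV (g : X) : Prop := ∃ h : g ∈ centralizer ({y} : Set X), (D.f ⟨g, h⟩).1 = 1 ∧ IsV (D.f ⟨g, h⟩).2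

theorem tau_cube : (D.f ⟨v, D.mem⟩).2 ^ 3 = 1 := by
  rw [← Prod.pow_snd, ← map_pow, show (⟨v, D.mem⟩ : centralizer ({y} : Set X)) ^ 3 = 1 from
    Subtype.ext (by simpa using D.cube), map_one]
  rfl

theorem tau_fst_pow : (D.f ⟨v, D.mem⟩).1 ^ 3 = 1 := by
  rw [← Prod.pow_fst, ← map_pow, show (⟨v, D.mem⟩ : centralizer ({y} : Set X)) ^ 3 = 1 from
    Subtype.ext (by simpa using D.cube), map_one]
  rfl

theorem exists_commutator {g : X} (hg : D.InV g) : ∃ a, D.InV a ∧ g = a * v * a⁻¹ * v⁻¹ := by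
  obtain ⟨h, h1, h2⟩ := hg
  obtain ⟨a, ha, he⟩ := v_commutator _ D.tau_cube D.tau _ h2
  obtain ⟨⟨g', hg'⟩, hf⟩ := D.surj a ha
  refine ⟨g', ⟨hg', by rw [hf], by rw [hf]; exact ha⟩, ?_⟩
  have e : D.f ⟨g, h⟩ = D.f (⟨g', hg'⟩ * ⟨v, D.mem⟩ * ⟨g', hg'⟩⁻¹ * ⟨v, D.mem⟩⁻¹) := by
    simp only [map_mul, map_inv, hf]
    refine Prod.ext ?_ ?_
    · simp [h1]
    · simpa using he
  exact congrArg Subtype.val (D.inj e)

theorem inV_of_le [Finite X] {Q : Subgroup X} (hQ : Q ≤ centralizer ({y} : Set X))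
    (hcop : (Nat.card Q).Coprime 3) (hn : ∀ g ∈ Q, v * g * v⁻¹ ∈ Q ∧ v⁻¹ * g * v ∈ Q) {g : X}
    (hg : g ∈ Q) : D.InV g := by
  set F : Q →* M3 × P4 := D.f.comp (Subgroup.inclusion hQ) with hF
  have key : ∀ (a : X) (ha : a ∈ Q), (D.f ⟨a, hQ ha⟩).1 = 1 ∧ (D.f ⟨a, hQ ha⟩).2 ^ 8 = 1 := by
    intro a ha
    have hd : orderOf (D.f ⟨a, hQ ha⟩) ∣ Nat.card Q :=
      (orderOf_map_dvd F ⟨a, ha⟩).trans (orderOf_dvd_natCard _)
    have h3 : (orderOf (D.f ⟨a, hQ ha⟩)).Coprime 3 := hcop.coprime_dvd_left hd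
    constructor
    · have h1 : orderOf (D.f ⟨a, hQ ha⟩).1 ∣ 3 := by
        have := orderOf_dvd_natCard (D.f ⟨a, hQ ha⟩).1
        simpa [Nat.card_zmod] using this
      have h2 := (h3.coprime_dvd_left (orderOf_map_dvd (MonoidHom.fst M3 P4) _)).eq_one_of_dvd h1
      exact orderOf_eq_one_iff.1 h2
    · refine orderOf_dvd_iff_pow_eq_one.1 ?_
      have h1 : orderOf (D.f ⟨a, hQ ha⟩).2 ∣ 3 * 8 := by
        have := orderOf_dvd_natCard (D.f ⟨a, hQ ha⟩).2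
        rwa [Nat.card_perm, Nat.card_fin] at this
      exact (h3.coprime_dvd_left (orderOf_map_dvd (MonoidHom.snd M3 P4) _)).dvd_of_dvd_mul_left h1
  obtain ⟨h1, h2⟩ := key g hg
  obtain ⟨hv1, hv2⟩ := hn g hg
  refine ⟨hQ hg, h1, v_of_eight _ D.tau_cube D.tau _ h2 ?_ ?_⟩
  · have := (key _ (Q.mul_mem hg hv1)).2
    rw [show (⟨g * (v * g * v⁻¹), hQ (Q.mul_mem hg hv1)⟩ : centralizer ({y} : Set X)) =
      ⟨g, hQ hg⟩ * (⟨v, D.mem⟩ * ⟨g, hQ hg⟩ * ⟨v, D.mem⟩⁻¹) from rfl] at this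
    rw [map_mul, map_mul, map_mul, map_inv] at this
    exact this
  · have := (key _ (Q.mul_mem hg hv2)).2
    rw [show (⟨g * (v⁻¹ * g * v), hQ (Q.mul_mem hg hv2)⟩ : centralizer ({y} : Set X)) =
      ⟨g, hQ hg⟩ * (⟨v, D.mem⟩⁻¹ * ⟨g, hQ hg⟩ * ⟨v, D.mem⟩) from rfl] at this
    rw [map_mul, map_mul, map_mul, map_inv] at this
    exact this

theorem inV_whole {Q : Subgroup X} (hn : ∀ g ∈ Q, v * g * v⁻¹ ∈ Q ∧ v⁻¹ * g * v ∈ Q) {g : X}
    (hg : g ∈ Q) (hgV : D.InV g) (hg1 : g ≠ 1) {a : X} (ha : D.InV a) : a ∈ Q := by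
  obtain ⟨h, h1, h2⟩ := hgV
  obtain ⟨k, k1, k2⟩ := ha
  have hne : (D.f ⟨g, h⟩).2 ≠ 1 := fun e => hg1 (congrArg Subtype.val
    (D.inj (show D.f ⟨g, h⟩ = D.f 1 by rw [map_one]; exact Prod.ext h1 e)))
  rcases v_whole _ D.tau_cube D.tau _ h2 hne _ k2 with e | e | e | e
  · rw [show a = 1 from congrArg Subtype.val
      (D.inj (show D.f ⟨a, k⟩ = D.f 1 by rw [map_one]; exact Prod.ext k1 e))]
    exact Q.one_mem
  · rw [show a = g from congrArg Subtype.val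
      (D.inj (show D.f ⟨a, k⟩ = D.f ⟨g, h⟩ from Prod.ext (k1.trans h1.symm) e))]
    exact hg
  · rw [show a = v * g * v⁻¹ from congrArg Subtype.val (D.inj (show D.f ⟨a, k⟩ =
      D.f (⟨v, D.mem⟩ * ⟨g, h⟩ * ⟨v, D.mem⟩⁻¹) by
        simp only [map_mul, map_inv]; exact Prod.ext (by simp [k1, h1]) (by simpa using e)))]
    exact (hn g hg).1
  · rw [show a = v⁻¹ * g * v from congrArg Subtype.val (D.inj (show D.f ⟨a, k⟩ =
      D.f (⟨v, D.mem⟩⁻¹ * ⟨g, h⟩ * ⟨v, D.mem⟩) by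
        simp only [map_mul, map_inv]; exact Prod.ext (by simp [k1, h1]) (by simpa using e)))]
    exact (hn g hg).2

theorem inV_of_sq {g : X} (hg : g ∈ centralizer ({y} : Set X)) (h4 : g ^ 4 = 1) : D.InV (g * g) := by
  refine ⟨mul_mem hg hg, ?_, ?_⟩
  all_goals
    rw [show (⟨g * g, mul_mem hg hg⟩ : centralizer ({y} : Set X)) = ⟨g, hg⟩ * ⟨g, hg⟩ from rfl,
      map_mul]
    have e : D.f ⟨g, hg⟩ ^ 4 = 1 := by
      rw [← map_pow, show (⟨g, hg⟩ : centralizer ({y} : Set X)) ^ 4 = 1 from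
        Subtype.ext (by simpa using h4), map_one]
  · have e1 : (D.f ⟨g, hg⟩).1 ^ 4 = 1 := by rw [← Prod.pow_fst, e]; rfl
    have key : ∀ k : M3, k ^ 4 = 1 → k * k = 1 := by decide
    exact key _ e1
  · refine isV_of_sq _ ?_
    rw [← pow_two, ← pow_two, ← pow_mul, ← Prod.pow_snd, e]
    rfl

theorem inV_sq {g : X} (hg : D.InV g) : g * g = 1 := by
  obtain ⟨h, h1, h2⟩ := hg
  have e : (⟨g, h⟩ : centralizer ({y} : Set X)) * ⟨g, h⟩ = 1 := D.inj (by
    rw [map_mul, map_one]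
    exact Prod.ext (by simp [h1]) (by simpa using h2.1))
  exact congrArg Subtype.val e

theorem exists_inV_ne : ∃ g, D.InV g ∧ g ≠ 1 := by
  obtain ⟨⟨g, hg⟩, hf⟩ := D.surj (Equiv.swap 0 1 * Equiv.swap 2 3) (by decide)
  refine ⟨g, ⟨hg, by rw [hf], by rw [hf]; decide⟩, fun e => ?_⟩
  subst e
  have h1 : (1 : M3 × P4) = (1, Equiv.swap 0 1 * Equiv.swap 2 3) := by
    rw [← hf, ← map_one D.f]; rfl
  exact absurd (congrArg Prod.snd h1) (by decide)

end FourData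

theorem eq_one_of_three_two {X : Type u} [Group X] {g : X} (h3 : g ^ 3 = 1) (h2 : g * g = 1) :
    g = 1 := by
  rwa [pow_succ, sq, h2, one_mul] at h3

theorem pow_of_mem_zpowers {X : Type u} [Group X] {a g : X} (h3 : a ^ 3 = 1) (h : g ∈ zpowers a) :
    ∃ n : ℕ, g = a ^ n := by
  have ho : IsOfFinOrder a := isOfFinOrder_iff_pow_eq_one.2 ⟨3, by norm_num, h3⟩
  obtain ⟨n, hn⟩ := ho.mem_powers_iff_mem_zpowers.2 h
  exact ⟨n, hn.symm⟩

theorem card_centralizer_conj {X : Type u} [Group X] (c x : X) :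
    Nat.card (centralizer ({c * x * c⁻¹} : Set X)) = Nat.card (centralizer ({x} : Set X)) := by
  refine (Nat.card_congr (Equiv.subtypeEquiv (MulAut.conj c).toEquiv fun g => ?_)).symm
  simp only [mem_centralizer_singleton_iff, MulEquiv.toEquiv_eq_coe, MulEquiv.coe_toEquiv,
    MulAut.conj_apply]
  constructor
  · intro h
    calc c * g * c⁻¹ * (c * x * c⁻¹) = c * (g * x) * c⁻¹ := by group
      _ = c * x * c⁻¹ * (c * g * c⁻¹) := by rw [h]; group
  · intro h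
    calc g * x = c⁻¹ * (c * g * c⁻¹ * (c * x * c⁻¹)) * c := by group
      _ = x * g := by rw [h]; group

namespace CentTwo

variable {X : Type u} [Group X] {d : CentTwoData X}

/-- The Sylow subgroup. -/
abbrev W (d : CentTwoData X) : Subgroup X := zpowers d.e ⊔ zpowers d.u

theorem e_mem : d.e ∈ W d := mem_sup_left (mem_zpowers _)

theorem u_mem : d.u ∈ W d := mem_sup_right (mem_zpowers _)

variable (hd : CentTwo d)
include hd

theorem e3 : d.e ^ 3 = 1 := by rw [← hd.he]; exact pow_orderOf_eq_one _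

theorem u3 : d.u ^ 3 = 1 := by rw [← hd.hu]; exact pow_orderOf_eq_one _

theorem e_ne : d.e ≠ 1 := fun e => by have := hd.he; rw [e, orderOf_one] at this; omega

theorem u_ne : d.u ≠ 1 := fun e => by have := hd.hu; rw [e, orderOf_one] at this; omega

theorem comm_eu : Commute d.e d.u := hd.eu

theorem e_inv : d.e⁻¹ = d.e ^ 2 := inv_eq_of_mul_eq_one_right (by rw [← pow_succ']; exact hd.e3)

theorem u_inv : d.u⁻¹ = d.u ^ 2 := inv_eq_of_mul_eq_one_right (by rw [← pow_succ']; exact hd.u3)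

theorem r_inv : d.r⁻¹ = d.r := inv_eq_of_mul_eq_one_right hd.rr

theorem s_inv : d.s⁻¹ = d.s := inv_eq_of_mul_eq_one_right hd.ss

/-- The elements of the Sylow subgroup. -/
theorem mem_W {g : X} (hg : g ∈ W d) : ∃ i j : ℕ, i < 3 ∧ j < 3 ∧ g = d.e ^ i * d.u ^ j := by
  rw [W, sup_eq_closure] at hg
  have key : ∃ i j : ℕ, g = d.e ^ i * d.u ^ j := by
    induction hg using closure_induction with
    | mem a ha =>
      rcases ha with ha | ha
      · obtain ⟨n, rfl⟩ := pow_of_mem_zpowers hd.e3 ha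
        exact ⟨n, 0, by simp⟩
      · obtain ⟨n, rfl⟩ := pow_of_mem_zpowers hd.u3 ha
        exact ⟨0, n, by simp⟩
    | one => exact ⟨0, 0, by simp⟩
    | mul a b _ _ ha hb =>
      obtain ⟨i, j, rfl⟩ := ha
      obtain ⟨k, l, rfl⟩ := hb
      refine ⟨i + k, j + l, ?_⟩
      rw [pow_add, pow_add, mul_assoc, ← mul_assoc (d.u ^ j),
        ← (hd.comm_eu.pow_pow k j).eq]
      simp [mul_assoc]
    | inv a _ ha =>
      obtain ⟨i, j, rfl⟩ := ha
      refine ⟨2 * i, 2 * j, inv_eq_of_mul_eq_one_right ?_⟩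
      rw [mul_assoc, ← mul_assoc (d.u ^ j), ← (hd.comm_eu.pow_pow (2 * i) j).eq, mul_assoc,
        ← mul_assoc, ← pow_add, ← pow_add, show i + 2 * i = 3 * i by ring,
        show j + 2 * j = 3 * j by ring, pow_mul, pow_mul, hd.e3, hd.u3]
      simp
  obtain ⟨i, j, rfl⟩ := key
  refine ⟨i % 3, j % 3, Nat.mod_lt _ (by norm_num), Nat.mod_lt _ (by norm_num), ?_⟩
  rw [pow_eq_pow_mod i hd.e3, pow_eq_pow_mod j hd.u3]

theorem W_comm {a b : X} (ha : a ∈ W d) (hb : b ∈ W d) : Commute a b := by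
  obtain ⟨i, j, -, -, rfl⟩ := hd.mem_W ha
  obtain ⟨k, l, -, -, rfl⟩ := hd.mem_W hb
  exact Commute.mul_left
    (((Commute.refl d.e).pow_pow i k).mul_right (hd.comm_eu.pow_pow i l))
    ((hd.comm_eu.symm.pow_pow j k).mul_right ((Commute.refl d.u).pow_pow j l))

theorem W_cube {a : X} (ha : a ∈ W d) : a ^ 3 = 1 := by
  obtain ⟨i, j, -, -, rfl⟩ := hd.mem_W ha
  rw [(hd.comm_eu.pow_pow i j).mul_pow, ← pow_mul, ← pow_mul, mul_comm i, mul_comm j, pow_mul,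
    pow_mul, hd.e3, hd.u3]
  simp

theorem W_isPGroup : IsPGroup 3 (W d) := fun a => ⟨1, Subtype.ext (by simpa using hd.W_cube a.2)⟩

theorem e_not_u : d.e ∉ zpowers d.u := fun h => by
  obtain ⟨n, hn⟩ := pow_of_mem_zpowers hd.u3 h
  have h2 : d.u ^ (n % 3) = d.e := by rw [← pow_eq_pow_mod n hd.u3]; exact hn.symm
  have h3 : n % 3 < 3 := Nat.mod_lt _ (by norm_num)
  interval_cases hm : n % 3
  · exact hd.e_ne (by simpa using h2.symm)
  · exact hd.indep (by rw [← h2]; simpa using mem_zpowers d.u)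
  · refine hd.indep ?_
    rw [show d.u = d.e ^ 2 by rw [← h2, ← pow_mul, pow_succ, hd.u3, one_mul]]
    exact pow_mem (mem_zpowers _) 2

theorem pow_mem_u {i j : ℕ} (h : d.e ^ i * d.u ^ j ∈ zpowers d.u) : i % 3 = 0 := by
  have h1 : d.e ^ i ∈ zpowers d.u :=
    ((zpowers d.u).mul_mem_cancel_right (pow_mem (mem_zpowers _) j)).1 h
  rw [pow_eq_pow_mod i hd.e3] at h1
  have h2 : i % 3 < 3 := Nat.mod_lt _ (by norm_num)
  interval_cases hi : i % 3
  · rfl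
  · exact absurd (by simpa using h1) hd.e_not_u
  · refine absurd ?_ hd.e_not_u
    have := pow_mem h1 2
    rwa [← pow_mul, show 2 * 2 = 3 + 1 from rfl, pow_succ, hd.e3, one_mul] at this

theorem r_conj (i j : ℕ) : d.r * (d.e ^ i * d.u ^ j) * d.r⁻¹ = d.e ^ (2 * i) * d.u ^ j := by
  rw [show d.r * (d.e ^ i * d.u ^ j) * d.r⁻¹ = d.r * d.e ^ i * d.r⁻¹ * (d.r * d.u ^ j * d.r⁻¹) by group,
    ← conj_pow, ← conj_pow, hd.r_inv, hd.re, hd.ru, mul_assoc d.u, hd.rr, mul_one, hd.e_inv, ← pow_mul]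

theorem s_conj (i j : ℕ) : d.s * (d.e ^ i * d.u ^ j) * d.s⁻¹ = d.e ^ i * d.u ^ (2 * j) := by
  rw [show d.s * (d.e ^ i * d.u ^ j) * d.s⁻¹ = d.s * d.e ^ i * d.s⁻¹ * (d.s * d.u ^ j * d.s⁻¹) by group,
    ← conj_pow, ← conj_pow, hd.s_inv, hd.su, hd.se, mul_assoc d.e, hd.ss, mul_one, hd.u_inv, ← pow_mul]

omit hd in
theorem mem_normalizer_of_conj {t : X} (ht : t * t = 1) (h : ∀ a ∈ W d, t * a * t⁻¹ ∈ W d) :
    t ∈ normalizer (W d : Set X) := by
  rw [mem_normalizer_iff]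
  refine fun a => ⟨h a, fun ha => ?_⟩
  have := h _ ha
  rwa [show t * (t * a * t⁻¹) * t⁻¹ = t * t * a * (t * t)⁻¹ by group, ht, one_mul, inv_one,
    mul_one] at this

theorem r_norm : d.r ∈ normalizer (W d : Set X) := mem_normalizer_of_conj hd.rr fun a ha => by
  obtain ⟨i, j, -, -, rfl⟩ := hd.mem_W ha
  rw [hd.r_conj]
  exact mul_mem (pow_mem e_mem _) (pow_mem u_mem _)

theorem s_norm : d.s ∈ normalizer (W d : Set X) := mem_normalizer_of_conj hd.ss fun a ha => by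
  obtain ⟨i, j, -, -, rfl⟩ := hd.mem_W ha
  rw [hd.s_conj]
  exact mul_mem (pow_mem e_mem _) (pow_mem u_mem _)

omit hd in
theorem pow_two_two (g : X) (h : g ^ 3 = 1) : g ^ (2 * 2) = g := by
  rw [show 2 * 2 = 3 + 1 from rfl, pow_succ, h, one_mul]

/-- The vectors outside the fixed line are conjugate to `e` or to `e u`. -/
theorem normal_form {w : X} (hw : w ∈ W d) (hn : w ∉ zpowers d.u) :
    ∃ c ∈ normalizer (W d : Set X), c * w * c⁻¹ = d.e ∨ c * w * c⁻¹ = d.e * d.u := by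
  obtain ⟨i, j, hi, hj, rfl⟩ := hd.mem_W hw
  have hi0 : i ≠ 0 := by
    rintro rfl
    exact hn (by simpa using pow_mem (mem_zpowers d.u) j)
  have e1 := pow_two_two d.e hd.e3
  have u1 := pow_two_two d.u hd.u3
  interval_cases i <;> interval_cases j <;> first | exact absurd rfl hi0 | skip
  · exact ⟨1, one_mem _, Or.inl (by simp)⟩
  · exact ⟨1, one_mem _, Or.inr (by simp)⟩
  · exact ⟨d.s, hd.s_norm, Or.inr (by rw [hd.s_conj, u1, pow_one])⟩
  · exact ⟨d.r, hd.r_norm, Or.inl (by rw [hd.r_conj, e1, pow_zero, mul_one])⟩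
  · exact ⟨d.r, hd.r_norm, Or.inr (by rw [hd.r_conj, e1, pow_one])⟩
  · refine ⟨d.r * d.s, mul_mem hd.r_norm hd.s_norm, Or.inr ?_⟩
    rw [show d.r * d.s * (d.e ^ 2 * d.u ^ 2) * (d.r * d.s)⁻¹ =
      d.r * (d.s * (d.e ^ 2 * d.u ^ 2) * d.s⁻¹) * d.r⁻¹ by group, hd.s_conj, hd.r_conj, e1, u1]

theorem card_cent_u_le [Finite X] : Nat.card (centralizer ({d.u} : Set X)) ≤ 18 := by
  let f : Fin 3 × Fin 3 × Fin 2 → X := fun p =>
    d.e ^ (p.1 : ℕ) * d.u ^ (p.2.1 : ℕ) * d.r ^ (p.2.2 : ℕ)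
  have hsub : (centralizer ({d.u} : Set X) : Set X) ⊆ Set.range f := by
    intro g hg
    obtain ⟨i, j, k, rfl⟩ := hd.cent_u g (mem_centralizer_singleton_iff.1 hg)
    refine ⟨(⟨i % 3, Nat.mod_lt _ (by norm_num)⟩, ⟨j % 3, Nat.mod_lt _ (by norm_num)⟩, k), ?_⟩
    show d.e ^ (i % 3) * d.u ^ (j % 3) * _ = _
    rw [← pow_eq_pow_mod i hd.e3, ← pow_eq_pow_mod j hd.u3]
  calc Nat.card (centralizer ({d.u} : Set X))
      = (centralizer ({d.u} : Set X) : Set X).ncard := Nat.card_coe_set_eq _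
    _ ≤ (Set.range f).ncard := Set.ncard_le_ncard hsub (Set.toFinite _)
    _ ≤ Nat.card (Fin 3 × Fin 3 × Fin 2) := Finite.card_range_le f
    _ = 18 := by simp

theorem card_cent_e : Nat.card (centralizer ({d.e} : Set X)) = 72 := by
  obtain ⟨f, hf⟩ := hd.cent_e
  rw [Nat.card_eq_of_bijective f hf, Nat.card_prod, Nat.card_perm, Nat.card_fin]
  simp [Nat.factorial]

theorem card_cent_a : Nat.card (centralizer ({d.e * d.u} : Set X)) = 36 := by
  obtain ⟨f, hf⟩ := hd.cent_a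
  rw [Nat.card_eq_of_bijective f hf, Nat.card_prod, nat_card_alternatingGroup, Nat.card_fin]
  simp [Nat.factorial]

theorem card_cent_W {w : X} (hw : w ∈ W d) (hn : w ∉ zpowers d.u) :
    Nat.card (centralizer ({w} : Set X)) = 72 ∨ Nat.card (centralizer ({w} : Set X)) = 36 := by
  obtain ⟨c, -, h | h⟩ := hd.normal_form hw hn
  · left; rw [← card_centralizer_conj c w, h, hd.card_cent_e]
  · right; rw [← card_centralizer_conj c w, h, hd.card_cent_a]

theorem u_mem_cent_e : d.u ∈ centralizer ({d.e} : Set X) :=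
  mem_centralizer_singleton_iff.2 hd.eu.symm

theorem u_mem_cent_a : d.u ∈ centralizer ({d.e * d.u} : Set X) :=
  mem_centralizer_singleton_iff.2 (hd.W_comm u_mem (mul_mem e_mem u_mem)).eq

theorem tau_ne [Finite X] {y : X} {f : centralizer ({y} : Set X) →* M3 × P4}
    (hf : Function.Injective f) (hcard : 18 < Nat.card (centralizer ({y} : Set X)))
    (hu : d.u ∈ centralizer ({y} : Set X)) : (f ⟨d.u, hu⟩).2 ≠ 1 := by
  intro h
  have hle : centralizer ({y} : Set X) ≤ centralizer ({d.u} : Set X) := fun g hg => by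
    rw [mem_centralizer_singleton_iff]
    have e : (⟨g, hg⟩ : centralizer ({y} : Set X)) * ⟨d.u, hu⟩ = ⟨d.u, hu⟩ * ⟨g, hg⟩ := hf (by
      rw [map_mul, map_mul]
      exact Prod.ext (mul_comm _ _) (by simp [h]))
    exact congrArg Subtype.val e
  have := card_le_of_le hle
  have := hd.card_cent_u_le
  omega

/-- The data at `e`. -/
theorem four_e [Finite X] : Nonempty (FourData d.e d.u) := by
  obtain ⟨f, hf⟩ := hd.cent_e
  exact ⟨⟨f, hf.1, fun σ _ => hf.2 _, hd.u_mem_cent_e,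
    hd.tau_ne hf.1 (by rw [hd.card_cent_e]; norm_num) _, hd.u3⟩⟩

/-- The data at `e u`. -/
theorem four_a [Finite X] : ∃ D : FourData (d.e * d.u) d.u,
    ∀ g, g ∈ centralizer ({d.e * d.u} : Set X) → g * g = 1 → D.InV g := by
  obtain ⟨f, hf⟩ := hd.cent_a
  let ι : M3 × alternatingGroup (Fin 4) →* M3 × P4 :=
    MonoidHom.prodMap (MonoidHom.id M3) (alternatingGroup (Fin 4)).subtype
  have hι : Function.Injective ι := fun a b h => by
    have h1 := congrArg Prod.fst h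
    have h2 := congrArg Prod.snd h
    simp only [ι, MonoidHom.prodMap_def, MonoidHom.prod_apply, MonoidHom.comp_apply] at h1 h2
    exact Prod.ext h1 (Subtype.ext h2)
  refine ⟨⟨ι.comp f, hι.comp hf.1, fun σ hσ => ?_, hd.u_mem_cent_a,
    hd.tau_ne (hι.comp hf.1) (by rw [hd.card_cent_a]; norm_num) _, hd.u3⟩, fun g hg h2 => ?_⟩
  · obtain ⟨g, hg⟩ := hf.2 (1, ⟨σ, Equiv.Perm.mem_alternatingGroup.2 (isV_sign σ hσ)⟩)
    exact ⟨g, by rw [MonoidHom.comp_apply, hg]; rfl⟩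
  · have e : ι (f ⟨g, hg⟩) * ι (f ⟨g, hg⟩) = 1 := by
      rw [← map_mul, ← map_mul, show (⟨g, hg⟩ : centralizer ({d.e * d.u} : Set X)) * ⟨g, hg⟩ = 1
        from Subtype.ext h2, map_one, map_one]
    refine ⟨hg, ?_, isV_alt _ (f ⟨g, hg⟩).2.2 (congrArg Prod.snd e)⟩
    have key : ∀ k : M3, k * k = 1 → k = 1 := by decide
    exact key _ (congrArg Prod.fst e)

end CentTwo

end Cfsg.Agent.Sp6Local
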