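import Cfsg.Agent.Sp6Local.CentTwoBase
import Cfsg.Agent.PSp43Amalgam.SThreeSq
import Cfsg.Agent.Char.SectionIntegral

/-!
# An exceptional generalised character of the centraliser of the involution

The function with value three on the elements whose three-part is conjugate into the Sylow subgroup
outside the line of `u`, and zero elsewhere.  It is a generalised character by the characterisation of
Brauer, its norm is three and it avoids the products of two conjugates of `s`.
-/

set_option autoImplicit false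

namespace Cfsg.Agent.Sp6Local

open Subgroup
open scoped ComplexConjugate

universe u

theorem eight_perm : Nat.card {σ : P4 // σ ^ 8 = 1} = 16 := by
  rw [Nat.card_eq_fintype_card, Fintype.card_subtype]
  decide +kernel

theorem eight_alt : Nat.card {σ : alternatingGroup (Fin 4) // σ ^ 8 = 1} = 4 := by
  rw [Nat.card_eq_fintype_card, Fintype.card_subtype]
  decide +kernel

/-- The elements of order prime to three of a group split by a line. -/
theorem card_coprime_of_bij {X : Type u} [Group X] [Finite X] {Q : Type} [Group Q] [Finite Q] {y : X}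
    (f : centralizer ({y} : Set X) →* M3 × Q) (hf : Function.Bijective f)
    (hQ : Nat.card Q ∣ 3 * 8) :
    Nat.card {v : X // v * y = y * v ∧ (orderOf v).Coprime 3} = Nat.card {σ : Q // σ ^ 8 = 1} := by
  have hord : ∀ g : centralizer ({y} : Set X), orderOf (g : X) = orderOf (f g) := fun g => by
    rw [orderOf_injective f hf.1 g, Subgroup.orderOf_coe]
  have hfwd : ∀ g : centralizer ({y} : Set X), (orderOf (g : X)).Coprime 3 →
      (f g).1 = 1 ∧ (f g).2 ^ 8 = 1 := by
    intro g hg
    rw [hord g] at hg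
    constructor
    · have h1 : orderOf (f g).1 ∣ 3 := by
        have := orderOf_dvd_natCard (f g).1
        simpa [Nat.card_zmod] using this
      exact orderOf_eq_one_iff.1
        ((hg.coprime_dvd_left (orderOf_map_dvd (MonoidHom.fst M3 Q) _)).eq_one_of_dvd h1)
    · refine orderOf_dvd_iff_pow_eq_one.1
        ((hg.coprime_dvd_left (orderOf_map_dvd (MonoidHom.snd M3 Q) _)).dvd_of_dvd_mul_left ?_)
      exact (_root_.orderOf_dvd_natCard _).trans hQ
  let F : {v : X // v * y = y * v ∧ (orderOf v).Coprime 3} → {σ : Q // σ ^ 8 = 1} := fun v =>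
    ⟨(f ⟨v.1, mem_centralizer_singleton_iff.2 v.2.1⟩).2, (hfwd _ v.2.2).2⟩
  refine Nat.card_eq_of_bijective F ⟨fun v w h => ?_, fun σ => ?_⟩
  · have e : f ⟨v.1, mem_centralizer_singleton_iff.2 v.2.1⟩ =
        f ⟨w.1, mem_centralizer_singleton_iff.2 w.2.1⟩ :=
      Prod.ext (((hfwd _ v.2.2).1).trans (hfwd _ w.2.2).1.symm) (congrArg Subtype.val h)
    have e' := congrArg Subtype.val (hf.1 e)
    exact Subtype.ext e'
  · obtain ⟨g, hg⟩ := hf.2 (1, σ.1)
    have h8 : orderOf (g : X) ∣ 8 := by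
      rw [hord g, hg]
      refine orderOf_dvd_of_pow_eq_one (Prod.ext ?_ ?_)
      · simp
      · simpa using σ.2
    refine ⟨⟨g, mem_centralizer_singleton_iff.1 g.2,
      (show Nat.Coprime 8 3 by norm_num).coprime_dvd_left h8⟩, Subtype.ext ?_⟩
    show (f g).2 = σ.1
    rw [hg]

/-- A class has index-many elements. -/
theorem card_class {X : Type u} [Group X] [Finite X] (x : X) :
    Nat.card {z : X // IsConj x z} * Nat.card (centralizer ({x} : Set X)) = Nat.card X := by
  set C := centralizer ({x} : Set X)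
  let F : X ⧸ C → {z : X // IsConj x z} := fun q =>
    Quotient.liftOn' q (fun g => ⟨g * x * g⁻¹, isConj_iff.2 ⟨g, rfl⟩⟩) (by
      intro a b h
      rw [QuotientGroup.leftRel_apply] at h
      have h' := mem_centralizer_singleton_iff.1 h
      refine Subtype.ext ?_
      show a * x * a⁻¹ = b * x * b⁻¹
      calc a * x * a⁻¹ = a * (x * (a⁻¹ * b)) * b⁻¹ := by group
        _ = a * ((a⁻¹ * b) * x) * b⁻¹ := by rw [h']
        _ = b * x * b⁻¹ := by group)
  have hF : Function.Bijective F := by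
    refine ⟨fun p q => ?_, fun z => ?_⟩
    · induction p using QuotientGroup.induction_on with
      | H a =>
        induction q using QuotientGroup.induction_on with
        | H b =>
          intro h
          have h' : a * x * a⁻¹ = b * x * b⁻¹ := congrArg Subtype.val h
          rw [QuotientGroup.eq, mem_centralizer_singleton_iff]
          calc a⁻¹ * b * x = a⁻¹ * (b * x * b⁻¹) * b := by group
            _ = a⁻¹ * (a * x * a⁻¹) * b := by rw [h']
            _ = x * (a⁻¹ * b) := by group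
    · obtain ⟨g, hg⟩ := isConj_iff.1 z.2
      exact ⟨(g : X ⧸ C), Subtype.ext hg⟩
  rw [← Nat.card_eq_of_bijective F hF, ← card_eq_card_quotient_mul_card_subgroup]

/-- Membership of the three-parts in the exceptional classes. -/
def CentTwoData.Exc {X : Type u} [Group X] (d : CentTwoData X) (x : X) : Prop :=
  ∃ k : X, k * x * k⁻¹ ∈ CentTwo.W d ∧ k * x * k⁻¹ ∉ zpowers d.u

namespace CentTwo

variable {X : Type u} [Group X] {d : CentTwoData X} (hd : CentTwo d)
include hd

omit hd in
theorem exc_conj {x : X} (c : X) : d.Exc (c * x * c⁻¹) ↔ d.Exc x := by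
  constructor
  · rintro ⟨k, h1, h2⟩
    refine ⟨k * c, ?_, ?_⟩ <;> rw [show k * c * x * (k * c)⁻¹ = k * (c * x * c⁻¹) * k⁻¹ by group]
    exacts [h1, h2]
  · rintro ⟨k, h1, h2⟩
    refine ⟨k * c⁻¹, ?_, ?_⟩ <;> rw [show k * c⁻¹ * (c * x * c⁻¹) * (k * c⁻¹)⁻¹ = k * x * k⁻¹ by group]
    exacts [h1, h2]

theorem exc_W [Finite X] {w : X} (hw : w ∈ W d) : d.Exc w ↔ w ∉ zpowers d.u := by
  refine ⟨fun ⟨k, h1, h2⟩ hu => ?_, fun h => ⟨1, by simpa using hw, by simpa using h⟩⟩
  obtain ⟨n, rfl⟩ := pow_of_mem_zpowers hd.u3 hu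
  have hc := hd.card_cent_W h1 h2
  rw [card_centralizer_conj] at hc
  rw [pow_eq_pow_mod n hd.u3] at hc h2
  have hn : n % 3 < 3 := Nat.mod_lt _ (by norm_num)
  have h18 := hd.card_cent_u_le
  interval_cases hm : n % 3
  · exact h2 (by simp)
  · rw [pow_one] at hc; omega
  · have e : centralizer ({d.u ^ 2} : Set X) = centralizer ({d.u} : Set X) := by
      ext g
      rw [mem_centralizer_singleton_iff, mem_centralizer_singleton_iff]
      constructor <;> intro h
      · have := (show Commute g (d.u ^ 2) from h).pow_right 2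
        rwa [← pow_mul, show 2 * 2 = 3 + 1 from rfl, pow_succ, hd.u3, one_mul] at this
      · exact (show Commute g d.u from h).pow_right 2
    rw [e] at hc; omega

theorem exc_normal {x : X} (h : d.Exc x) : ∃ c : X, c * x * c⁻¹ = d.e ∨ c * x * c⁻¹ = d.e * d.u := by
  obtain ⟨k, h1, h2⟩ := h
  obtain ⟨c, -, hc⟩ := hd.normal_form h1 h2
  refine ⟨c * k, ?_⟩
  rwa [show c * k * x * (c * k)⁻¹ = c * (k * x * k⁻¹) * c⁻¹ by group]

theorem exc_cube {x : X} (h : d.Exc x) : x ^ 3 = 1 := by
  obtain ⟨k, h1, -⟩ := h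
  have := hd.W_cube h1
  rw [conj_pow] at this
  exact conj_eq_one_iff.1 this

theorem exc_e : d.Exc d.e :=
  ⟨1, by simpa using e_mem, by simpa using hd.e_not_u⟩

theorem eu_not_u : d.e * d.u ∉ zpowers d.u := fun h =>
  hd.e_not_u ((zpowers d.u).mul_mem_cancel_right (mem_zpowers _) |>.1 h)

theorem exc_a : d.Exc (d.e * d.u) :=
  ⟨1, by simpa using mul_mem e_mem u_mem, by simpa using hd.eu_not_u⟩

omit hd in
/-- Conjugates of `s` are involutions inverting nothing exceptional. -/
theorem not_inv (hd : CentTwo d) {x p : X} (hx : d.Exc x) (hp : IsConj d.s p) :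
    p * x * p⁻¹ ≠ x⁻¹ := by
  intro h
  obtain ⟨a, rfl⟩ := isConj_iff.1 hp
  obtain ⟨c, hc⟩ := hd.exc_normal hx
  set i := c * (a * d.s * a⁻¹) * c⁻¹ with hi
  have hii : i * i = 1 := by
    rw [hi, show c * (a * d.s * a⁻¹) * c⁻¹ * (c * (a * d.s * a⁻¹) * c⁻¹) =
      c * a * (d.s * d.s) * (c * a)⁻¹ by group, hd.ss]
    group
  have hconj : IsConj d.s i := isConj_iff.2 ⟨c * a, by rw [hi]; group⟩
  have hinv : i * (c * x * c⁻¹) * i = (c * x * c⁻¹)⁻¹ := by
    nth_rw 2 [← inv_eq_of_mul_eq_one_right hii]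
    rw [hi, show c * (a * d.s * a⁻¹) * c⁻¹ * (c * x * c⁻¹) * (c * (a * d.s * a⁻¹) * c⁻¹)⁻¹ =
      c * ((a * d.s * a⁻¹) * x * (a * d.s * a⁻¹)⁻¹) * c⁻¹ by group, h]
    group
  rcases hc with e | e <;> rw [e] at hinv
  · exact hd.inv_e i hii hinv hconj
  · exact hd.inv_a i hii hinv hconj

/-- The value of the exceptional function. -/
theorem exists_character [Fintype X] :
    ∃ F : X → ℂ, Cfsg.IsGeneralizedCharacter X F ∧ Cfsg.classInner F (fun _ => (1 : ℂ)) = 1 ∧
      Cfsg.classInner F F = 3 ∧ (∀ g : X, g * g = 1 → F g = 0) ∧ F d.e = 3 ∧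
      ∀ a : X, F (a * d.s * a⁻¹ * d.s) = 0 := by
  classical
  obtain ⟨k, m, hm, hX⟩ := Nat.exists_eq_pow_mul_and_not_dvd (Nat.card_pos (α := X)).ne' 3 (by norm_num)
  have hk : k ≠ 0 := by
    rintro rfl
    refine hm ?_
    have h := hd.he ▸ orderOf_dvd_natCard d.e
    rwa [hX, pow_zero, one_mul] at h
  have hmn : Nat.card X ∣ m * 3 ^ k := dvd_of_eq (by rw [hX, mul_comm])
  have hcop : m.Coprime (3 ^ k) := ((Nat.prime_three.coprime_iff_not_dvd.2 hm).symm).pow_right k
  obtain ⟨a, b, hab, hb⟩ := Char.exists_component hmn hcop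
  have c3 : ∀ {n : ℕ}, n.Coprime (3 ^ k) ↔ n.Coprime 3 := fun {n} =>
    Nat.coprime_pow_right_iff (Nat.pos_of_ne_zero hk) n 3
  have hexc_m : ∀ {x : X}, d.Exc x → (orderOf x).Coprime m := fun {x} hx =>
    (Nat.prime_three.coprime_iff_not_dvd.2 hm).coprime_dvd_left
      (orderOf_dvd_of_pow_eq_one (hd.exc_cube hx))
  have one_not : ¬ d.Exc 1 := fun h => by
    rw [hd.exc_W (one_mem _)] at h
    exact h (one_mem _)
  set F : X → ℂ := fun g => if d.Exc (g ^ b) then 3 else 0 with hF
  have hFcls : Cfsg.IsClassFunction X F := fun g c => by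
    simp only [F, conj_pow, exc_conj]
  have hgen : Cfsg.IsGeneralizedCharacter X F := by
    refine Char.isGeneralized_of_elementary hFcls fun E p hp hE => ?_
    have : Fintype E := Fintype.ofFinite E
    have := Char.IsElementary.isNilpotent hp hE
    have hmnE : Nat.card E ∣ m * 3 ^ k := (card_subgroup_dvd_card E).trans hmn
    let V : Subgroup E := Char.coprimeSub (G := E) m
    let U : Subgroup E := Char.coprimeSub (G := E) (3 ^ k)
    have hV : Nat.card V ∣ 3 ^ k :=
      (Char.card_coprimeSub m).dvd_of_dvd_mul_left ((card_subgroup_dvd_card V).trans hmnE)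
    have hU : Nat.card U ∣ m :=
      (Char.card_coprimeSub (3 ^ k)).dvd_of_dvd_mul_right ((card_subgroup_dvd_card U).trans hmnE)
    obtain ⟨j, -, hj⟩ := (Nat.dvd_prime_pow Nat.prime_three).1 hV
    have hVp : IsPGroup 3 (V.map E.subtype) := (IsPGroup.of_card hj).map _
    obtain ⟨c, hc⟩ := hd.cover _ hVp
    have hmemV : ∀ x : E, x ^ b ∈ V := fun x => by
      rw [Char.mem_coprimeSub, ← Subgroup.orderOf_coe, Subgroup.coe_pow]
      exact (hab x).2.2
    have hmemU : ∀ x : E, x ^ a ∈ U := fun x => by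
      rw [Char.mem_coprimeSub, ← Subgroup.orderOf_coe, Subgroup.coe_pow]
      exact (hab x).2.1
    have hcw : ∀ x : E, c * ((x : X) ^ b) * c⁻¹ ∈ W d := fun x => by
      refine hc _ ⟨x ^ b, hmemV x, ?_⟩
      simp
    have hmul : ∀ x y : E, ((x * y : E) : X) ^ b = (x : X) ^ b * (y : X) ^ b := by
      intro x y
      have hUV : (Nat.card U).Coprime (Nat.card V) :=
        (hcop.coprime_dvd_left hU).coprime_dvd_right hV
      have hcm : Commute (x ^ b) (y ^ a) :=
        (Core.commute_of_coprime hUV (hmemU y) (hmemV x)).symm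
      have hcomm : Commute (x ^ a * y ^ a) (x ^ b * y ^ b) :=
        Core.commute_of_coprime hUV (mul_mem (hmemU x) (hmemU y)) (mul_mem (hmemV x) (hmemV y))
      have e : x * y = (x ^ a * y ^ a) * (x ^ b * y ^ b) := by
        have hx : x ^ a * x ^ b = x := Subtype.ext (by simpa using (hab (x : X)).1)
        have hy : y ^ a * y ^ b = y := Subtype.ext (by simpa using (hab (y : X)).1)
        calc x * y = x ^ a * (x ^ b * y ^ a) * y ^ b := by
              conv_lhs => rw [← hx, ← hy]
              group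
          _ = x ^ a * (y ^ a * x ^ b) * y ^ b := by rw [hcm.eq]
          _ = _ := by group
      rw [e, Subgroup.coe_mul, hb _ _ (show Commute ((x ^ a * y ^ a : E) : X) ((x ^ b * y ^ b : E) : X)
        from hcomm.map E.subtype) ?_ ?_]
      · simp
      · rw [Subgroup.orderOf_coe]
        exact (mul_mem (hmemU x) (hmemU y) : x ^ a * y ^ a ∈ U)
      · rw [Subgroup.orderOf_coe]
        exact (mul_mem (hmemV x) (hmemV y) : x ^ b * y ^ b ∈ V)
    let π : E →* W d := MonoidHom.mk' (fun x => ⟨_, hcw x⟩) fun x y => Subtype.ext (by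
      show c * ((x * y : E) : X) ^ b * c⁻¹ = c * (x : X) ^ b * c⁻¹ * (c * (y : X) ^ b * c⁻¹)
      rw [hmul]; group)
    set UW := (zpowers d.u).subgroupOf (W d) with hUW
    have hUn : UW.Normal := ⟨fun n hn g => by
      rw [hUW, mem_subgroupOf] at hn ⊢
      rw [Subgroup.coe_mul, Subgroup.coe_mul, Subgroup.coe_inv, (hd.W_comm g.2 n.2).eq,
        mul_inv_cancel_right]
      exact hn⟩
    set q := QuotientGroup.mk' UW with hq
    let eW : W d := ⟨d.e, e_mem⟩
    have hgenq : ∀ x : W d ⧸ UW, x ∈ zpowers (q eW) := by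
      intro x
      obtain ⟨⟨w, hw⟩, rfl⟩ := QuotientGroup.mk'_surjective UW x
      obtain ⟨i, j, -, -, rfl⟩ := hd.mem_W hw
      have e : (⟨d.e ^ i * d.u ^ j, hw⟩ : W d) = eW ^ i * ⟨d.u ^ j, pow_mem u_mem j⟩ := Subtype.ext rfl
      rw [e, map_mul, map_pow, show q ⟨d.u ^ j, pow_mem u_mem j⟩ = 1 from
        (QuotientGroup.eq_one_iff _).2 (by rw [hUW, mem_subgroupOf]; exact pow_mem (mem_zpowers _) j),
        mul_one]
      exact pow_mem (mem_zpowers _) i
    have hord : orderOf (q eW) = 3 := by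
      have : Fact (Nat.Prime 3) := ⟨Nat.prime_three⟩
      refine orderOf_eq_prime ?_ fun e => hd.e_not_u ?_
      · rw [← map_pow, show eW ^ 3 = 1 from Subtype.ext hd.e3, map_one]
      · rw [hq, QuotientGroup.mk'_apply, QuotientGroup.eq_one_iff, hUW, mem_subgroupOf] at e
        exact e
    obtain ⟨ω, hω3, hω1⟩ : ∃ ω : ℂˣ, ω ^ 3 = 1 ∧ ω ≠ 1 := by
      have h := Complex.isPrimitiveRoot_exp 3 (by norm_num)
      refine ⟨Units.mk0 _ (h.ne_zero (by norm_num)), Units.ext (by simpa using h.pow_eq_one), fun e => ?_⟩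
      exact h.ne_one (by norm_num) (by simpa using congrArg Units.val e)
    have hωo : orderOf ω ∣ orderOf (q eW) := by rw [hord]; exact orderOf_dvd_of_pow_eq_one hω3
    let μ : W d →* ℂˣ := (monoidHomOfForallMemZpowers hgenq hωo).comp q
    have hμe : μ eW = ω := monoidHomOfForallMemZpowers_apply_gen hgenq hωo
    have hμ3 : ∀ w, μ w ^ 3 = 1 := fun w => by
      rw [← map_pow, show w ^ 3 = 1 from Subtype.ext (hd.W_cube w.2), map_one]
    have hμu : ∀ w : W d, μ w = 1 ↔ (w : X) ∈ zpowers d.u := by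
      intro w
      constructor
      · obtain ⟨i, j, hi, -, hw⟩ := hd.mem_W w.2
        intro h
        have e : w = eW ^ i * ⟨d.u ^ j, pow_mem u_mem j⟩ := Subtype.ext hw
        have hu1 : μ ⟨d.u ^ j, pow_mem u_mem j⟩ = 1 := by
          show (monoidHomOfForallMemZpowers hgenq hωo) (q _) = 1
          rw [show q ⟨d.u ^ j, pow_mem u_mem j⟩ = 1 from (QuotientGroup.eq_one_iff _).2
            (by rw [hUW, mem_subgroupOf]; exact pow_mem (mem_zpowers _) j), map_one]
        rw [e, map_mul, map_pow, hμe, hu1, mul_one] at h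
        rw [hw]
        interval_cases i
        · simpa using pow_mem (mem_zpowers d.u) j
        · exact absurd (by simpa using h) hω1
        · refine absurd ?_ hω1
          have h3 := hω3
          rwa [pow_succ, h, one_mul] at h3
      · intro h
        show (monoidHomOfForallMemZpowers hgenq hωo) (q w) = 1
        rw [show q w = 1 from (QuotientGroup.eq_one_iff _).2 (by rw [hUW, mem_subgroupOf]; exact h), map_one]
    let lam : E →* ℂˣ := μ.comp π
    have hres : (fun x : E => F x) =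
        ((fun _ : E => (1 : ℂ)) + fun _ : E => (1 : ℂ)) - (fun x => ((lam x : ℂˣ) : ℂ)) -
          fun x => (((lam * lam) x : ℂˣ) : ℂ) := by
      funext x
      have hiff : d.Exc ((x : X) ^ b) ↔ lam x ≠ 1 := by
        rw [← exc_conj c, hd.exc_W (hcw x)]
        exact (hμu ⟨_, hcw x⟩).symm.not
      simp only [F, Pi.sub_apply, Pi.add_apply, MonoidHom.mul_apply, Units.val_mul]
      by_cases h1 : lam x = 1
      · rw [if_neg fun h => hiff.1 h h1, h1]; norm_num
      · rw [if_pos (hiff.2 h1)]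
        have h3 : ((lam x : ℂˣ) : ℂ) ^ 3 = 1 := by
          rw [← Units.val_pow_eq_pow_val]; exact congrArg Units.val (hμ3 (π x))
        have h2 : ((lam x : ℂˣ) : ℂ) ≠ 1 := fun e => h1 (Units.ext e)
        have h4 : ((lam x : ℂˣ) : ℂ) ^ 2 + ((lam x : ℂˣ) : ℂ) + 1 = 0 := by
          refine mul_left_cancel₀ (sub_ne_zero.2 h2) ?_
          linear_combination h3
        linear_combination h4
    rw [hres]
    exact Char.isGeneralized_sub (Char.isGeneralized_sub
      (Char.isGeneralized_add (Char.isGeneralized_of_isCharacter Char.isCharacter_one)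
        (Char.isGeneralized_of_isCharacter Char.isCharacter_one))
      (Char.isGeneralized_of_isCharacter (Char.isCharacter_hom lam)))
      (Char.isGeneralized_of_isCharacter (Char.isCharacter_hom (lam * lam)))
  -- the number of exceptional elements
  set S := Finset.univ.filter fun g : X => d.Exc (g ^ b) with hS
  have hfib : ∀ x : X, d.Exc x → (Finset.univ.filter fun g : X => g ^ b = x).card =
      Nat.card {v : X // v * x = x * v ∧ (orderOf v).Coprime 3} := by
    intro x hx
    have hp : ∀ v : {v : X // v * x = x * v ∧ (orderOf v).Coprime 3}, (v.1 * x) ^ b = x := fun v =>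
      hb _ _ v.2.1 (c3.2 v.2.2) (hexc_m hx)
    rw [← Fintype.card_subtype, ← Nat.card_eq_fintype_card]
    symm
    refine Nat.card_eq_of_bijective (fun v => ⟨v.1 * x, hp v⟩) ⟨fun v w h => ?_, fun g => ?_⟩
    · exact Subtype.ext (mul_right_cancel (congrArg Subtype.val h))
    · refine ⟨⟨g.1 ^ a, ?_, c3.1 (hab g.1).2.1⟩, Subtype.ext ?_⟩
      · have h' := ((Commute.refl g.1).pow_pow a b).eq
        rwa [show g.1 ^ b = x from g.2] at h'
      · show g.1 ^ a * x = g.1
        have h' := (hab g.1).1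
        rwa [show g.1 ^ b = x from g.2] at h'
  have hphi : ∀ (c x : X), Nat.card {v : X // v * (c * x * c⁻¹) = c * x * c⁻¹ * v ∧ (orderOf v).Coprime 3} =
      Nat.card {v : X // v * x = x * v ∧ (orderOf v).Coprime 3} := fun c x => by
    refine (Nat.card_congr (Equiv.subtypeEquiv (MulAut.conj c).toEquiv fun v => ?_)).symm
    rw [MulEquiv.toEquiv_eq_coe, MulEquiv.coe_toEquiv, MulEquiv.orderOf_eq]
    refine and_congr_left' ?_
    rw [MulAut.conj_apply, show c * v * c⁻¹ * (c * x * c⁻¹) = c * (v * x) * c⁻¹ by group,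
      show c * x * c⁻¹ * (c * v * c⁻¹) = c * (x * v) * c⁻¹ by group]
    exact ⟨fun h => by rw [h], fun h => mul_left_cancel (mul_right_cancel h)⟩
  obtain ⟨fe, hfe⟩ := hd.cent_e
  obtain ⟨fa, hfa⟩ := hd.cent_a
  have h16 : Nat.card {v : X // v * d.e = d.e * v ∧ (orderOf v).Coprime 3} = 16 := by
    rw [card_coprime_of_bij fe hfe (by rw [Nat.card_perm, Nat.card_fin]; decide), eight_perm]
  have h4 : Nat.card {v : X // v * (d.e * d.u) = d.e * d.u * v ∧ (orderOf v).Coprime 3} = 4 := by
    rw [card_coprime_of_bij fa hfa (by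
      rw [nat_card_alternatingGroup, Nat.card_fin]; decide), eight_alt]
  set A := Finset.univ.filter fun z : X => IsConj d.e z with hA
  set B := Finset.univ.filter fun z : X => IsConj (d.e * d.u) z with hB
  have hAc : A.card * 72 = Nat.card X := by
    rw [hA, ← Fintype.card_subtype, ← Nat.card_eq_fintype_card, ← hd.card_cent_e]
    exact card_class _
  have hBc : B.card * 36 = Nat.card X := by
    rw [hB, ← Fintype.card_subtype, ← Nat.card_eq_fintype_card, ← hd.card_cent_a]
    exact card_class _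
  have hAB : Disjoint A B := Finset.disjoint_left.2 fun z ha hb' => by
    simp only [A, B, Finset.mem_filter, Finset.mem_univ, true_and] at ha hb'
    obtain ⟨c, hc⟩ := isConj_iff.1 (ha.trans hb'.symm)
    have h := card_centralizer_conj c d.e
    rw [hc, hd.card_cent_e, hd.card_cent_a] at h
    norm_num at h
  have hScard : 3 * S.card = Nat.card X := by
    have hmaps : ∀ g ∈ S, g ^ b ∈ A ∪ B := fun g hg => by
      simp only [S, Finset.mem_filter, Finset.mem_univ, true_and] at hg
      obtain ⟨c, hc | hc⟩ := hd.exc_normal hg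
      · exact Finset.mem_union_left _ (by
          simp only [A, Finset.mem_filter, Finset.mem_univ, true_and]
          exact (isConj_iff.2 ⟨c, hc⟩).symm)
      · exact Finset.mem_union_right _ (by
          simp only [B, Finset.mem_filter, Finset.mem_univ, true_and]
          exact (isConj_iff.2 ⟨c, hc⟩).symm)
    have hfil : ∀ {x : X}, d.Exc x → (S.filter fun g => g ^ b = x).card =
        Nat.card {v : X // v * x = x * v ∧ (orderOf v).Coprime 3} := fun {x} hx => by
      rw [← hfib x hx]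
      congr 1
      ext g
      simp only [S, Finset.mem_filter, Finset.mem_univ, true_and, and_iff_right_iff_imp]
      exact fun h => h ▸ hx
    rw [Finset.card_eq_sum_card_fiberwise hmaps, Finset.sum_union hAB]
    have s1 : ∑ x ∈ A, (S.filter fun g => g ^ b = x).card = A.card * 16 := by
      refine Finset.sum_const_nat fun x hx => ?_
      simp only [A, Finset.mem_filter, Finset.mem_univ, true_and] at hx
      obtain ⟨c, rfl⟩ := isConj_iff.1 hx
      rw [hfil ((exc_conj c).2 hd.exc_e), hphi, h16]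
    have s2 : ∑ x ∈ B, (S.filter fun g => g ^ b = x).card = B.card * 4 := by
      refine Finset.sum_const_nat fun x hx => ?_
      simp only [B, Finset.mem_filter, Finset.mem_univ, true_and] at hx
      obtain ⟨c, rfl⟩ := isConj_iff.1 hx
      rw [hfil ((exc_conj c).2 hd.exc_a), hphi, h4]
    rw [s1, s2]
    omega
  have hsum : ∑ g : X, F g = (Nat.card X : ℂ) := by
    simp only [F]
    rw [← Finset.sum_filter, Finset.sum_const, ← hScard, nsmul_eq_mul]
    push_cast
    ring
  have hX0 : (Nat.card X : ℂ) ≠ 0 := Char.card_ne_zero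
  refine ⟨F, hgen, ?_, ?_, fun g hg => ?_, ?_, fun c => ?_⟩
  · rw [Cfsg.classInner]
    simp only [map_one, mul_one]
    rw [hsum, inv_mul_cancel₀ hX0]
  · rw [Cfsg.classInner, show ∑ g : X, F g * conj (F g) = 3 * ∑ g : X, F g from by
      rw [Finset.mul_sum]
      refine Finset.sum_congr rfl fun g _ => ?_
      simp only [F]
      split_ifs <;> simp [Complex.conj_ofNat], hsum]
    field_simp
  · have h2 : (orderOf g).Coprime (3 ^ k) := c3.2
      ((show Nat.Coprime 2 3 by norm_num).coprime_dvd_left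
        (orderOf_dvd_of_pow_eq_one (by rw [sq, hg])))
    have := hb g 1 (Commute.one_right g) h2 (by simp)
    rw [mul_one] at this
    simp only [F, this, if_neg one_not]
  · have := hb 1 d.e (Commute.one_left _) (by simp) (hexc_m hd.exc_e)
    rw [one_mul] at this
    simp only [F, this, if_pos hd.exc_e]
  · simp only [F]
    refine if_neg fun hx => not_inv hd hx (isConj_iff.2 ⟨c, rfl⟩) ?_
    rw [← conj_pow, ← inv_pow]
    congr 1
    have hp : c * d.s * c⁻¹ * (c * d.s * c⁻¹) = 1 := by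
      rw [show c * d.s * c⁻¹ * (c * d.s * c⁻¹) = c * (d.s * d.s) * c⁻¹ by group, hd.ss]; group
    rw [inv_eq_of_mul_eq_one_right hp, mul_inv_rev, hd.s_inv, mul_inv_rev, mul_inv_rev, hd.s_inv, inv_inv,
      show c * d.s * c⁻¹ * (c * d.s * c⁻¹ * d.s) = c * d.s * c⁻¹ * (c * d.s * c⁻¹) * d.s by group, hp,
      one_mul]
    group

/-- A normal subgroup containing `s` and not `e`. -/
theorem exists_kernel [Finite X] : ∃ M : Subgroup X, M.Normal ∧ d.s ∈ M ∧ d.e ∉ M := by
  have : Fintype X := Fintype.ofFinite X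
  obtain ⟨F, hFg, hF1, hFn, hF0, hFe, hFt⟩ := hd.exists_character
  obtain ⟨S, s, hS, hsS, -, -, hexp⟩ := Invol.exists_signed_support hFg (n := 3) (by norm_num) hF1
    (by simpa using hFn)
  obtain ⟨χ₁, χ₂, hne, rfl⟩ := Finset.card_eq_two.1 (show S.card = 2 by omega)
  have hval : ∀ g, F g = 1 + s χ₁ * (χ₁ : X → ℂ) g + s χ₂ * (χ₂ : X → ℂ) g := fun g => by
    rw [← Invol.apply_eq_sum (Char.IsGen.isClassFunction hFg) g, hexp fun χ => (χ : X → ℂ) g,
      Finset.sum_pair hne]
    ring
  have hG : (Nat.card X : ℂ) ≠ 0 := Char.card_ne_zero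
  have e : ∀ χ : IrrCharacter X, (χ : X → ℂ) d.s ^ 2 / (χ : X → ℂ) 1 =
      (Nat.card X : ℂ)⁻¹ * ∑ a, (χ : X → ℂ) (a * d.s * a⁻¹ * d.s) := by
    intro χ
    have h := CharArith.classMult χ.2 d.s d.s
    have h1 := Char.IsIrr.one_ne_zero χ.2
    field_simp
    linear_combination -h
  have hsq : 1 + s χ₁ * ((χ₁ : X → ℂ) d.s ^ 2 / (χ₁ : X → ℂ) 1) +
      s χ₂ * ((χ₂ : X → ℂ) d.s ^ 2 / (χ₂ : X → ℂ) 1) = 0 := by
    have h1 : (1 : ℂ) = (Nat.card X : ℂ)⁻¹ * ∑ _a : X, (1 : ℂ) := by
      rw [Finset.sum_const, Finset.card_univ, nsmul_eq_mul, mul_one, ← Nat.card_eq_fintype_card,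
        inv_mul_cancel₀ hG]
    rw [e χ₁, e χ₂]
    nth_rw 1 [h1]
    rw [mul_left_comm (s χ₁), mul_left_comm (s χ₂), ← mul_add, ← mul_add, Finset.mul_sum,
      Finset.mul_sum, ← Finset.sum_add_distrib, ← Finset.sum_add_distrib,
      Finset.sum_congr rfl fun a _ => (hval (a * d.s * a⁻¹ * d.s)).symm,
      Finset.sum_congr rfl fun a _ => hFt a, Finset.sum_const_zero, mul_zero]
  have h1 := (hval 1).symm.trans (hF0 1 (mul_one 1))
  have h2 := (hval d.s).symm.trans (hF0 d.s hd.ss)
  have hd1 := Char.IsIrr.one_ne_zero χ₁.2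
  have hd2 := Char.IsIrr.one_ne_zero χ₂.2
  have hs1 : s χ₁ ≠ 0 ∧ s χ₂ ≠ 0 := by
    obtain ⟨-, ha⟩ := hsS χ₁ (by simp)
    obtain ⟨-, hb⟩ := hsS χ₂ (by simp)
    constructor
    · rcases ha with ha | ha <;> rw [ha] <;> norm_num
    · rcases hb with hb | hb <;> rw [hb] <;> norm_num
  have hker : (χ₁ : X → ℂ) d.s = (χ₁ : X → ℂ) 1 ∧ (χ₂ : X → ℂ) d.s = (χ₂ : X → ℂ) 1 := by
    have hrw : ∀ χ : IrrCharacter X, (s χ = 1 ∨ s χ = -1) → s χ * ((χ : X → ℂ) d.s ^ 2 / (χ : X → ℂ) 1) =
        (s χ * (χ : X → ℂ) d.s) ^ 2 / (s χ * (χ : X → ℂ) 1) := fun χ h => by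
      rcases h with h | h <;> rw [h] <;> ring
    rw [hrw χ₁ (hsS χ₁ (by simp)).2, hrw χ₂ (hsS χ₂ (by simp)).2] at hsq
    have k1 : (χ₁ : X → ℂ) d.s = (χ₁ : X → ℂ) 1 := mul_left_cancel₀ hs1.1
      (PSp43Amalgam.exceptional_alg (mul_ne_zero hs1.1 hd1) (mul_ne_zero hs1.2 hd2) h1 h2 hsq)
    refine ⟨k1, mul_left_cancel₀ hs1.2 ?_⟩
    rw [k1] at h2
    linear_combination h2 - h1
  have hu' : (χ₁ : X → ℂ) d.e ≠ (χ₁ : X → ℂ) 1 ∨ (χ₂ : X → ℂ) d.e ≠ (χ₂ : X → ℂ) 1 := by
    by_contra hh
    push Not at hh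
    have h3 := (hval d.e).symm.trans hFe
    rw [hh.1, hh.2, h1] at h3
    norm_num at h3
  rcases hu' with h | h
  · exact ⟨Char.kerSubgroup (Char.IsIrr.isCharacter χ₁.2), Char.kerSubgroup_normal _, hker.1, h⟩
  · exact ⟨Char.kerSubgroup (Char.IsIrr.isCharacter χ₂.2), Char.kerSubgroup_normal _, hker.2, h⟩

end CentTwo

end Cfsg.Agent.Sp6Local
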