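import Cfsg.Agent.Sp6Local.Basic

/-!
# Coordinates in the given centraliser

An involution inverting the central quotient of the extraspecial subgroup, and a basis of the elementary
subgroup permuted by that involution and an element of the extraspecial subgroup.
-/

set_option autoImplicit false
set_option synthInstance.maxSize 4000
set_option synthInstance.maxHeartbeats 400000

namespace Cfsg.Agent.Sp6Local

open Subgroup Cfsg.Agent.Sym9ThreeLocal

universe u

open PSp43Amalgam (SL3)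

theorem sl3_minus : ∃ g : SL3, g ^ 4 = 1 ∧ g * g ≠ 1 ∧ ∀ s : SL3, s * s = 1 → s ≠ 1 → s = g * g := by
  decide +kernel

theorem sl3_cube : ∀ Y : SL3, Y ^ 3 = 1 → Y ≠ 1 → ∀ s : SL3, s * s = 1 → s ≠ 1 →
    (∃ X : SL3, (Y * (X * Y * X⁻¹)) ^ 3 = s ∨ (Y * (X * Y * X⁻¹)) ^ 2 = s) ∧ s * Y = Y * s ∧
    (Finset.univ.filter fun X : SL3 => X * Y * X⁻¹ = Y ∨ X * Y * X⁻¹ = Y * Y).card = 6 := by
  decide +kernel

theorem z3_no_root : ∀ z : ZMod 3, z * z + 1 ≠ 0 := by decide

/-- An automorphism of order dividing four of an elementary group of order nine squares to a scalar. -/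
theorem four_scalar {V : Type u} [CommGroup V] [Finite V] (hV : Nat.card V = 9) (h3 : ∀ v : V, v ^ 3 = 1)
    (T : V →* V) (h4 : ∀ v, T (T (T (T v))) = v) :
    (∀ v, T (T v) = v) ∨ ∀ v, T (T v) = v⁻¹ := by
  classical
  haveI : Fact (Nat.Prime 3) := ⟨Nat.prime_three⟩
  set Q : V →* V := T.comp T with hQdef
  have hQ : ∀ v, Q (Q v) = v := h4
  let F : Subgroup V :=
    { carrier := {v | Q v = v}
      one_mem' := map_one Q
      mul_mem' := fun {a b} (ha : Q a = a) (hb : Q b = b) => show Q (a * b) = a * b by rw [map_mul, ha, hb]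
      inv_mem' := fun {a} (ha : Q a = a) => show Q a⁻¹ = a⁻¹ by rw [map_inv, ha] }
  let M : Subgroup V :=
    { carrier := {v | Q v = v⁻¹}
      one_mem' := show Q 1 = 1⁻¹ by rw [map_one, inv_one]
      mul_mem' := fun {a b} (ha : Q a = a⁻¹) (hb : Q b = b⁻¹) => show Q (a * b) = (a * b)⁻¹ by
        rw [map_mul, ha, hb, mul_inv]
      inv_mem' := fun {a} (ha : Q a = a⁻¹) => show Q a⁻¹ = a⁻¹⁻¹ by rw [map_inv, ha] }
  have hsplit : ∀ v : V, v * Q v ∈ F ∧ v * (Q v)⁻¹ ∈ M := fun v => by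
    constructor
    · show Q (v * Q v) = v * Q v
      rw [map_mul, hQ, mul_comm]
    · show Q (v * (Q v)⁻¹) = (v * (Q v)⁻¹)⁻¹
      rw [map_mul, map_inv, hQ, mul_inv_rev, inv_inv, mul_comm]
  have hFM : F ⊓ M = ⊥ := eq_bot_iff.2 fun v ⟨(hf : Q v = v), (hm : Q v = v⁻¹)⟩ => mem_bot.2 (by
    have h2 : v * v = 1 := by nth_rw 2 [← hf]; rw [hm, mul_inv_cancel]
    have := h3 v
    rwa [pow_succ, pow_two, h2, one_mul] at this)
  have hsup : F ⊔ M = ⊤ := eq_top_iff.2 fun v _ => by
    have e : v = (v * Q v * (v * (Q v)⁻¹))⁻¹ := by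
      rw [mul_mul_mul_comm, mul_inv_cancel, mul_one]
      refine eq_inv_of_mul_eq_one_left ?_
      rw [← h3 v, pow_succ, pow_two, mul_comm]
    rw [e]
    exact inv_mem (mul_mem (mem_sup_left (hsplit v).1) (mem_sup_right (hsplit v).2))
  by_cases hM : M = ⊥
  · left
    intro v
    have hm : v ∈ F := by rw [show F = ⊤ by simpa [hM] using hsup]; trivial
    exact hm
  by_cases hF : F = ⊥
  · right
    intro v
    have hm : v ∈ M := by rw [show M = ⊤ by simpa [hF] using hsup]; trivial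
    exact hm
  exfalso
  have hcard : Nat.card M = 3 := by
    obtain ⟨n, hn, e⟩ := (Nat.dvd_prime_pow Nat.prime_three).1
      (show Nat.card M ∣ 3 ^ 2 by have := card_subgroup_dvd_card M; rwa [hV] at this)
    interval_cases n
    · exact absurd (eq_bot_of_card_eq M (by rw [e, pow_zero])) hM
    · rw [e, pow_one]
    · exfalso
      have htop : M = ⊤ := eq_top_of_card_eq _ (by rw [hV, e]; norm_num)
      rw [htop, inf_top_eq] at hFM
      exact hF hFM
  obtain ⟨⟨d, hd⟩, hd1'⟩ := Subgroup.ne_bot_iff_exists_ne_one.1 hM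
  have hd1 : d ≠ 1 := fun e => hd1' (Subtype.ext e)
  have hzp : zpowers d = M := eq_of_le_of_card_ge (zpowers_le.2 hd) (by
    rw [Nat.card_zpowers, hcard, orderOf_eq_prime (h3 d) hd1])
  have hTd : T d ∈ M := by
    show Q (T d) = (T d)⁻¹
    have : Q d = d⁻¹ := hd
    show T (T (T d)) = (T d)⁻¹
    rw [← map_inv]
    exact congrArg T this
  have hfix : Q d = d := by
    rw [← hzp] at hTd
    obtain ⟨i, hi⟩ := mem_zpowers_iff.1 hTd
    have hQd : Q d = d ^ (i * i) := by
      show T (T d) = _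
      rw [← hi, map_zpow, ← hi, ← zpow_mul]
    have hm : Q d = d⁻¹ := hd
    rw [hm] at hQd
    have h1 : d ^ (i * i + 1) = 1 := by rw [zpow_add_one, ← hQd, inv_mul_cancel]
    have h2 : (3 : ℤ) ∣ i * i + 1 := by
      have := orderOf_dvd_iff_zpow_eq_one.2 h1
      rwa [orderOf_eq_prime (h3 d) hd1] at this
    exfalso
    have h5 : ((i : ZMod 3)) * i + 1 = 0 := by
      have := (ZMod.intCast_zmod_eq_zero_iff_dvd (i * i + 1) 3).2 h2
      simpa using this
    exact absurd h5 (z3_no_root _)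
  exact hd1 (mem_bot.1 (hFM ▸ mem_inf.2 ⟨hfix, hd⟩))

variable {G : Type u} [Group G] [Finite G]

/-- The hypotheses on the given centraliser. -/
structure CentHyp (a : G) (R J : Subgroup G) : Prop where
  order : orderOf a = 3
  leR : R ≤ centralizer ({a} : Set G)
  cardR : Nat.card R = 27
  cubeR : ∀ r ∈ R, r ^ 3 = 1
  centerR : ∀ r, r ∈ zpowers a ↔ r ∈ R ∧ ∀ s ∈ R, r * s = s * r
  projX : ∃ f : centralizer ({a} : Set G) →* SL3, Function.Surjective f ∧ ∀ g, f g = 1 ↔ (g : G) ∈ R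
  leJ : J ≤ centralizer ({a} : Set G)
  commJ : ∀ x ∈ J, ∀ y ∈ J, x * y = y * x
  cubeJ : ∀ x ∈ J, x ^ 3 = 1
  cardJ : Nat.card J = 27
  sig : ∀ K : Subgroup G, (Nat.card K).Coprime 3 →
    (∀ j ∈ J, K.map (MulAut.conj j).toMonoidHom = K) → K = ⊥

namespace CentHyp

variable {a : G} {R J : Subgroup G} (h : CentHyp a R J)
include h

theorem a_mem_R : a ∈ R := ((h.centerR a).1 (mem_zpowers a)).1

theorem norm_R {g r : G} (hg : g ∈ centralizer ({a} : Set G)) (hr : r ∈ R) : g * r * g⁻¹ ∈ R := by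
  obtain ⟨f, -, hf⟩ := h.projX
  exact (hf (⟨g, hg⟩ * ⟨r, h.leR hr⟩ * (⟨g, hg⟩ : centralizer ({a} : Set G))⁻¹)).1 (by
    rw [map_mul, map_mul, map_inv, (hf ⟨r, h.leR hr⟩).2 hr, mul_one, mul_inv_cancel])

theorem comm_a {g : G} (hg : g ∈ centralizer ({a} : Set G)) : g * a = a * g :=
  mem_centralizer_singleton_iff.1 hg

/-- Commutators in the extraspecial subgroup are central. -/
theorem comm_center {r s : G} (hr : r ∈ R) (hs : s ∈ R) : r * s * r⁻¹ * s⁻¹ ∈ zpowers a := by
  classical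
  haveI : Fact (Nat.Prime 3) := ⟨Nat.prime_three⟩
  set Z := (zpowers a).subgroupOf R with hZ
  haveI hn : Z.Normal := ⟨fun z hz r => by
    rw [hZ, mem_subgroupOf] at hz ⊢
    show (r : G) * z * (r : G)⁻¹ ∈ zpowers a
    rw [← ((h.centerR _).1 hz).2 r r.2, mul_inv_cancel_right]; exact hz⟩
  have hq : Nat.card (R ⧸ Z) = 3 ^ 2 := by
    have h1 := card_mul_index Z
    rw [Nat.card_congr (subgroupOfEquivOfLe (zpowers_le.2 h.a_mem_R)).toEquiv, Nat.card_zpowers,
      h.order, h.cardR] at h1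
    rw [← index_eq_card]; omega
  haveI : IsMulCommutative (R ⧸ Z) := IsPGroup.isMulCommutative_of_card_eq_prime_sq hq
  have h1 : ((⟨r, hr⟩ * ⟨s, hs⟩ * (⟨r, hr⟩ : R)⁻¹ * (⟨s, hs⟩ : R)⁻¹ : R) : R ⧸ Z) = 1 := by
    simp only [QuotientGroup.mk_mul, QuotientGroup.mk_inv]
    rw [mul_comm' ((⟨r, hr⟩ : R) : R ⧸ Z) ((⟨s, hs⟩ : R) : R ⧸ Z), mul_inv_cancel_right, mul_inv_cancel]
  have h2 := (QuotientGroup.eq_one_iff _).1 h1
  rw [hZ, mem_subgroupOf] at h2
  exact h2

theorem central {z g : G} (hz : z ∈ zpowers a) (hg : g ∈ centralizer ({a} : Set G)) : g * z = z * g := by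
  obtain ⟨i, rfl⟩ := mem_zpowers_iff.1 hz
  exact ((show Commute g a from h.comm_a hg).zpow_right i).eq

/-- An involution of the centraliser inverting the central quotient. -/
theorem exists_invol : ∃ i ∈ centralizer ({a} : Set G), i * i = 1 ∧ ∀ r ∈ R, i * r * i * r ∈ zpowers a := by
  classical
  haveI : Fact (Nat.Prime 3) := ⟨Nat.prime_three⟩
  set C : Subgroup G := centralizer ({a} : Set G) with hC
  obtain ⟨f, hfs, hf⟩ : ∃ f : C →* SL3, Function.Surjective f ∧ ∀ g : C, f g = 1 ↔ (g : G) ∈ R := h.projX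
  obtain ⟨S, hS4, hS2, hSu⟩ := sl3_minus
  obtain ⟨g0, hg0⟩ := hfs S
  have hr4 : ((g0 ^ 4 : C) : G) ∈ R := (hf _).1 (by rw [map_pow, hg0, hS4])
  set g := g0 ^ 27 with hg
  have hg4 : g ^ 4 = 1 := by
    refine Subtype.ext ?_
    rw [hg, ← pow_mul, show 27 * 4 = 4 * 27 from rfl, pow_mul, Subgroup.coe_pow,
      show (27 : ℕ) = 3 * 9 from rfl, pow_mul, h.cubeR _ hr4, one_pow]
    rfl
  have hfg : f (g * g) = S * S := by
    rw [map_mul, hg, map_pow, hg0, show (27 : ℕ) = 4 * 6 + 3 from rfl, pow_add, pow_mul, hS4, one_pow,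
      one_mul, ← pow_add, show 3 + 3 = 4 + 2 from rfl, pow_add, hS4, one_mul, pow_two]
  set i := g * g with hi
  have hi2 : i * i = 1 := by rw [hi, ← hg4]; simp only [pow_succ, pow_zero, one_mul, mul_assoc]
  have hi2G : (i : G) * i = 1 := congrArg Subtype.val hi2
  refine ⟨i, i.2, hi2G, ?_⟩
  -- the action on the quotient
  set Z := (zpowers a).subgroupOf R with hZ
  haveI hn : Z.Normal := ⟨fun z hz r => by
    rw [hZ, mem_subgroupOf] at hz ⊢
    show (r : G) * z * (r : G)⁻¹ ∈ zpowers a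
    rw [h.central hz (h.leR r.2), mul_inv_cancel_right]; exact hz⟩
  have hq : Nat.card (R ⧸ Z) = 9 := by
    have h1 := card_mul_index Z
    rw [Nat.card_congr (subgroupOfEquivOfLe (zpowers_le.2 h.a_mem_R)).toEquiv, Nat.card_zpowers,
      h.order, h.cardR] at h1
    rw [← index_eq_card]; omega
  letI : CommGroup (R ⧸ Z) :=
    { (inferInstance : Group (R ⧸ Z)) with
      mul_comm := fun x y => by
        obtain ⟨r, rfl⟩ := QuotientGroup.mk_surjective x
        obtain ⟨s, rfl⟩ := QuotientGroup.mk_surjective y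
        rw [← QuotientGroup.mk_mul, ← QuotientGroup.mk_mul, QuotientGroup.eq, hZ, mem_subgroupOf]
        have := h.comm_center (inv_mem s.2) (inv_mem r.2)
        simpa [mul_assoc] using this }
  let τ : R →* R := MonoidHom.mk' (fun r => ⟨(g : G) * r * (g : G)⁻¹, h.norm_R g.2 r.2⟩) fun r s =>
    Subtype.ext (by
      show (g : G) * ((r : G) * s) * (g : G)⁻¹ = (g : G) * r * (g : G)⁻¹ * ((g : G) * s * (g : G)⁻¹)
      group)
  let T : R ⧸ Z →* R ⧸ Z := QuotientGroup.map Z Z τ fun z hz => by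
    rw [mem_comap, hZ, mem_subgroupOf]
    show (g : G) * z * (g : G)⁻¹ ∈ zpowers a
    rw [hZ, mem_subgroupOf] at hz
    rw [h.central hz g.2, mul_inv_cancel_right]; exact hz
  have hTT : ∀ r : R, T (T r) = ((⟨(i : G) * r * (i : G)⁻¹, h.norm_R i.2 r.2⟩ : R) : R ⧸ Z) := fun r => by
    show ((τ (τ r) : R) : R ⧸ Z) = _
    refine congrArg _ (Subtype.ext ?_)
    show (g : G) * ((g : G) * r * (g : G)⁻¹) * (g : G)⁻¹ = (g : G) * g * r * ((g : G) * g)⁻¹
    group
  rcases four_scalar hq (fun v => by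
      obtain ⟨r, rfl⟩ := QuotientGroup.mk_surjective v
      rw [← QuotientGroup.mk_pow, show r ^ 3 = 1 from Subtype.ext (h.cubeR r r.2)]; rfl) T (fun v => by
      obtain ⟨r, rfl⟩ := QuotientGroup.mk_surjective v
      rw [hTT, hTT]
      refine congrArg _ (Subtype.ext ?_)
      show (i : G) * ((i : G) * r * (i : G)⁻¹) * (i : G)⁻¹ = r
      have e2 : (i : G) * i = 1 := congrArg Subtype.val hi2
      rw [show (i : G) * ((i : G) * r * (i : G)⁻¹) * (i : G)⁻¹ = (i : G) * i * r * ((i : G) * i)⁻¹ by group, e2]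
      simp) with hid | hinv
  · exfalso
    have hii : (i : G)⁻¹ = i := inv_eq_of_mul_eq_one_right (congrArg Subtype.val hi2)
    have hcent : ∀ r ∈ R, (i : G) * r * (i : G) = r := by
      intro r hr
      have h1 := hid ((⟨r, hr⟩ : R) : R ⧸ Z)
      rw [hTT, QuotientGroup.eq, hZ, mem_subgroupOf] at h1
      have h1' : ((i : G) * r * (i : G)⁻¹)⁻¹ * r ∈ zpowers a := h1
      set z := ((i : G) * r * (i : G)⁻¹)⁻¹ * r with hz
      have hzc := h.central h1' i.2
      have e : (i : G) * r * (i : G) = r * z⁻¹ := by rw [hz, hii]; group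
      have e2 : r = r * (z⁻¹ * z⁻¹) := by
        calc r = (i : G) * i * r * ((i : G) * i) := by rw [hi2G]; simp
          _ = (i : G) * ((i : G) * r * (i : G)) * i := by group
          _ = (i : G) * r * (z⁻¹ * i) := by rw [e]; group
          _ = (i : G) * r * (i * z⁻¹) := by
            rw [((show Commute (i : G) z from hzc).inv_right).eq]
          _ = _ := by rw [← mul_assoc, e, mul_assoc]
      have h2 : z⁻¹ * z⁻¹ = 1 := mul_left_cancel (e2.symm.trans (mul_one r).symm)
      have h3 : z⁻¹ ^ 3 = 1 := by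
        rw [inv_pow, h.cubeR z ((h.centerR z).1 h1').1, inv_one]
      rw [pow_succ, pow_two, h2, one_mul] at h3
      rw [e, h3, mul_one]
    have huniq : ∀ x : C, x * x = 1 → x ≠ 1 → x = i := by
      intro x hx hx1
      have hfx : f x ≠ 1 := fun e => hx1 (Subtype.ext (by
        have hxR := (hf x).1 e
        have h3 := h.cubeR _ hxR
        rw [pow_succ, pow_two, show (x : G) * x = 1 from congrArg Subtype.val hx, one_mul] at h3
        exact h3))
      have hfi : f x = f i := by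
        rw [hfg]
        exact hSu _ (by rw [← map_mul, hx, map_one]) hfx
      have hr : ((i * x : C) : G) ∈ R := (hf _).1 (by
        rw [map_mul, hfi, ← map_mul, hi2, map_one])
      set r := ((i * x : C) : G) with hrdef
      have hxr : (x : G) = i * r := by
        show (x : G) = (i : G) * ((i : G) * (x : G))
        rw [← mul_assoc, hi2G, one_mul]
      have h2 : r * r = 1 := by
        have := congrArg Subtype.val hx
        calc r * r = (i : G) * r * i * r := by rw [hcent r hr]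
          _ = 1 := by rw [← (show (x : G) * x = 1 from this), hxr]; group
      have h3 := h.cubeR r hr
      rw [pow_succ, pow_two, h2, one_mul] at h3
      exact Subtype.ext (by rw [hxr, h3, mul_one])
    have hi1 : (i : G) ≠ 1 := fun e => hS2 (by
      rw [← hfg, show i = 1 from Subtype.ext e, map_one])
    have hio : orderOf (i : G) = 2 := by
      haveI : Fact (Nat.Prime 2) := ⟨Nat.prime_two⟩
      exact orderOf_eq_prime (by rw [pow_two]; exact congrArg Subtype.val hi2) hi1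
    have hb : zpowers (i : G) = ⊥ := h.sig _ (by rw [Nat.card_zpowers, hio]; norm_num) fun y hy => by
      rw [MonoidHom.map_zpowers]
      congr 1
      have e := huniq (⟨y, h.leJ hy⟩ * i * (⟨y, h.leJ hy⟩ : C)⁻¹) (by
        rw [show (⟨y, h.leJ hy⟩ : C) * i * (⟨y, h.leJ hy⟩)⁻¹ * ((⟨y, h.leJ hy⟩ : C) * i * (⟨y, h.leJ hy⟩)⁻¹) =
          (⟨y, h.leJ hy⟩ : C) * (i * i) * (⟨y, h.leJ hy⟩ : C)⁻¹ by group, hi2, mul_one, mul_inv_cancel])
        fun e => hi1 (congrArg Subtype.val (conj_eq_one_iff.1 e))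
      exact congrArg Subtype.val e
    exact hi1 (zpowers_eq_bot.1 hb)
  · intro r hr
    have h1 := hinv ((⟨r, hr⟩ : R) : R ⧸ Z)
    rw [hTT, ← QuotientGroup.mk_inv, QuotientGroup.eq, hZ, mem_subgroupOf] at h1
    have h1' : ((i : G) * r * (i : G)⁻¹)⁻¹ * r⁻¹ ∈ zpowers a := h1
    have hii : (i : G)⁻¹ = i := inv_eq_of_mul_eq_one_right (congrArg Subtype.val hi2)
    have := inv_mem h1'
    rw [mul_inv_rev, inv_inv, inv_inv, hii] at this
    have hc := h.central this (h.leR hr)
    have e : (i : G) * r * i * r = r * ((i : G) * r * i) := by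
      refine mul_left_cancel (a := r) ?_
      calc r * ((i : G) * r * i * r) = r * ((i : G) * r * i) * r := by group
        _ = _ := hc.symm
    rw [e]; exact this

/-- The permuted basis. -/
theorem exists_basis : ∃ e1 c i : G, e1 ∈ J ∧ c ∈ R ∧ c ∉ J ∧ i ∈ centralizer ({a} : Set G) ∧
    i * i = 1 ∧ i * e1 * i = e1 ∧ i * c * i = c⁻¹ ∧ c ∈ normalizer (J : Set G) ∧
    i ∈ normalizer (J : Set G) ∧ e1 * (c * e1 * c⁻¹) * (c⁻¹ * e1 * c) = a ∧
    J ≤ closure ({e1, c * e1 * c⁻¹, c⁻¹ * e1 * c} : Set G) ∧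
    Nat.card (normalizer (J : Set G) ⊓ centralizer ({a} : Set G) : Subgroup G) ≤ 162 := by
  classical
  haveI : Fact (Nat.Prime 3) := ⟨Nat.prime_three⟩
  obtain ⟨i, hiC, hi2, hinv⟩ := h.exists_invol
  have hii : i⁻¹ = i := inv_eq_of_mul_eq_one_right hi2
  set C : Subgroup G := centralizer ({a} : Set G) with hC
  obtain ⟨f, hfs, hf⟩ : ∃ f : C →* SL3, Function.Surjective f ∧ ∀ g : C, f g = 1 ↔ (g : G) ∈ R := h.projX
  have ha1 : a ≠ 1 := fun e => by have := h.order; rw [e, orderOf_one] at this; norm_num at this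
  -- an element of the elementary subgroup outside the extraspecial one
  have hJR : ¬ J ≤ R := by
    intro hle
    have e : J = R := eq_of_le_of_card_ge hle (by rw [h.cardR, h.cardJ])
    have hall : R ≤ zpowers a := fun r hr => (h.centerR r).2 ⟨hr, fun s hs =>
      h.commJ r (e.symm ▸ hr) s (e.symm ▸ hs)⟩
    have := card_le_of_le hall
    rw [h.cardR, Nat.card_zpowers, h.order] at this
    omega
  obtain ⟨y, hy, hyR⟩ : ∃ y ∈ J, y ∉ R := by
    by_contra hall; push Not at hall; exact hJR hall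
  set yC : C := ⟨y, h.leJ hy⟩ with hyC
  set Y := f yC with hY
  have hY3 : Y ^ 3 = 1 := by
    rw [hY, ← map_pow, show yC ^ 3 = 1 from Subtype.ext (h.cubeJ y hy), map_one]
  have hY1 : Y ≠ 1 := fun e => hyR ((hf _).1 e)
  -- the intersection
  set D : Subgroup G := J ⊓ R with hD
  have hJC : Nat.card (J.subgroupOf C) = 27 := by
    rw [Nat.card_congr (subgroupOfEquivOfLe h.leJ).toEquiv, h.cardJ]
  let fJ : J.subgroupOf C →* SL3 := f.comp (J.subgroupOf C).subtype
  have hrange : Nat.card fJ.range ≤ 3 := by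
    obtain ⟨n, hn⟩ := (IsPGroup.iff_card (p := 3) (G := fJ.range)).1
      (IsPGroup.of_surjective (IsPGroup.of_card (n := 3) (by rw [hJC]; norm_num)) fJ.rangeRestrict
        fJ.rangeRestrict_surjective)
    have hd := card_subgroup_dvd_card fJ.range
    rw [hn, show Nat.card SL3 = 24 by rw [Nat.card_eq_fintype_card]; decide +kernel] at hd
    rw [hn]
    rcases (show n ≤ 1 ∨ 2 ≤ n by omega) with e | e
    · exact le_trans (Nat.pow_le_pow_right (by norm_num) e) (by norm_num)
    · have := (pow_dvd_pow 3 e).trans hd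
      norm_num at this
  have hkerD : Nat.card fJ.ker = Nat.card D := by
    refine Nat.card_congr
      { toFun := fun x => ⟨((x : J.subgroupOf C) : C), mem_inf.2 ⟨(x : J.subgroupOf C).2, (hf _).1 x.2⟩⟩
        invFun := fun d => ⟨⟨⟨d, h.leR (mem_inf.1 d.2).2⟩, (mem_inf.1 d.2).1⟩,
          (hf ⟨d, h.leR (mem_inf.1 d.2).2⟩).2 (mem_inf.1 d.2).2⟩
        left_inv := fun x => Subtype.ext (Subtype.ext (Subtype.ext rfl))
        right_inv := fun d => Subtype.ext rfl }
  have hD9 : 9 ≤ Nat.card D := by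
    have h1 := card_mul_index fJ.ker
    rw [index_ker, hJC, hkerD] at h1
    nlinarith
  have hDR : D ≤ R := inf_le_right
  have hDJ : D ≤ J := inf_le_left
  have hDne : D ≠ R := fun e => by
    have hle : R ≤ J := e ▸ hDJ
    exact hJR (eq_of_le_of_card_ge hle (by rw [h.cardR, h.cardJ])).ge
  have haD : a ∈ D := by
    refine mem_inf.2 ⟨?_, h.a_mem_R⟩
    by_contra haJ
    -- the centre would extend the intersection to the whole extraspecial subgroup
    have hlt : D < D ⊔ zpowers a := lt_of_le_of_ne le_sup_left fun e => haJ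
      (hDJ (e ▸ mem_sup_right (mem_zpowers a)))
    have hle : D ⊔ zpowers a ≤ R := sup_le hDR (zpowers_le.2 h.a_mem_R)
    have h27 : Nat.card (D ⊔ zpowers a : Subgroup G) = 27 := by
      obtain ⟨n, hn, e⟩ := (Nat.dvd_prime_pow Nat.prime_three).1
        (show Nat.card (D ⊔ zpowers a : Subgroup G) ∣ 3 ^ 3 from by
          have := card_dvd_of_le hle; rwa [h.cardR] at this)
      have h9 : 9 < Nat.card (D ⊔ zpowers a : Subgroup G) :=
        lt_of_le_of_lt hD9 (lt_of_le_of_ne (card_le_of_le hlt.le) fun e => hlt.ne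
          (eq_of_le_of_card_ge hlt.le e.ge))
      rw [e] at h9 ⊢
      interval_cases n <;> simp at h9 ⊢
    have heq : D ⊔ zpowers a = R := eq_of_le_of_card_ge hle (by rw [h27, h.cardR])
    have hall : R ≤ zpowers a := by
      intro r hr
      refine (h.centerR r).2 ⟨hr, fun s hs => ?_⟩
      have hsub : R ≤ centralizer (D : Set G) := by
        rw [← heq]
        refine sup_le (fun d hd => mem_centralizer_iff.2 fun d' hd' =>
          h.commJ d' (hDJ hd') d (hDJ hd)) (zpowers_le.2 (mem_centralizer_iff.2 fun d hd => ?_))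
        exact h.comm_a (h.leR (hDR hd))
      have hsub2 : R ≤ centralizer ({r} : Set G) := by
        rw [← heq]
        refine sup_le (fun d hd => mem_centralizer_singleton_iff.2 ?_) (zpowers_le.2 ?_)
        · exact (mem_centralizer_iff.1 (hsub hr) d hd)
        · exact mem_centralizer_singleton_iff.2 (h.comm_a (h.leR hr)).symm
      exact (mem_centralizer_singleton_iff.1 (hsub2 hs)).symm
    have := card_le_of_le hall
    rw [h.cardR, Nat.card_zpowers, h.order] at this
    omega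
  have hZD : zpowers a ≤ D := zpowers_le.2 haD
  -- the centraliser of the intersection in the extraspecial subgroup
  have hcentD : ∀ r ∈ R, (∀ d ∈ D, r * d = d * r) → r ∈ D := by
    intro r hr hc
    by_contra hrD
    have hlt : D < D ⊔ zpowers r := lt_of_le_of_ne le_sup_left fun e => hrD
      (e ▸ mem_sup_right (mem_zpowers r))
    have hle : D ⊔ zpowers r ≤ R := sup_le hDR (zpowers_le.2 hr)
    obtain ⟨n, hn, e⟩ := (Nat.dvd_prime_pow Nat.prime_three).1
      (show Nat.card (D ⊔ zpowers r : Subgroup G) ∣ 3 ^ 3 from by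
        have := card_dvd_of_le hle; rwa [h.cardR] at this)
    have h9 : 9 < Nat.card (D ⊔ zpowers r : Subgroup G) :=
      lt_of_le_of_lt hD9 (lt_of_le_of_ne (card_le_of_le hlt.le) fun e => hlt.ne
        (eq_of_le_of_card_ge hlt.le e.ge))
    have h27 : Nat.card (D ⊔ zpowers r : Subgroup G) = 27 := by
      rw [e] at h9 ⊢
      interval_cases n <;> simp at h9 ⊢
    have heq : D ⊔ zpowers r = R := eq_of_le_of_card_ge hle (by rw [h27, h.cardR])
    refine hrD (hZD ((h.centerR r).2 ⟨hr, fun s hs => ?_⟩))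
    have hsub : R ≤ centralizer ({r} : Set G) := by
      rw [← heq]
      exact sup_le (fun d hd => mem_centralizer_singleton_iff.2 (hc d hd).symm)
        (zpowers_le.2 (mem_centralizer_singleton_iff.2 rfl))
    exact (mem_centralizer_singleton_iff.1 (hsub hs)).symm
  have hiD : ∀ d ∈ D, i * d * i ∈ D := fun d hd => by
    have h1 := hinv d (hDR hd)
    have : i * d * i = i * d * i * d * d⁻¹ := by group
    rw [this]; exact mul_mem (hZD h1) (inv_mem hd)
  -- elements moving the elementary subgroup by the intersection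
  have hstep : ∀ g ∈ C, (∀ d ∈ D, g * d * g⁻¹ ∈ D) → ∀ x ∈ J, (g * x * g⁻¹ * x⁻¹) ∈ R →
      g * x * g⁻¹ * x⁻¹ ∈ D := by
    intro g hg hgD x hx hR'
    refine hcentD _ hR' fun d hd => ?_
    have hgd : g⁻¹ * d * g ∈ D := by
      have hsurj : D.map (MulAut.conj g).toMonoidHom = D := eq_of_le_of_card_ge
        (by rintro _ ⟨d', hd', rfl⟩; exact hgD d' hd') (by rw [card_map_of_injective (MulAut.conj g).injective])
      rw [← hsurj] at hd
      obtain ⟨d', hd', rfl⟩ := hd
      show g⁻¹ * (g * d' * g⁻¹) * g ∈ D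
      simpa [mul_assoc] using hd'
    have e1 : Commute (g * x * g⁻¹) d := by
      show g * x * g⁻¹ * d = d * (g * x * g⁻¹)
      calc g * x * g⁻¹ * d = g * (x * (g⁻¹ * d * g)) * g⁻¹ := by group
        _ = g * (g⁻¹ * d * g * x) * g⁻¹ := by rw [h.commJ x hx _ (hDJ hgd)]
        _ = _ := by group
    exact (e1.mul_left (show Commute x d from h.commJ x hx d (hDJ hd)).inv_left).eq
  have hcomf : f ⟨i, hiC⟩ * f ⟨i, hiC⟩ = 1 := by
    rw [← map_mul, show (⟨i, hiC⟩ : C) * ⟨i, hiC⟩ = 1 from Subtype.ext hi2, map_one]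
  have hfi1 : f ⟨i, hiC⟩ ≠ 1 := by
    intro e
    have hiR := (hf _).1 e
    have h3 := h.cubeR i hiR
    rw [pow_succ, pow_two, hi2, one_mul] at h3
    subst h3
    refine hDne (le_antisymm hDR fun r hr => hZD ?_)
    have := hinv r hr
    rw [one_mul, mul_one] at this
    have e2 : r = (r * r)⁻¹ := eq_inv_of_mul_eq_one_left (by rw [← pow_three, h.cubeR r hr])
    rw [e2]; exact inv_mem this
  have hiJ : ∀ x ∈ J, i * x * i ∈ J := by
    intro x hx
    have hR' : i * x * i⁻¹ * x⁻¹ ∈ R := by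
      refine (hf (⟨i, hiC⟩ * ⟨x, h.leJ hx⟩ * (⟨i, hiC⟩ : C)⁻¹ * (⟨x, h.leJ hx⟩ : C)⁻¹)).1 ?_
      rw [map_mul, map_mul, map_mul, map_inv, map_inv]
      have hxc : f ⟨i, hiC⟩ * f ⟨x, h.leJ hx⟩ = f ⟨x, h.leJ hx⟩ * f ⟨i, hiC⟩ := by
        by_cases e : f ⟨x, h.leJ hx⟩ = 1
        · rw [e, one_mul, mul_one]
        · exact (sl3_cube _ (by rw [← map_pow, show (⟨x, h.leJ hx⟩ : C) ^ 3 = 1 from
            Subtype.ext (h.cubeJ x hx), map_one]) e _ hcomf hfi1).2.1
      rw [hxc, mul_inv_cancel_right, mul_inv_cancel]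
    have h1 := hstep i hiC (fun d hd => by rw [hii]; exact hiD d hd) x hx hR'
    have := mul_mem (hDJ h1) hx
    rwa [inv_mul_cancel_right, hii] at this
  -- the fixed vector
  set f0 := y * (i * y * i) with hf0
  have hf0J : f0 ∈ J := mul_mem hy (hiJ y hy)
  have hif0 : i * f0 * i = f0 := by
    rw [hf0, h.commJ y hy _ (hiJ y hy)]
    calc i * (i * y * i * y) * i = i * i * y * (i * y * i) := by group
      _ = y * (i * y * i) := by rw [hi2, one_mul]
      _ = _ := h.commJ y hy _ (hiJ y hy)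
  have hf0R : f0 ∉ R := by
    intro hm
    have hd : i * y * i * y⁻¹ ∈ R := by
      have h2 : f ⟨i, hiC⟩ * Y = Y * f ⟨i, hiC⟩ := (sl3_cube Y hY3 hY1 _ hcomf hfi1).2.1
      refine (hf (⟨i, hiC⟩ * yC * ⟨i, hiC⟩ * yC⁻¹)).1 ?_
      rw [map_mul, map_mul, map_mul, map_inv, ← hY, h2, mul_assoc Y, hcomf, mul_one, mul_inv_cancel]
    have e : y⁻¹ = (i * y * i * y⁻¹)⁻¹ * f0 := by
      rw [hf0, h.commJ y hy _ (hiJ y hy), mul_inv_rev, inv_inv]
      calc y⁻¹ = y * (y ^ 3)⁻¹ * y := by rw [pow_three]; group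
        _ = y * y := by rw [h.cubeJ y hy]; group
        _ = _ := by group
    exact hyR (inv_mem_iff.1 (e ▸ mul_mem (inv_mem hd) hm))
  -- an element of the extraspecial subgroup inverted by the involution
  obtain ⟨r0, hr0, hr0D⟩ : ∃ r ∈ R, r ∉ D := by
    by_contra hall
    push Not at hall
    exact hDne (le_antisymm hDR hall)
  set z := i * r0 * i * r0 with hz
  have hzZ : z ∈ zpowers a := hinv r0 hr0
  set c := r0 * z with hcdef
  have hcR : c ∈ R := mul_mem hr0 (hDR (hZD hzZ))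
  have hcD : c ∉ D := fun hm => hr0D (by
    have := mul_mem hm (inv_mem (hZD hzZ))
    rwa [hcdef, mul_inv_cancel_right] at this)
  have hcJ : c ∉ J := fun hm => hcD ⟨hm, hcR⟩
  have hic : i * c * i = c⁻¹ := by
    have hzi : z * i = i * z := (h.central hzZ hiC).symm
    have hzr : z * r0 = r0 * z := (h.central hzZ (h.leR hr0)).symm
    have e1 : i * c * i = z * r0⁻¹ * z := by
      rw [hcdef]
      calc i * (r0 * z) * i = i * r0 * (z * i) := by group
        _ = i * r0 * i * z := by rw [hzi]; group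
        _ = _ := by rw [hz]; group
    refine eq_inv_of_mul_eq_one_left ?_
    rw [e1, hcdef]
    calc z * r0⁻¹ * z * (r0 * z) = z * r0⁻¹ * (z * r0) * z := by group
      _ = z ^ 3 := by rw [hzr, pow_three]; group
      _ = 1 := h.cubeR z (hDR (hZD hzZ))
  have hcDn : ∀ d ∈ D, c * d * c⁻¹ ∈ D := fun d hd => by
    have := h.comm_center hcR (hDR hd)
    rw [show c * d * c⁻¹ = c * d * c⁻¹ * d⁻¹ * d by group]
    exact mul_mem (hZD this) hd
  have hm : ∀ x ∈ J, c * x * c⁻¹ * x⁻¹ ∈ D := fun x hx => by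
    refine hstep c (h.leR hcR) hcDn x hx ?_
    rw [show c * x * c⁻¹ * x⁻¹ = c * (x * c⁻¹ * x⁻¹) by group]
    exact mul_mem hcR (h.norm_R (h.leJ hx) (inv_mem hcR))
  have hcN : c ∈ normalizer (J : Set G) := mem_normalizer_fintype fun x hx => by
    have := mul_mem (hDJ (hm x hx)) hx
    rwa [inv_mul_cancel_right] at this
  have hiN : i ∈ normalizer (J : Set G) := mem_normalizer_fintype fun x hx => by
    rw [hii]; exact hiJ x hx
  set m := c * f0 * c⁻¹ * f0⁻¹ with hmdef
  have hmD : m ∈ D := hm f0 hf0J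
  have hcz : ∀ {x : G}, x ∈ zpowers a → c * x = x * c := fun hx => h.central hx (h.leR hcR)
  have hzf : ∀ {x : G}, x ∈ zpowers a → f0 * x = x * f0 := fun hx => h.central hx (h.leJ hf0J)
  -- generation of the elementary subgroup by the intersection and the fixed vector
  have hJgen : J = D ⊔ zpowers f0 := by
    refine (eq_of_le_of_card_ge (sup_le hDJ (zpowers_le.2 hf0J)) ?_).symm
    rw [h.cardJ]
    have hlt : D < D ⊔ zpowers f0 := lt_of_le_of_ne le_sup_left fun e => hf0R
      (hDR (e ▸ mem_sup_right (mem_zpowers f0)))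
    obtain ⟨n, hn, e⟩ := (Nat.dvd_prime_pow Nat.prime_three).1
      (show Nat.card (D ⊔ zpowers f0 : Subgroup G) ∣ 3 ^ 3 from by
        have := card_dvd_of_le (sup_le hDJ (zpowers_le.2 hf0J)); rwa [h.cardJ] at this)
    have h9 : 9 < Nat.card (D ⊔ zpowers f0 : Subgroup G) :=
      lt_of_le_of_lt hD9 (lt_of_le_of_ne (card_le_of_le hlt.le) fun e => hlt.ne
        (eq_of_le_of_card_ge hlt.le e.ge))
    rw [e] at h9 ⊢
    interval_cases n <;> simp at h9 ⊢
  have hDc : R = D ⊔ zpowers c := by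
    refine (eq_of_le_of_card_ge (sup_le hDR (zpowers_le.2 hcR)) ?_).symm
    rw [h.cardR]
    have hlt : D < D ⊔ zpowers c := lt_of_le_of_ne le_sup_left fun e => hcD
      (e ▸ mem_sup_right (mem_zpowers c))
    obtain ⟨n, hn, e⟩ := (Nat.dvd_prime_pow Nat.prime_three).1
      (show Nat.card (D ⊔ zpowers c : Subgroup G) ∣ 3 ^ 3 from by
        have := card_dvd_of_le (sup_le hDR (zpowers_le.2 hcR)); rwa [h.cardR] at this)
    have h9 : 9 < Nat.card (D ⊔ zpowers c : Subgroup G) :=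
      lt_of_le_of_lt hD9 (lt_of_le_of_ne (card_le_of_le hlt.le) fun e => hlt.ne
        (eq_of_le_of_card_ge hlt.le e.ge))
    rw [e] at h9 ⊢
    interval_cases n <;> simp at h9 ⊢
  have hmZ : m ∉ zpowers a := by
    intro hmz
    -- then the fixed vector centralises the quotient, and so does a lift of the central involution
    let K : Subgroup C :=
      { carrier := {g | ∀ r ∈ R, (g : G) * r * (g : G)⁻¹ * r⁻¹ ∈ zpowers a}
        one_mem' := fun r _ => by simp
        mul_mem' := fun {g g'} hg hg' r hr => by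
          have e1 := hg' r hr
          have e2 := hg _ (h.norm_R g'.2 hr)
          rw [show ((g * g' : C) : G) * r * ((g * g' : C) : G)⁻¹ * r⁻¹ =
            ((g : G) * ((g' : G) * r * (g' : G)⁻¹) * (g : G)⁻¹ * ((g' : G) * r * (g' : G)⁻¹)⁻¹) *
              ((g' : G) * r * (g' : G)⁻¹ * r⁻¹) by rw [Subgroup.coe_mul]; group]
          exact mul_mem e2 e1
        inv_mem' := fun {g} hg r hr => by
          have hr' : (g : G)⁻¹ * r * g ∈ R := by
            have := h.norm_R (inv_mem g.2) hr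
            rwa [inv_inv] at this
          have e := inv_mem (hg _ hr')
          rw [show ((g⁻¹ : C) : G) * r * ((g⁻¹ : C) : G)⁻¹ * r⁻¹ =
            ((g : G) * ((g : G)⁻¹ * r * g) * (g : G)⁻¹ * ((g : G)⁻¹ * r * g)⁻¹)⁻¹ by
              rw [Subgroup.coe_inv]; group]
          exact e }
    haveI hKn : K.Normal := ⟨fun g hg k r hr => by
      have hr' : (k : G)⁻¹ * r * k ∈ R := by
        have := h.norm_R (inv_mem k.2) hr
        rwa [inv_inv] at this
      have e1 := hg _ hr'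
      have e2 : ((k * g * k⁻¹ : C) : G) * r * ((k * g * k⁻¹ : C) : G)⁻¹ * r⁻¹ =
          (k : G) * ((g : G) * ((k : G)⁻¹ * r * k) * (g : G)⁻¹ * ((k : G)⁻¹ * r * k)⁻¹) * (k : G)⁻¹ := by
        simp only [Subgroup.coe_mul, Subgroup.coe_inv]; group
      rw [e2, h.central e1 k.2, mul_inv_cancel_right]
      exact e1⟩
    have hfK : (⟨f0, h.leJ hf0J⟩ : C) ∈ K := by
      intro r hr
      show f0 * r * f0⁻¹ * r⁻¹ ∈ zpowers a
      let L : Subgroup G :=
        { carrier := {r | r ∈ R ∧ f0 * r * f0⁻¹ * r⁻¹ ∈ zpowers a}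
          one_mem' := ⟨one_mem _, by simp⟩
          mul_mem' := fun {r s} hr hs => ⟨mul_mem hr.1 hs.1, by
            have e : f0 * (r * s) * f0⁻¹ * (r * s)⁻¹ =
              (f0 * r * f0⁻¹ * r⁻¹) * (r * (f0 * s * f0⁻¹ * s⁻¹) * r⁻¹) := by group
            rw [e, h.central hs.2 (h.leR hr.1), mul_inv_cancel_right]
            exact mul_mem hr.2 hs.2⟩
          inv_mem' := fun {r} hr => ⟨inv_mem hr.1, by
            have e : f0 * r⁻¹ * f0⁻¹ * r⁻¹⁻¹ = r⁻¹ * (f0 * r * f0⁻¹ * r⁻¹)⁻¹ * r := by group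
            rw [e, h.central (inv_mem hr.2) (inv_mem (h.leR hr.1)), inv_mul_cancel_right]
            exact inv_mem hr.2⟩ }
      have hle : R ≤ L := by
        rw [hDc]
        refine sup_le (fun d hd => ⟨hDR hd, ?_⟩) (zpowers_le.2 ⟨hcR, ?_⟩)
        · rw [h.commJ f0 hf0J d (hDJ hd), mul_inv_cancel_right, mul_inv_cancel]; exact one_mem _
        · rw [show f0 * c * f0⁻¹ * c⁻¹ = m⁻¹ by rw [hmdef]; group]
          exact inv_mem hmz
      exact (hle hr).2
    set F0 := f ⟨f0, h.leJ hf0J⟩ with hF0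
    obtain ⟨⟨X, hX⟩, -, -⟩ := sl3_cube F0 (by
        rw [hF0, ← map_pow, show (⟨f0, h.leJ hf0J⟩ : C) ^ 3 = 1 from Subtype.ext (h.cubeJ _ hf0J), map_one])
      (fun e => hf0R ((hf _).1 e)) _ hcomf hfi1
    obtain ⟨x, rfl⟩ := hfs X
    obtain ⟨k, hk, hkK⟩ : ∃ k : C, f k = f ⟨i, hiC⟩ ∧ k ∈ K := by
      have hb := mul_mem hfK (hKn.conj_mem _ hfK x)
      rcases hX with e | e
      · exact ⟨_, by rw [map_pow, map_mul, map_mul, map_mul, map_inv, ← hF0, e], pow_mem hb 3⟩
      · exact ⟨_, by rw [map_pow, map_mul, map_mul, map_mul, map_inv, ← hF0, e], pow_mem hb 2⟩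
    have hiK : (⟨i, hiC⟩ : C) ∈ K := by
      have hr : ((k⁻¹ * ⟨i, hiC⟩ : C) : G) ∈ R := (hf _).1 (by rw [map_mul, map_inv, hk, inv_mul_cancel])
      have := mul_mem hkK (show (k⁻¹ * ⟨i, hiC⟩ : C) ∈ K from fun r hr' => h.comm_center hr hr')
      rwa [mul_inv_cancel_left] at this
    refine hr0D (hZD ?_)
    have e1 : i * r0 * i * r0⁻¹ ∈ zpowers a := by
      have := hiK r0 hr0
      rwa [show ((⟨i, hiC⟩ : C) : G) = i from rfl, hii] at this
    have e2 := mul_mem (inv_mem e1) hzZ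
    rw [hz, show (i * r0 * i * r0⁻¹)⁻¹ * (i * r0 * i * r0) = r0 * r0 by group] at e2
    have e3 : r0 = (r0 * r0)⁻¹ := eq_inv_of_mul_eq_one_left (by rw [← pow_three, h.cubeR r0 hr0])
    rw [e3]; exact inv_mem e2
  -- the product of the orbit
  set w := m * (c⁻¹ * m * c)⁻¹ with hwdef
  have hprod : f0 * (c * f0 * c⁻¹) * (c⁻¹ * f0 * c) = w := by
    have e1 : c * f0 * c⁻¹ = m * f0 := by rw [hmdef]; group
    have e2 : c⁻¹ * f0 * c = (c⁻¹ * m * c)⁻¹ * f0 := by rw [hmdef]; group
    rw [e1, e2]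
    have hmJ := hDJ hmD
    have hmJ' : c⁻¹ * m * c ∈ J := (mem_normalizer_iff''.1 hcN m).1 hmJ
    rw [hwdef]
    calc f0 * (m * f0) * ((c⁻¹ * m * c)⁻¹ * f0) = f0 * (m * f0) * (f0 * (c⁻¹ * m * c)⁻¹) := by
          rw [h.commJ _ (inv_mem hmJ') _ hf0J]
      _ = f0 * (f0 * m) * (f0 * (c⁻¹ * m * c)⁻¹) := by rw [h.commJ m hmJ f0 hf0J]
      _ = f0 * f0 * (m * f0) * (c⁻¹ * m * c)⁻¹ := by group
      _ = f0 * f0 * (f0 * m) * (c⁻¹ * m * c)⁻¹ := by rw [h.commJ m hmJ f0 hf0J]
      _ = f0 ^ 3 * (m * (c⁻¹ * m * c)⁻¹) := by rw [pow_three]; group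
      _ = _ := by rw [h.cubeJ f0 hf0J, one_mul]
  have hwZ : w ∈ zpowers a := by
    have := h.comm_center (hDR hmD) (inv_mem hcR)
    rw [hwdef, show m * (c⁻¹ * m * c)⁻¹ = m * c⁻¹ * m⁻¹ * c⁻¹⁻¹ by group]
    exact this
  have hw1 : w ≠ 1 := by
    intro e
    have hc' : c * m = m * c := by
      rw [hwdef, mul_inv_eq_one] at e
      calc c * m = c * (c⁻¹ * m * c) := by rw [← e]
        _ = m * c := by group
    refine hmZ ((h.centerR m).2 ⟨hDR hmD, fun s hs => ?_⟩)
    have hle : R ≤ centralizer ({m} : Set G) := by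
      rw [hDc]
      exact sup_le (fun d hd => mem_centralizer_singleton_iff.2 (h.commJ d (hDJ hd) m (hDJ hmD)))
        (zpowers_le.2 (mem_centralizer_singleton_iff.2 hc'))
    exact (mem_centralizer_singleton_iff.1 (hle hs)).symm
  -- the choice of the sign
  obtain ⟨e1, he1, hie1, hsum, hgen⟩ : ∃ e1 ∈ J, i * e1 * i = e1 ∧
      e1 * (c * e1 * c⁻¹) * (c⁻¹ * e1 * c) = a ∧ f0 ∈ zpowers e1 := by
    rcases (A9ThreeLocal.zpowers_three_cases (show a ^ 3 = 1 by rw [← h.order, pow_orderOf_eq_one])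
      hwZ).resolve_left hw1 with e | e
    · exact ⟨f0, hf0J, hif0, hprod.trans e, mem_zpowers f0⟩
    · refine ⟨f0⁻¹, inv_mem hf0J, ?_, ?_, ?_⟩
      · have := congrArg (·⁻¹) hif0
        simpa [mul_assoc, hii] using this
      · have hJ1 : c * f0 * c⁻¹ ∈ J := (mem_normalizer_iff.1 hcN f0).1 hf0J
        have hJ2 : c⁻¹ * f0 * c ∈ J := (mem_normalizer_iff''.1 hcN f0).1 hf0J
        have e3 : f0⁻¹ * (c * f0⁻¹ * c⁻¹) * (c⁻¹ * f0⁻¹ * c) =
            ((c⁻¹ * f0 * c) * ((c * f0 * c⁻¹) * f0))⁻¹ := by group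
        rw [e3, h.commJ _ hJ2 _ (mul_mem hJ1 hf0J), h.commJ _ hJ1 _ hf0J, hprod, e, inv_inv]
      · exact inv_mem_iff.1 (mem_zpowers _)
  refine ⟨e1, c, i, he1, hcR, hcJ, hiC, hi2, hie1, hic, hcN, hiN, hsum, ?_, ?_⟩
  · set L := closure ({e1, c * e1 * c⁻¹, c⁻¹ * e1 * c} : Set G) with hL
    have m1 : e1 ∈ L := subset_closure (by simp)
    have m2 : c * e1 * c⁻¹ ∈ L := subset_closure (by simp)
    have m3 : c⁻¹ * e1 * c ∈ L := subset_closure (by simp)
    have haL : a ∈ L := hsum ▸ mul_mem (mul_mem m1 m2) m3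
    have hf0L : f0 ∈ L := zpowers_le.2 m1 hgen
    have hcf0 : c * f0 * c⁻¹ ∈ L := by
      obtain ⟨n, hn⟩ := mem_zpowers_iff.1 hgen
      rw [← hn, ← conj_zpow]
      exact zpow_mem m2 n
    have hmL : m ∈ L := mul_mem hcf0 (inv_mem hf0L)
    -- the intersection is generated by the centre and the commutator
    have hDgen : D ≤ zpowers a ⊔ zpowers m := by
      have hle : zpowers a ⊔ zpowers m ≤ D := sup_le hZD (zpowers_le.2 hmD)
      refine (eq_of_le_of_card_ge hle ?_).ge
      have hlt : zpowers a < zpowers a ⊔ zpowers m := lt_of_le_of_ne le_sup_left fun e => hmZ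
        (e ▸ mem_sup_right (mem_zpowers m))
      obtain ⟨n, hn, e⟩ := (Nat.dvd_prime_pow Nat.prime_three).1
        (show Nat.card (zpowers a ⊔ zpowers m : Subgroup G) ∣ 3 ^ 3 from by
          have := card_dvd_of_le (hle.trans hDR); rwa [h.cardR] at this)
      have h3 : 3 < Nat.card (zpowers a ⊔ zpowers m : Subgroup G) := by
        have h3' : Nat.card (zpowers a) = 3 := by rw [Nat.card_zpowers, h.order]
        exact lt_of_le_of_ne (h3' ▸ card_le_of_le hlt.le) fun e => hlt.ne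
          (eq_of_le_of_card_ge hlt.le (by omega))
      have hD27 : Nat.card D ∣ 3 ^ 3 := by
        have := card_dvd_of_le hDR; rwa [h.cardR] at this
      obtain ⟨k, hk, ek⟩ := (Nat.dvd_prime_pow Nat.prime_three).1 hD27
      have hk3 : k ≠ 3 := fun e' => hDne (eq_of_le_of_card_ge hDR (by rw [h.cardR, ek, e']; norm_num))
      rw [e] at h3 ⊢
      rw [ek]
      refine Nat.pow_le_pow_right (by norm_num) ?_
      have : 2 ≤ n := by
        by_contra hn2
        interval_cases n <;> simp at h3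
      omega
    rw [hJgen]
    exact sup_le (hDgen.trans (sup_le (zpowers_le.2 haL) (zpowers_le.2 hmL))) (zpowers_le.2 hf0L)
  · -- the stabiliser
    set U := (normalizer (J : Set G) ⊓ C : Subgroup G).subgroupOf C with hU
    set Φ : U →* SL3 := f.comp U.subtype with hΦ
    have hker : Nat.card Φ.ker ≤ 27 := by
      rw [← h.cardR]
      refine Nat.card_le_card_of_injective (fun x => (⟨((x : U) : C), (hf _).1 x.2⟩ : R)) fun x y e => ?_
      exact Subtype.ext (Subtype.ext (Subtype.ext (congrArg Subtype.val e :)))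
    have hran : Nat.card Φ.range ≤ 6 := by
      have h6 := (sl3_cube Y hY3 hY1 _ hcomf hfi1).2.2
      rw [← h6, ← Fintype.card_subtype, ← Nat.card_eq_fintype_card]
      refine Nat.card_le_card_of_injective (fun X => ⟨(X : SL3), ?_⟩) fun X X' e =>
        Subtype.ext (congrArg Subtype.val e :)
      obtain ⟨g, hg⟩ := X.2
      have hgn : (((g : U) : C) : G) ∈ normalizer (J : Set G) := (mem_inf.1 (mem_subgroupOf.1 g.2)).1
      have hy' : (((g : U) : C) : G) * y * (((g : U) : C) : G)⁻¹ ∈ J := (mem_normalizer_iff.1 hgn y).1 hy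
      have hJY : ∀ x : C, (x : G) ∈ J → f x = 1 ∨ f x = Y ∨ f x = Y * Y := by
        intro x hx
        have hxf : f x ∈ fJ.range := ⟨⟨x, hx⟩, rfl⟩
        have hYf : Y ∈ fJ.range := ⟨⟨yC, hy⟩, rfl⟩
        have hzp : zpowers Y = fJ.range := eq_of_le_of_card_ge (zpowers_le.2 hYf) (by
          rw [Nat.card_zpowers, orderOf_eq_prime hY3 hY1]; exact hrange)
        rw [← hzp] at hxf
        rcases A9ThreeLocal.zpowers_three_cases hY3 hxf with e | e | e
        · exact Or.inl e
        · exact Or.inr (Or.inl e)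
        · exact Or.inr (Or.inr (e.trans (inv_eq_of_mul_eq_one_right (by rw [← pow_three, hY3]))))
      show (X : SL3) * Y * (X : SL3)⁻¹ = Y ∨ (X : SL3) * Y * (X : SL3)⁻¹ = Y * Y
      rw [← hg, show Φ g = f ((g : U) : C) from rfl, hY, ← map_inv, ← map_mul, ← map_mul]
      rcases hJY _ (show ((((g : U) : C) * yC * ((g : U) : C)⁻¹ : C) : G) ∈ J from hy') with e | e | e
      · rw [map_mul, map_mul, map_inv] at e
        exact absurd (conj_eq_one_iff.1 e) hY1
      · exact Or.inl e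
      · exact Or.inr e
    have h1 := card_mul_index Φ.ker
    rw [index_ker] at h1
    rw [← Nat.card_congr (subgroupOfEquivOfLe (inf_le_right : normalizer (J : Set G) ⊓ C ≤ C)).toEquiv,
      ← hU, ← h1]
    exact Nat.mul_le_mul hker hran

end CentHyp

end Cfsg.Agent.Sp6Local
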