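import Cfsg.Agent.Sp6Local.Fusion

/-!
# The complement of the first line, adapted to the exchange, and two classes of involutions
-/

set_option autoImplicit false
set_option synthInstance.maxSize 4000
set_option synthInstance.maxHeartbeats 400000

namespace Cfsg.Agent.Sp6Local

open Cfsg Cfsg.Agent Equiv Subgroup Cfsg.Agent.Sym9ThreeLocal

universe u

/-- Conjugators for the involutions of the complement commuting with the exchange. -/
def pConj : List P6 :=
  [1, swap 2 4, swap 0 1 * swap 2 4 * swap 3 4, swap 1 4 * swap 4 5, swap 0 1 * swap 3 5 * swap 4 5,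
    swap 0 1 * swap 1 2 * swap 3 5, swap 0 2 * swap 1 5 * swap 3 5, swap 2 5,
    swap 0 4 * swap 1 4 * swap 3 4, swap 0 5 * swap 2 5 * swap 3 5]

theorem frame_acts :
    act wc e3 = e1 ∧ act wc e1 = e2 ∧ act wc e2 = e3 ∧ wc * wf * wc⁻¹ = wf2 ∧ wc * wf2 * wc⁻¹ = wf3 ∧
    wc * wf3 * wc⁻¹ = wf ∧ wc * ww * wc⁻¹ = wt ∧ wc * (wf * wf2) * wc⁻¹ = wf2 * wf3 ∧
    act wf e1 = e1⁻¹ ∧ act wf xA ≠ xA ∧ act (wf * wf2 * wf3) xA = xA⁻¹ ∧
    (wf * wf2 * wf3) * (wf * wf2 * wf3) = 1 ∧ act (wf2 * wf3) e1 = e1 ∧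
    act wf e2 = e2 ∧ act wf e3 = e3 ∧ (∀ i : Fin 3, e3 ≠ e2 ^ (i : ℕ)) := by
  decide +kernel

theorem pConj_spec : ∀ σ : P6, σ * σ = 1 → σ * pw = pw * σ →
    ∃ π ∈ pConj, π * σ * π⁻¹ = 1 ∨ π * σ * π⁻¹ = p0 ∨ π * σ * π⁻¹ = p0 * p1 ∨ π * σ * π⁻¹ = pw := by
  decide +kernel

theorem double_three : ∀ σ : P6, σ * σ * σ = 1 → σ * (p0 * p1) = p0 * p1 * σ → σ = 1 := by
  decide +kernel

namespace Conf

variable {G : Type u} [Group G] (h : Conf G)

theorem tau_emb (hk : h.k = .eight) : h.emb hk (mw wt) = h.tau := rfl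

/-- The complement of the first line in its centraliser, adapted to the exchange. -/
structure Frame (hk : h.k = .eight) where
  /-- The complement. -/
  ψ : P6 →* G
  inj : Function.Injective ψ
  map_a : ψ pa = h.j e2
  map_b : ψ pb = h.j e3
  map_0 : ψ p0 = h.emb hk (mw wf2)
  map_1 : ψ p1 = h.emb hk (mw wf3)
  map_w : ψ pw = h.tau
  comm_e : ∀ x, Commute (h.j e1) (ψ x)
  comm_f : ∀ x, Commute (h.emb hk (mw wf)) (ψ x)
  dec : ∀ g : G, g * h.j e1 = h.j e1 * g → ∃ k : Fin 3, ∃ x, g = h.j e1 ^ (k : ℕ) * ψ x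

variable [Finite G] {hk : h.k = .eight}

theorem mw_conj (w v : W) :
    h.emb hk (mw (w * v * w⁻¹)) = h.emb hk (mw w) * h.emb hk (mw v) * (h.emb hk (mw w))⁻¹ := by
  simp only [map_mul, map_inv]

/-- The conjugate of the given complement by the cycle of the blocks. -/
def Six.frame (s : h.Six hk) : h.Frame hk where
  ψ := (MulAut.conj (h.emb hk (mw wc))).toMonoidHom.comp s.ψ
  inj := (MulAut.conj (h.emb hk (mw wc))).injective.comp s.inj
  map_a := by
    show h.emb hk (mw wc) * s.ψ pa * (h.emb hk (mw wc))⁻¹ = _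
    rw [s.map_a, h.conj_w hk, frame_acts.2.1]
  map_b := by
    show h.emb hk (mw wc) * s.ψ pb * (h.emb hk (mw wc))⁻¹ = _
    rw [s.map_b, h.conj_w hk, frame_acts.2.2.1]
  map_0 := by
    show h.emb hk (mw wc) * s.ψ p0 * (h.emb hk (mw wc))⁻¹ = _
    rw [s.map_0, ← h.mw_conj, frame_acts.2.2.2.1]
  map_1 := by
    show h.emb hk (mw wc) * s.ψ p1 * (h.emb hk (mw wc))⁻¹ = _
    rw [s.map_1, ← h.mw_conj, frame_acts.2.2.2.2.1]
  map_w := by
    show h.emb hk (mw wc) * s.ψ pw * (h.emb hk (mw wc))⁻¹ = _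
    rw [s.map_w, ← h.mw_conj, frame_acts.2.2.2.2.2.2.1, h.tau_emb]
  comm_e := fun x => by
    have := (s.comm_e x).map (MulAut.conj (h.emb hk (mw wc))).toMonoidHom
    change Commute (h.emb hk (mw wc) * h.j e3 * (h.emb hk (mw wc))⁻¹) _ at this
    rwa [h.conj_w hk, frame_acts.1] at this
  comm_f := fun x => by
    have := (s.comm_f x).map (MulAut.conj (h.emb hk (mw wc))).toMonoidHom
    change Commute (h.emb hk (mw wc) * h.emb hk (mw wf3) * (h.emb hk (mw wc))⁻¹) _ at this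
    rwa [← h.mw_conj, frame_acts.2.2.2.2.2.1] at this
  dec := fun g hg => by
    have hj : MulAut.conj (h.emb hk (mw wc)) (h.j e3) = h.j e1 := by
      show h.emb hk (mw wc) * h.j e3 * (h.emb hk (mw wc))⁻¹ = _
      rw [h.conj_w hk, frame_acts.1]
    obtain ⟨k, x, hx⟩ := s.dec ((MulAut.conj (h.emb hk (mw wc))).symm g)
      ((MulAut.conj (h.emb hk (mw wc))).injective (by
        rw [map_mul, map_mul, MulEquiv.apply_symm_apply, hj]; exact hg))
    refine ⟨k, x, ?_⟩
    have := congrArg (MulAut.conj (h.emb hk (mw wc))) hx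
    rwa [MulEquiv.apply_symm_apply, map_mul, map_pow, hj] at this

theorem Six.frame_apply (s : h.Six hk) (x : P6) :
    (Six.frame h s).ψ x = h.emb hk (mw wc) * s.ψ x * (h.emb hk (mw wc))⁻¹ := rfl

namespace Frame

variable {h} (f : h.Frame hk)

theorem conj_e1 : h.emb hk (mw wf) * h.j e1 * (h.emb hk (mw wf))⁻¹ = (h.j e1)⁻¹ := by
  rw [h.conj_w hk, frame_acts.2.2.2.2.2.2.2.2.1, map_inv]

/-- The decomposition of the centraliser of the first line is unique. -/
theorem unique {k : ℕ} {x : P6} (e : h.j e1 ^ k * f.ψ x = 1) : h.j e1 ^ k = 1 ∧ x = 1 := by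
  have h1 : f.ψ x = (h.j e1 ^ k)⁻¹ := eq_inv_of_mul_eq_one_right e
  have h2 := (f.comm_f x).inv_right
  rw [h1, inv_inv] at h2
  have h3 : (h.j e1 ^ k)⁻¹ = h.j e1 ^ k := by
    rw [← inv_pow, ← conj_e1 (h := h) (hk := hk), conj_pow, h2.eq, mul_inv_cancel_right]
  have h4 : h.j e1 ^ k = 1 := by
    have h5 : (h.j e1 ^ k) ^ 3 = 1 := by
      rw [← pow_mul, mul_comm, pow_mul, h.J_cube _ (h.j_mem e1), one_pow]
    rw [pow_three] at h5
    nth_rw 2 [← h3] at h5
    simpa using h5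
  exact ⟨h4, f.inj (by rw [h1, h4, inv_one, map_one])⟩

theorem double_eq : h.emb hk (mw (wf2 * wf3)) = f.ψ (p0 * p1) := by
  rw [map_mul f.ψ, f.map_0, f.map_1, ← map_mul, ← map_mul (SemidirectProduct.inr : W →* Mf)]

include f in
/-- Elements of order three commuting with the double flip and the first line lie on it. -/
theorem double_line {g : G} (hg : g ^ 3 = 1)
    (hgd : g * h.emb hk (mw (wf2 * wf3)) = h.emb hk (mw (wf2 * wf3)) * g)
    (hge : g * h.j e1 = h.j e1 * g) : g ∈ zpowers (h.j e1) := by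
  obtain ⟨k, x, rfl⟩ := f.dec g hge
  rw [((f.comm_e x).pow_left _).mul_pow] at hg
  rw [← pow_mul, mul_comm, pow_mul, h.J_cube _ (h.j_mem e1), one_pow, one_mul, ← map_pow] at hg
  have hx3 : x * x * x = 1 := by
    have := f.inj (hg.trans (map_one _).symm)
    rwa [pow_three, ← mul_assoc] at this
  rw [f.double_eq] at hgd
  have hcomm : f.ψ x * f.ψ (p0 * p1) = f.ψ (p0 * p1) * f.ψ x := mul_left_cancel (a := h.j e1 ^ (k : ℕ)) (by
    rw [← mul_assoc, hgd, ← mul_assoc, ← mul_assoc, ((f.comm_e (p0 * p1)).pow_left (k : ℕ)).eq])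
  rw [← map_mul, ← map_mul] at hcomm
  rw [double_three x hx3 (f.inj hcomm), map_one, mul_one]
  exact pow_mem (mem_zpowers _) _

include f in
/-- The double flip commutes with no conjugate of the given element. -/
theorem noX_double (F : h.Facts) : h.NoX (h.emb hk (mw (wf2 * wf3))) :=
  h.noX_of_line F (v := e1) (by decide +kernel) (by rw [hk]; exact vec_types.2.2.2.2.2.2.1)
    ((h.emb_comm_iff hk _ _).2 frame_acts.2.2.2.2.2.2.2.2.2.2.2.2.1)
    fun _ hg hgd hge => f.double_line hg hgd hge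

include f in
/-- The flip is not conjugate to the double flip. -/
theorem flip_not_double : ¬ IsConj (h.emb hk (mw wf)) (h.emb hk (mw (wf2 * wf3))) := by
  intro hc
  obtain ⟨g, hg⟩ := isConj_iff.1 hc
  obtain ⟨-, -, -, -, -, -, -, -, -, -, -, -, hd, hf2, hf3, hind⟩ := frame_acts
  set d := h.emb hk (mw (wf2 * wf3))
  have hcm : ∀ v, act wf v = v → g * h.j v * g⁻¹ * d = d * (g * h.j v * g⁻¹) := fun v hv => by
    rw [← hg]
    calc _ = g * (h.j v * h.emb hk (mw wf)) * g⁻¹ := by group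
      _ = g * (h.emb hk (mw wf) * h.j v) * g⁻¹ := by rw [(h.emb_comm_iff hk wf v).2 hv]
      _ = _ := by group
  have hj : ∀ v, (g * h.j v * g⁻¹) ^ 3 = 1 := fun v => by
    rw [conj_pow, h.J_cube _ (h.j_mem v), mul_one, mul_inv_cancel]
  have he0 : e1 ≠ (1 : A) := by decide +kernel
  obtain ⟨c, hc1, hc2⟩ := three_line (h.J_cube _ (h.j_mem e1)) (h.j_ne he0)
    ((h.emb_comm_iff hk _ _).2 hd) (fun _ a b e => f.double_line a b e) (hj e2) (hcm e2 hf2)
  have e2c : c * (g * h.j e2 * g⁻¹) * c⁻¹ = c * g * h.j e2 * (c * g)⁻¹ := by group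
  rw [e2c] at hc2
  have hne2 : c * g * h.j e2 * (c * g)⁻¹ ≠ 1 := fun e =>
    h.j_ne (show e2 ≠ (1 : A) by decide +kernel) (conj_eq_one_iff.1 e)
  have he1mem : h.j e1 ∈ zpowers (c * g * h.j e2 * (c * g)⁻¹) := by
    rw [eq_of_le_of_card_ge (zpowers_le.2 hc2) (by
      rw [Nat.card_zpowers, Nat.card_zpowers, h.order_j he0,
        orderOf_eq_prime (by rw [conj_pow, h.J_cube _ (h.j_mem e2), mul_one, mul_inv_cancel]) hne2])]
    exact mem_zpowers _
  have h3 : c * (g * h.j e3 * g⁻¹) * c⁻¹ ∈ zpowers (h.j e1) := by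
    refine f.double_line (by rw [conj_pow, hj, mul_one, mul_inv_cancel]) ?_ ?_
    · exact (((show Commute c d from hc1).mul_left (hcm e3 hf3)).mul_left
        (show Commute c d from hc1).inv_left).eq
    · obtain ⟨n, hn⟩ := mem_zpowers_iff.1 he1mem
      rw [← hn, show c * (g * h.j e3 * g⁻¹) * c⁻¹ = c * g * h.j e3 * (c * g)⁻¹ by group]
      exact (((show Commute (h.j e3) (h.j e2) from h.j_comm e3 e2).conj (c * g)).zpow_right n).eq
  obtain ⟨n, hn⟩ := mem_zpowers_iff.1 he1mem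
  obtain ⟨m, hm⟩ := mem_zpowers_iff.1 h3
  rw [← hn, ← zpow_mul, conj_zpow, show c * (g * h.j e3 * g⁻¹) * c⁻¹ = c * g * h.j e3 * (c * g)⁻¹ by group,
    mul_left_inj, mul_right_inj, ← map_zpow] at hm
  rcases A9ThreeLocal.zpowers_three_cases (A_cube e2) (mem_zpowers_iff.2 ⟨_, h.j_inj hm⟩) with e | e | e
  · exact hind 0 (by simpa using e)
  · exact hind 1 (by simpa using e)
  · exact hind 2 (e.trans e2_inv)

include f in
/-- The products of the flip with the involutions of the complement commuting with the exchange commute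
with no conjugate of the given element. -/
theorem noX_flip_mul (F : h.Facts) {σ : P6} (hs : σ * σ = 1) (hsw : σ * pw = pw * σ) :
    h.NoX (h.emb hk (mw wf) * f.ψ σ) := by
  obtain ⟨π, -, hπ⟩ := pConj_spec σ hs hsw
  have key : h.NoX (h.emb hk (mw wf) * f.ψ (π * σ * π⁻¹)) := by
    rcases hπ with e | e | e | e <;> rw [e]
    · rw [map_one, mul_one]; exact h.noX_flip hk F
    · rw [f.map_0, ← map_mul, ← map_mul (SemidirectProduct.inr : W →* Mf)]
      have := h.noX_conj (f.noX_double F) (h.emb hk (mw wc))⁻¹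
      rwa [← frame_acts.2.2.2.2.2.2.2.1, h.mw_conj, inv_inv,
        show (h.emb hk (mw wc))⁻¹ * (h.emb hk (mw wc) * h.emb hk (mw (wf * wf2)) * (h.emb hk (mw wc))⁻¹) *
          h.emb hk (mw wc) = h.emb hk (mw (wf * wf2)) by group] at this
    · rw [← f.double_eq, ← map_mul, ← map_mul (SemidirectProduct.inr : W →* Mf), ← mul_assoc]
      obtain ⟨-, -, -, -, -, -, -, -, -, -, h1, h2, -⟩ := frame_acts
      have e2 : h.emb hk (mw (wf * wf2 * wf3)) * h.emb hk (mw (wf * wf2 * wf3)) = 1 := by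
        rw [← map_mul, ← map_mul (SemidirectProduct.inr : W →* Mf), h2, map_one, map_one]
      refine h.noX_of_inv F hk e2 ?_
      nth_rw 2 [← inv_eq_of_mul_eq_one_right e2]
      show _ * h.j xA * _ = _
      rw [h.conj_w hk, h1, map_inv]
    · rw [f.map_w, ← h.tau_emb hk, ← map_mul, ← map_mul (SemidirectProduct.inr : W →* Mf)]; exact h.noX_flip_tau hk F
  have e : h.emb hk (mw wf) * f.ψ σ =
      (f.ψ π)⁻¹ * (h.emb hk (mw wf) * f.ψ (π * σ * π⁻¹)) * (f.ψ π)⁻¹⁻¹ := by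
    rw [map_mul, map_mul, map_inv, inv_inv, ← mul_assoc (f.ψ π)⁻¹, (f.comm_f π).inv_right.symm.eq]
    group
  rw [e]; exact h.noX_conj key _

end Frame

end Conf

end Cfsg.Agent.Sp6Local
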