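import Cfsg.Agent.Sp6Local.Six
import Cfsg.Agent.Sp6Local.CoordX
import Cfsg.Agent.Sym9ThreeLocal.BigClass

/-!
# Involutions commuting with no conjugate of the given element, and fusion of involutions
-/

set_option autoImplicit false
set_option synthInstance.maxSize 4000
set_option synthInstance.maxHeartbeats 400000

namespace Cfsg.Agent.Sp6Local

open Cfsg Cfsg.Agent Subgroup Cfsg.Agent.Sym9ThreeLocal

universe u

/-- The vector fixed by the exchange and having first coordinate zero. -/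
def vu : A := vec 0 1 1

theorem vec_types : vu ≠ 1 ∧ vz ≠ 1 ∧
    (∀ k, ¬ EType k vz) ∧ ¬ EType .eight vu ∧ ¬ XLike .eight vu ∧ ¬ XLike .eight vz ∧ ¬ XLike .eight e1 ∧
    act wt vu = vu ∧ act (wf * wt) vu = vu ∧ vz ^ 3 = 1 ∧ e2 ∉ ({1, e3, e3 * e3} : Finset A) := by
  decide +kernel

theorem e2_inv : e2⁻¹ = e2 ^ ((2 : Fin 3) : ℕ) := by decide +kernel

theorem inv_line_model :
    (∀ m : Mf, m ^ 3 = 1 → act m.right vu = vu → m * mw (wf * wt) = mw (wf * wt) * m →
      ∃ i : Fin 3, m = ma (vu ^ (i : ℕ))) ∧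
    (∀ n : Mf, act n.right xA = xA⁻¹ → act n.right vz = vz → n * n = 1 → ∀ b : A, act n.right b = b →
      ∃ i : Fin 3, b = vz ^ (i : ℕ)) ∧
    (∀ u : W, u ^ 3 = 1 → act u vz = vz → u = 1) := by
  decide +kernel

/-- An element of order three self-centralising among those of the centraliser of `z` carries all of them. -/
theorem three_line {G : Type u} [Group G] [Finite G] {z y : G} (hy : y ^ 3 = 1) (hy1 : y ≠ 1)
    (hzy : z * y = y * z) (hline : ∀ g : G, g ^ 3 = 1 → g * z = z * g → g * y = y * g → g ∈ zpowers y)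
    {g : G} (hg : g ^ 3 = 1) (hgz : g * z = z * g) :
    ∃ c : G, c * z = z * c ∧ c * g * c⁻¹ ∈ zpowers y := by
  classical
  haveI : Fact (Nat.Prime 3) := ⟨Nat.prime_three⟩
  set C := centralizer ({z} : Set G) with hC
  have hyC : y ∈ C := mem_centralizer_singleton_iff.2 hzy.symm
  have hgC : g ∈ C := mem_centralizer_singleton_iff.2 hgz
  set yC : C := ⟨y, hyC⟩ with hyCd
  set gC : C := ⟨g, hgC⟩
  have hp : ∀ (t : C), (t : G) ^ 3 = 1 → IsPGroup 3 (zpowers t) := fun t ht a => ⟨1, by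
    obtain ⟨n, hn⟩ := mem_zpowers_iff.1 a.2
    refine Subtype.ext ?_
    show (a : C) ^ 3 ^ 1 = 1
    rw [pow_one, ← hn, ← zpow_natCast, ← zpow_mul, mul_comm, zpow_mul, zpow_natCast,
      show t ^ 3 = 1 from Subtype.ext ht, one_zpow]⟩
  obtain ⟨P, hP⟩ := (hp yC hy).exists_le_sylow
  obtain ⟨Q, hQ⟩ := (hp gC hg).exists_le_sylow
  haveI : Nontrivial P := ⟨⟨⟨yC, hP (mem_zpowers _)⟩, 1, fun e => hy1
    (congrArg (fun t : P => ((t : C) : G)) e)⟩⟩
  haveI := P.2.center_nontrivial
  obtain ⟨w, hw3⟩ := exists_prime_orderOf_dvd_card' (G := center P) 3 (by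
    obtain ⟨n, hn⟩ := IsPGroup.iff_card.1 (P.2.to_subgroup (center P))
    rw [hn]
    refine dvd_pow_self 3 fun e => ?_
    have h1 := Finite.one_lt_card (α := center P)
    rw [hn, e, pow_zero] at h1
    exact lt_irrefl _ h1)
  have hwc : ∀ p : P, (((w : P) : C) : G) * ((p : C) : G) = ((p : C) : G) * (((w : P) : C) : G) :=
    fun p => congrArg (fun t : P => ((t : C) : G)) (mem_center_iff.1 w.2 p).symm
  have hwy := hwc ⟨yC, hP (mem_zpowers _)⟩
  have hw : (((w : P) : C) : G) ∈ zpowers y := by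
    refine hline _ ?_ (mem_centralizer_singleton_iff.1 ((w : P) : C).2) hwy
    have : w ^ 3 = 1 := orderOf_dvd_iff_pow_eq_one.1 (dvd_of_eq hw3)
    exact congrArg (fun t : center P => (((t : P) : C) : G)) this
  have hw1 : (((w : P) : C) : G) ≠ 1 := fun e => by
    have : w = 1 := Subtype.ext (Subtype.ext (Subtype.ext e))
    rw [this, orderOf_one] at hw3
    norm_num at hw3
  have hyw : y ∈ zpowers (((w : P) : C) : G) := by
    have he : zpowers (((w : P) : C) : G) = zpowers y := eq_of_le_of_card_ge (zpowers_le.2 hw) (by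
      rw [Nat.card_zpowers, Nat.card_zpowers, orderOf_eq_prime hy hy1,
        show orderOf (((w : P) : C) : G) = 3 by
          rw [orderOf_coe, orderOf_coe, orderOf_coe, hw3]])
    rw [he]; exact mem_zpowers y
  obtain ⟨c, hc⟩ := MulAction.exists_smul_eq C Q P
  refine ⟨c, mem_centralizer_singleton_iff.1 c.2, ?_⟩
  have hm : c * gC * c⁻¹ ∈ (P : Subgroup C) := by
    rw [← hc, Sylow.coe_subgroup_smul]; exact ⟨_, hQ (mem_zpowers _), rfl⟩
  refine hline _ (by rw [conj_pow, hg, mul_one, mul_inv_cancel])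
    (mem_centralizer_singleton_iff.1 (c * gC * c⁻¹).2) ?_
  obtain ⟨n, hn⟩ := mem_zpowers_iff.1 hyw
  rw [← hn]
  exact ((show Commute ((c : G) * g * (c : G)⁻¹) (((w : P) : C) : G) from
    (hwc ⟨_, hm⟩).symm).zpow_right n).eq

/-- The image in the automiser of an element of finite order of the model. -/
theorem right_pow_one {k : Kind} {a : A} {w : KG k} {n : ℕ} (h : (inlA k a * inrK k w) ^ n = 1) :
    (w : W) ^ n = 1 := by
  have h1 : (ma a * mw (w : W) : Mf) ^ n = 1 := congrArg Subtype.val h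
  have := congrArg SemidirectProduct.rightHom h1
  rw [map_pow, map_mul, map_one] at this
  simpa using this

namespace Conf

variable {G : Type u} [Group G] [Finite G] (h : Conf G)

theorem tau_comm_x : h.tau * h.x = h.x * h.tau :=
  mul_inv_eq_iff_eq_mul.1 ((h.conj_j _ _).trans (congrArg h.j (show act wt xA = xA by decide +kernel)))

theorem tau_sq' : h.tau * h.tau = 1 := by
  show h.q _ * h.q _ = 1
  rw [← map_mul, show (⟨wt, inK_wt h.k⟩ * ⟨wt, inK_wt h.k⟩ : KG h.k) = 1 from
    Subtype.ext (show wt * wt = 1 by decide +kernel), map_one]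

theorem tau_ne' : h.tau ≠ 1 := fun e =>
  absurd (congrArg Subtype.val (h.q_inj (e.trans h.q.map_one.symm))) (show ¬ wt = (1 : W) by decide +kernel)

/-- An involution centralising the given element differs from the distinguished one by the extraspecial
subgroup, inside a single class of the centraliser. -/
theorem exists_conj_tau {z : G} (hzx : z * h.x = h.x * z) (hz2 : z * z = 1) (hz1 : z ≠ 1) :
    ∃ r ∈ h.R, r * h.tau * r⁻¹ = z := by
  obtain ⟨f, -, hf⟩ := h.projX'
  obtain ⟨S, -, -, hu⟩ := sl3_minus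
  have hfne : ∀ (d : centralizer ({h.x} : Set G)), (d : G) * d = 1 → (d : G) ≠ 1 → f d ≠ 1 := by
    intro d hd hd1 e
    have h3 := h.cubeR _ ((hf d).1 e)
    rw [pow_succ, pow_two, hd, one_mul] at h3
    exact hd1 h3
  set zC : centralizer ({h.x} : Set G) := ⟨z, mem_centralizer_singleton_iff.2 hzx⟩
  set tC : centralizer ({h.x} : Set G) := ⟨h.tau, mem_centralizer_singleton_iff.2 h.tau_comm_x⟩
  have e1 := hu (f zC) (by rw [← map_mul, show zC * zC = 1 from Subtype.ext hz2, map_one]) (hfne zC hz2 hz1)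
  have e2 := hu (f tC) (by rw [← map_mul, show tC * tC = 1 from Subtype.ext h.tau_sq', map_one])
    (hfne tC h.tau_sq' h.tau_ne')
  have hr : h.tau * z ∈ h.R := (hf (tC * zC)).1 (by
    rw [map_mul, e2, ← e1, ← map_mul, show zC * zC = 1 from Subtype.ext hz2, map_one])
  set r := h.tau * z with hrd
  have hzr : z = h.tau * r := by rw [hrd, ← mul_assoc, h.tau_sq', one_mul]
  have hinv : h.tau * r * h.tau = r⁻¹ := eq_inv_of_mul_eq_one_left (by
    rw [← hz2, hzr]; group)
  refine ⟨r, hr, ?_⟩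
  have hr3 := h.cubeR r hr
  have hti : h.tau⁻¹ = h.tau := inv_eq_of_mul_eq_one_right h.tau_sq'
  have h5 : r⁻¹ * r⁻¹ = r := by
    have h6 : r⁻¹ * r⁻¹ * (r ^ 3) = r := by rw [pow_three]; group
    rwa [hr3, mul_one] at h6
  calc r * h.tau * r⁻¹ = h.tau * (h.tau⁻¹ * r * h.tau) * r⁻¹ := by group
    _ = h.tau * (r⁻¹ * r⁻¹) := by rw [hti, hinv]; group
    _ = z := by rw [h5, hzr]

/-- The given centraliser is the product of the extraspecial subgroup and the centraliser of the involution. -/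
theorem exists_cent_tau {c : G} (hc : c * h.x = h.x * c) :
    ∃ r ∈ h.R, r⁻¹ * c * h.tau = h.tau * (r⁻¹ * c) := by
  have hcx : Commute c h.x := hc
  have htx : Commute h.tau h.x := h.tau_comm_x
  obtain ⟨r, hr, e⟩ := h.exists_conj_tau (z := c * h.tau * c⁻¹)
    ((hcx.mul_left htx).mul_left hcx.inv_left).eq
    (by rw [show c * h.tau * c⁻¹ * (c * h.tau * c⁻¹) = c * (h.tau * h.tau) * c⁻¹ by group, h.tau_sq',
      mul_one, mul_inv_cancel])
    (fun e => h.tau_ne' (conj_eq_one_iff.1 e))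
  refine ⟨r, hr, mul_inv_eq_iff_eq_mul.1 ?_⟩
  calc r⁻¹ * c * h.tau * (r⁻¹ * c)⁻¹ = r⁻¹ * (c * h.tau * c⁻¹) * r := by group
    _ = h.tau := by rw [← e]; group

/-- Commuting with no conjugate of the given element. -/
def NoX (z : G) : Prop := ∀ g : G, z * (g * h.x * g⁻¹) ≠ g * h.x * g⁻¹ * z

theorem not_conj_tau {z : G} (hz : h.NoX z) : ¬ IsConj h.tau z := by
  intro hc
  obtain ⟨g, rfl⟩ := isConj_iff.1 hc
  exact hz g (by
    calc g * h.tau * g⁻¹ * (g * h.x * g⁻¹) = g * (h.tau * h.x) * g⁻¹ := by group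
      _ = _ := by rw [h.tau_comm_x]; group)

theorem noX_conj {z : G} (hz : h.NoX z) (c : G) : h.NoX (c * z * c⁻¹) := fun g e => hz (c⁻¹ * g) (by
  calc z * (c⁻¹ * g * h.x * (c⁻¹ * g)⁻¹) = c⁻¹ * (c * z * c⁻¹ * (g * h.x * g⁻¹)) * c := by group
    _ = _ := by rw [e]; group)

/-- A single line of three-elements unlike the diagonal. -/
theorem noX_of_line (F : h.Facts) {z : G} {v : A} (hv : v ≠ 1) (hx : ¬ XLike h.k v)
    (hzv : z * h.j v = h.j v * z)
    (hline : ∀ g : G, g ^ 3 = 1 → g * z = z * g → g * h.j v = h.j v * g → g ∈ zpowers (h.j v)) : h.NoX z := by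
  intro g hg
  obtain ⟨c, -, hc⟩ := three_line (h.J_cube _ (h.j_mem v)) (h.j_ne hv) hzv hline
    (g := g * h.x * g⁻¹) (by rw [conj_pow, h.J_cube _ (h.j_mem xA), mul_one, mul_inv_cancel]) hg.symm
  have e0 : c * (g * h.x * g⁻¹) * c⁻¹ = c * g * h.x * (c * g)⁻¹ := by group
  rw [e0] at hc
  obtain ⟨i, hi⟩ := mem_zpowers_iff.1 hc
  rw [← map_zpow] at hi
  obtain ⟨w, hw, hwv⟩ := F.ctrl (c * g) xA (v ^ i) xA_ne hi.symm
  rcases A9ThreeLocal.zpowers_three_cases (A_cube v) (mem_zpowers_iff.2 ⟨i, rfl⟩) with e | e | e <;>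
    rw [e] at hwv
  · exact h.j_ne xA_ne (conj_eq_one_iff.1 (hi.symm.trans (by rw [e, map_one])))
  · exact hx ⟨w, hw, Or.inl hwv⟩
  · exact hx ⟨w, hw, Or.inr hwv⟩

/-- An element inverting the given one fixes an element of the extraspecial subgroup outside the centre. -/
theorem exists_fixed {i : G} (hi2 : i * i = 1) (hix : i * h.x * i = h.x⁻¹) :
    ∃ r ∈ h.R, r ∉ zpowers h.x ∧ i * r = r * i := by
  classical
  have hii : i⁻¹ = i := inv_eq_of_mul_eq_one_right hi2
  have hline : ∀ t ∈ zpowers h.x, i * t * i = t⁻¹ := fun t ht => by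
    obtain ⟨n, rfl⟩ := mem_zpowers_iff.1 ht
    have h1 : i * h.x * i⁻¹ = h.x⁻¹ := by rw [hii]; exact hix
    have h2 := congrArg (fun y => y ^ n) h1
    simp only [conj_zpow, inv_zpow] at h2
    rwa [hii] at h2
  have hflip : ∀ y : G, Commute y h.x → i * y * i * h.x = h.x * (i * y * i) := by
    intro y hy
    have hxi : i * h.x⁻¹ * i = h.x := by
      calc i * h.x⁻¹ * i = i * (i * h.x * i) * i := by rw [hix]
        _ = i * i * h.x * (i * i) := by group
        _ = h.x := by rw [hi2]; simp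
    calc i * y * i * h.x = i * y * (i * h.x * i) * i⁻¹ := by group
      _ = i * (y * h.x⁻¹) * i := by rw [hix, hii]; group
      _ = i * (h.x⁻¹ * y) * i := by rw [hy.inv_right.eq]
      _ = i * (h.x⁻¹ * (i * i) * y) * i := by rw [hi2, mul_one]
      _ = i * h.x⁻¹ * i * (i * y * i) := by group
      _ = _ := by rw [hxi]
  have hR : ∀ r ∈ h.R, i * r * i ∈ h.R := by
    intro r hr
    have hC : i * r * i * h.x = h.x * (i * r * i) := hflip r (h.x_comm_R hr)
    obtain ⟨f, hfs, hf⟩ := h.projX'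
    set g : centralizer ({h.x} : Set G) := ⟨i * r * i, mem_centralizer_singleton_iff.2 hC⟩ with hg
    refine (hf g).1 ?_
    have h3 : (f g) ^ 3 = 1 := by
      rw [← map_pow, show g ^ 3 = 1 from Subtype.ext (by
        show (i * r * i) ^ 3 = 1
        nth_rw 2 [← hii]
        rw [conj_pow, h.cubeR r hr, mul_one, mul_inv_cancel]), map_one]
    -- the image is a normal three-subgroup
    by_contra hne
    obtain ⟨⟨X, hX⟩, -, -⟩ := sl3_cube (f g) h3 hne (-1) (by decide +kernel) (by decide +kernel)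
    obtain ⟨x', rfl⟩ := hfs X
    have hxC : i * (x' : G) * i * h.x = h.x * (i * (x' : G) * i) :=
      hflip _ (mem_centralizer_singleton_iff.1 x'.2)
    set y' := i * (x' : G) * i with hy'
    have hr' : y' * r * y'⁻¹ ∈ h.R := h.R_normal hxC hr
    have hmem : ∀ n : ℕ, ((g * (x' * g * x'⁻¹)) ^ n : centralizer ({h.x} : Set G)).1 =
        i * (r * (y' * r * y'⁻¹)) ^ n * i := fun n => by
      have h1 := conj_pow (a := i) (b := r * (y' * r * y'⁻¹)) (i := n)
      rw [hii] at h1
      rw [← h1, SubmonoidClass.coe_pow]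
      congr 1
      show i * r * i * ((x' : G) * (i * r * i) * (x' : G)⁻¹) = _
      have e : (x' : G) = i * y' * i := by
        rw [hy']
        calc (x' : G) = i * i * (x' : G) * (i * i) := by rw [hi2]; simp
          _ = _ := by group
      rw [e, mul_inv_rev, mul_inv_rev, hii]
      calc i * r * i * (i * y' * i * (i * r * i) * (i * (y'⁻¹ * i)))
          = i * r * (i * i) * y' * (i * i) * r * (i * i) * y'⁻¹ * i := by group
        _ = _ := by rw [hi2]; group
    have hpow : ∀ n : ℕ, f ((g * (x' * g * x'⁻¹)) ^ n) ≠ -1 := by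
      intro n e
      have h27 : ((g * (x' * g * x'⁻¹)) ^ n) ^ 3 = 1 := Subtype.ext (by
        rw [SubmonoidClass.coe_pow, hmem]
        have h1 := conj_pow (a := i) (b := (r * (y' * r * y'⁻¹)) ^ n) (i := 3)
        rw [hii] at h1
        rw [h1, h.cubeR _ (pow_mem (mul_mem hr hr') n), mul_one, hi2]
        rfl)
      have h2 := congrArg f h27
      rw [map_pow, e, map_one] at h2
      exact absurd h2 (by decide +kernel)
    rcases hX with e | e
    · exact hpow 3 (by rw [map_pow, map_mul, map_mul, map_mul, map_inv, e])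
    · exact hpow 2 (by rw [map_pow, map_mul, map_mul, map_mul, map_inv, e])
  let θ : h.R →* h.R := MonoidHom.mk' (fun r => ⟨i * r * i, hR r r.2⟩) fun r s => Subtype.ext (by
    show i * ((r : G) * s) * i = i * r * i * (i * s * i)
    calc i * ((r : G) * s) * i = i * r * (i * i) * s * i := by rw [hi2]; group
      _ = _ := by group)
  by_contra hnone
  push Not at hnone
  have hinj : Function.Injective fun r : h.R => r⁻¹ * θ r := by
    intro r s e
    have hfix : θ (s * r⁻¹) = s * r⁻¹ := by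
      rw [map_mul, map_inv]
      change r⁻¹ * θ r = s⁻¹ * θ s at e
      calc θ s * (θ r)⁻¹ = s * (s⁻¹ * θ s) * (r⁻¹ * θ r)⁻¹ * r⁻¹ := by group
        _ = _ := by rw [e]; group
    have hG : i * ((s * r⁻¹ : h.R) : G) = ((s * r⁻¹ : h.R) : G) * i := by
      have := congrArg Subtype.val hfix
      change i * ((s * r⁻¹ : h.R) : G) * i = _ at this
      nth_rw 2 [← this]
      rw [mul_assoc, hi2, mul_one]
    by_cases hm : ((s * r⁻¹ : h.R) : G) ∈ zpowers h.x
    · have h1 := hline _ hm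
      rw [hG, mul_assoc, hi2, mul_one] at h1
      have h3 := h.cubeR _ (s * r⁻¹ : h.R).2
      rw [pow_succ, pow_two] at h3
      have hsq : ((s * r⁻¹ : h.R) : G) * ((s * r⁻¹ : h.R) : G) = 1 := by
        nth_rw 2 [h1]; exact mul_inv_cancel _
      rw [hsq, one_mul] at h3
      exact (mul_inv_eq_one.1 (Subtype.ext h3 : s * r⁻¹ = 1)).symm
    · exact absurd hG (hnone _ (s * r⁻¹ : h.R).2 hm)
  have hall : ∀ r : h.R, θ r = r⁻¹ := fun r => by
    obtain ⟨s, rfl⟩ := (Finite.injective_iff_surjective.1 hinj) r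
    show θ (s⁻¹ * θ s) = (s⁻¹ * θ s)⁻¹
    have hθθ : θ (θ s) = s := Subtype.ext (by
      show i * (i * (s : G) * i) * i = s
      calc i * (i * (s : G) * i) * i = i * i * s * (i * i) := by group
        _ = s := by rw [hi2]; simp)
    rw [map_mul, map_inv, hθθ, mul_inv_rev, inv_inv]
  have hc : ∀ r s : h.R, r * s = s * r := fun r s => by
    have h1 := hall (r * s)
    rw [map_mul, hall, hall, mul_inv_rev] at h1
    calc r * s = r * s * (r⁻¹ * s⁻¹) * (s * r) := by group
      _ = r * s * (s⁻¹ * r⁻¹) * (s * r) := by rw [h1]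
      _ = _ := by group
  have hle : h.R ≤ zpowers h.x := fun r hr => (h.centerR' r).2 ⟨hr, fun s hs =>
    congrArg Subtype.val (hc ⟨r, hr⟩ ⟨s, hs⟩)⟩
  have := card_le_of_le hle
  rw [h.cardR, Nat.card_zpowers, h.order_j xA_ne] at this
  omega

variable (hk : h.k = .eight)

theorem split_emb {g : G} (hg : g ∈ h.N) : ∃ (a : A) (w : W), g = h.emb hk (ma a * mw w) ∧
    ∀ b, g * h.j b * g⁻¹ = h.j (act w b) := by
  obtain ⟨w, hw, c, rfl⟩ := h.exists_act hg
  exact ⟨c, w, by rw [map_mul]; rfl, hw⟩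

theorem emb_right_eq_one {a : A} {w : W} {n : ℕ} (hn : h.emb hk (ma a * mw w) ^ n = 1) : w ^ n = 1 := by
  rw [← map_pow, ← map_one (h.emb hk)] at hn
  have := congrArg SemidirectProduct.rightHom (h.emb_injective hk hn)
  rw [map_pow, map_mul, map_one] at this
  simpa using this

/-- Elements of order three centralising the flipped line are conjugate into the fixed part of the
elementary subgroup. -/
theorem three_cent_flip (F : h.Facts) {y : G} (hy : y ^ 3 = 1)
    (hys : y * h.emb hk (mw wf) = h.emb hk (mw wf) * y) :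
    ∃ c : G, c * h.emb hk (mw wf) = h.emb hk (mw wf) * c ∧ ∃ p, c * y * c⁻¹ = h.j (pr p) := by
  classical
  haveI : Fact (Nat.Prime 3) := ⟨Nat.prime_three⟩
  obtain ⟨k1, k2, k3, k4, -, -, ⟨k7, -, -⟩, -, -, ⟨-, -, k10, k11⟩, -, kv⟩ := cls_acts
  set s := h.emb hk (mw wf) with hs
  set C := centralizer ({s} : Set G) with hC
  let E : Subgroup G :=
    { carrier := {g | ∃ p, h.j (pr p) = g}
      one_mem' := ⟨0, by rw [show pr 0 = 1 from rfl, map_one]⟩
      mul_mem' := by
        rintro _ _ ⟨p, rfl⟩ ⟨q, rfl⟩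
        exact ⟨p + q, by rw [(pr_mul p q).1, map_mul]⟩
      inv_mem' := by
        rintro _ ⟨p, rfl⟩
        refine ⟨-p, eq_inv_of_mul_eq_one_left ?_⟩
        rw [← map_mul, ← (pr_mul _ _).1, neg_add_cancel, show pr 0 = 1 from rfl, map_one] }
  have hEC : E ≤ C := by
    rintro _ ⟨p, rfl⟩
    refine mem_centralizer_singleton_iff.2 ?_
    rw [eq_comm, ← mul_inv_eq_iff_eq_mul, hs, h.conj_w hk, pr, k4]
  have hE3 : IsPGroup 3 E := fun g => by
    obtain ⟨p, hp⟩ := g.2
    exact ⟨1, Subtype.ext (by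
      rw [SubmonoidClass.coe_pow, ← hp, pow_one]; exact h.J_cube _ (h.j_mem _))⟩
  obtain ⟨P, hP⟩ := (hE3.comap_subtype (K := C)).exists_le_sylow
  set PG := (P : Subgroup C).map C.subtype with hPG
  have hPC : PG ≤ C := map_subtype_le _
  have hEP : E ≤ PG := fun g hg => ⟨⟨g, hEC hg⟩, hP hg, rfl⟩
  have hPp : IsPGroup 3 PG := P.2.map _
  have hPE : PG ≤ E := by
    by_contra hne
    have hlt : E.subgroupOf PG < ⊤ := lt_top_iff_ne_top.2 fun e => hne (subgroupOf_eq_top.1 e)
    haveI : Group.IsNilpotent PG := hPp.isNilpotent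
    obtain ⟨g, hgN, hgE⟩ := SetLike.exists_of_lt (Group.normalizerCondition_of_isNilpotent _ hlt)
    have hnorm : ∀ z : G, z ∈ E → (g : G) * z * (g : G)⁻¹ ∈ E ∧ (g : G)⁻¹ * z * g ∈ E := fun z hz => by
      refine ⟨(mem_normalizer_iff.1 hgN ⟨z, hEP hz⟩).1 hz, ?_⟩
      have := (mem_normalizer_iff.1 (inv_mem hgN) ⟨z, hEP hz⟩).1 hz
      simpa [mem_subgroupOf, mul_assoc] using this
    have he2 : h.j e2 ∈ E := ⟨(1, 0), rfl⟩
    have he3 : h.j e3 ∈ E := ⟨(0, 1), rfl⟩
    -- the conjugate of the first vector is in the elementary subgroup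
    have hc : ∀ z : G, z ∈ E → Commute ((g : G) * h.j e1 * (g : G)⁻¹) z := fun z hz => by
      obtain ⟨q, hq⟩ := (hnorm z hz).2
      have h1 : Commute (h.j e1) ((g : G)⁻¹ * z * g) := hq ▸ h.j_comm e1 (pr q)
      have h2 := h1.conj (g : G)
      rwa [show (g : G) * ((g : G)⁻¹ * z * g) * (g : G)⁻¹ = z by group] at h2
    have h23 : e3 ∉ zpowers e2 := fun e => by
      rcases A9ThreeLocal.zpowers_three_cases (A_cube e2) e with e' | e' | e'
      · exact k11 0 (by simpa using e')
      · exact k11 1 (by simpa using e')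
      · exact k11 2 (e'.trans e2_inv)
    have h1N : (g : G) * h.j e1 * (g : G)⁻¹ ∈ h.N := F.pair e2 e3 k10 h23
      ⟨mem_centralizer_singleton_iff.2 (hc _ he2), mem_centralizer_singleton_iff.2 (hc _ he3)⟩
    obtain ⟨a, w, hgw, hact⟩ := h.split_emb hk h1N
    have hw1 : w = 1 := k1 w (h.j_inj (by rw [← hact, (hc _ he2).eq, mul_inv_cancel_right]))
      (h.j_inj (by rw [← hact, (hc _ he3).eq, mul_inv_cancel_right]))
      (h.emb_right_eq_one hk (by rw [← hgw, conj_pow, h.J_cube _ (h.j_mem _), mul_one, mul_inv_cancel]))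
    rw [hw1, show mw (1 : W) = 1 from map_one _, mul_one] at hgw
    have hgN' : (g : G) ∈ h.N := h.mem_N_iff.2 fun v => by
      obtain ⟨p, hp⟩ := (hnorm _ he2).1
      obtain ⟨q, hq⟩ := (hnorm _ he3).1
      have : ∀ x y z : ZMod 3, (g : G) * h.j (vec x y z) * (g : G)⁻¹ =
          h.j (a ^ x.val * pr p ^ y.val * pr q ^ z.val) := fun x y z => by
        rw [kv x y z]
        simp only [map_mul, map_pow, hp, hq, conj_pow]
        rw [← h.emb_a hk a, ← hgw, conj_pow]
        group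
      have hv : v = vec v.toAdd.1 v.toAdd.2.1 v.toAdd.2.2 := rfl
      rw [hv]
      exact ⟨_, this _ _ _⟩
    obtain ⟨b, w', hg', hact'⟩ := h.split_emb hk hgN'
    have hcs : (g : G) * s = s * g := mem_centralizer_singleton_iff.1 (hPC g.2)
    have hm : ma b * mw w' * mw wf = mw wf * (ma b * mw w') :=
      h.emb_injective hk (by rw [map_mul, map_mul (h.emb hk) (mw wf), ← hg', ← hs, hcs])
    have hwc : w' * wf = wf * w' := by
      have := congrArg SemidirectProduct.rightHom hm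
      simpa using this
    obtain ⟨i, hi⟩ := hPp g
    have h3i : w' ^ 3 ^ i = 1 := h.emb_right_eq_one hk
      (by rw [← hg']; exact congrArg Subtype.val hi)
    have hw' : w' = 1 := orderOf_eq_one_iff.1 (Nat.eq_one_of_dvd_coprimes
      (Nat.Coprime.pow i 4 (by norm_num : Nat.Coprime 3 2))
      (orderOf_dvd_of_pow_eq_one h3i) (orderOf_dvd_of_pow_eq_one (k2 w' hwc)))
    rw [hw', show mw (1 : W) = 1 from map_one _, mul_one] at hg'
    have hb : act wf b = b := h.j_inj (by
      rw [← h.conj_w hk, ← h.emb_a hk b, ← hg', ← hs, ← hcs, mul_inv_cancel_right])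
    obtain ⟨b2, b3, hb'⟩ := k3 b hb
    exact hgE (mem_subgroupOf.2 ⟨(b2, b3), by rw [hg', h.emb_a hk, hb']; rfl⟩)
  have hyp : IsPGroup 3 (zpowers y) := by
    intro g
    obtain ⟨n, hn⟩ := mem_zpowers_iff.1 g.2
    exact ⟨1, Subtype.ext (by
      rw [SubmonoidClass.coe_pow, ← hn, pow_one, ← zpow_natCast, ← zpow_mul, mul_comm, zpow_mul, zpow_natCast, hy,
        one_zpow, OneMemClass.coe_one])⟩
  obtain ⟨R, hR⟩ := (hyp.comap_subtype (K := C)).exists_le_sylow
  obtain ⟨c, hc⟩ := MulAction.exists_smul_eq C R P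
  have hyC : y ∈ C := mem_centralizer_singleton_iff.2 hys
  have hm : c * ⟨y, hyC⟩ * c⁻¹ ∈ (P : Subgroup C) := by
    rw [← hc, Sylow.coe_subgroup_smul]; exact ⟨_, hR (mem_zpowers y), rfl⟩
  obtain ⟨p, hp⟩ := hPE ⟨_, hm, rfl⟩
  exact ⟨c, mem_centralizer_singleton_iff.1 c.2, p, hp.symm⟩


theorem emb_comm_iff (w : W) (v : A) :
    h.emb hk (mw w) * h.j v = h.j v * h.emb hk (mw w) ↔ act w v = v := by
  rw [← mul_inv_eq_iff_eq_mul, h.conj_w hk, h.j_inj.eq_iff]

omit hk in
/-- An involution inverting the given element commutes with no conjugate of it, as soon as the second vector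
is unlike the diagonal. -/
theorem noX_of_inv' (F : h.Facts) (hXz : ¬ XLike h.k vz) {i : G} (hi2 : i * i = 1)
    (hix : i * h.x * i = h.x⁻¹) : h.NoX i := by
  classical
  obtain ⟨r, hr, hrx, hir⟩ := h.exists_fixed hi2 hix
  obtain ⟨c, hc, hcr⟩ := h.R_fuse hr hrx
  have hcx := mem_centralizer_singleton_iff.1 hc
  set z := c * i * c⁻¹ with hz
  suffices hnz : h.NoX z by
    have := h.noX_conj hnz c⁻¹
    rwa [hz, inv_inv, show c⁻¹ * (c * i * c⁻¹) * c = i by group] at this
  have hzv : z * h.j vz = h.j vz * z := by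
    rw [hz, ← hcr]
    calc c * i * c⁻¹ * (c * r * c⁻¹) = c * (i * r) * c⁻¹ := by group
      _ = _ := by rw [hir]; group
  have hzx : z * h.x * z⁻¹ = h.x⁻¹ := by
    have hii : i⁻¹ = i := inv_eq_of_mul_eq_one_right hi2
    have hc1 : c⁻¹ * h.x * c = h.x := by rw [mul_assoc, ← hcx, inv_mul_cancel_left]
    calc z * h.x * z⁻¹ = c * (i * (c⁻¹ * h.x * c) * i⁻¹) * c⁻¹ := by rw [hz]; group
      _ = c * h.x⁻¹ * c⁻¹ := by rw [hc1, hii, hix]
      _ = _ := by rw [(show Commute c h.x from hcx).inv_right.eq, mul_inv_cancel_right]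
  obtain ⟨-, -, hE, -⟩ := vec_types
  have hloc := F.loc vz vec_types.2.1 hXz (hE h.k)
  have hzN : z ∈ h.N := hloc (mem_centralizer_singleton_iff.2 hzv)
  obtain ⟨u, hact, b, hzu⟩ := h.exists_act hzN
  have hz2 : z * z = 1 := by
    rw [hz, show c * i * c⁻¹ * (c * i * c⁻¹) = c * (i * i) * c⁻¹ by group, hi2, mul_one, mul_inv_cancel]
  have hm2 : (ma b * mw (u : W)) * (ma b * mw (u : W)) = 1 :=
    congrArg Subtype.val (h.inj (a₁ := (inlA h.k b * inrK h.k u) * (inlA h.k b * inrK h.k u)) (a₂ := 1) (by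
      rw [map_mul, map_mul, map_one]
      show h.j b * h.q u * (h.j b * h.q u) = 1
      rw [← hzu]; exact hz2))
  have hright : (ma b * mw (u : W) : Mf).right = u := by simp
  have hu1 : act u xA = xA⁻¹ := h.j_inj (by rw [← hact, hzx, map_inv])
  have hu2 : act u vz = vz := h.j_inj (by rw [← hact, hzv, mul_inv_cancel_right])
  refine h.noX_of_line F vec_types.2.1 hXz hzv fun g hg hgz hgv => ?_
  have hgN : g ∈ h.N := hloc (mem_centralizer_singleton_iff.2 hgv)
  obtain ⟨w, hacg, a, rfl⟩ := h.exists_act hgN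
  have hw3 : (w : W) ^ 3 = 1 := by
    have h1 := h.inj (a₁ := (inlA h.k a * inrK h.k w) ^ 3) (a₂ := 1) (by
      rw [map_pow, map_mul, map_one]; exact hg)
    exact right_pow_one h1
  have hw : w = 1 := Subtype.ext (inv_line_model.2.2 _ hw3
    (h.j_inj (by rw [← hacg, hgv, mul_inv_cancel_right])))
  rw [hw, map_one, mul_one] at hgz ⊢
  obtain ⟨n, hn⟩ := inv_line_model.2.1 (ma b * mw (u : W)) (by rw [hright]; exact hu1) (by rw [hright]; exact hu2) hm2 a
    (by rw [hright]; exact h.j_inj (by rw [← hact, ← hgz, mul_inv_cancel_right]))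
  rw [hn, map_pow]; exact pow_mem (mem_zpowers _) _

/-- An involution inverting the given element commutes with no conjugate of it. -/
theorem noX_of_inv (F : h.Facts) (hk : h.k = .eight) {i : G} (hi2 : i * i = 1)
    (hix : i * h.x * i = h.x⁻¹) : h.NoX i :=
  h.noX_of_inv' F (by rw [hk]; exact vec_types.2.2.2.2.2.1) hi2 hix

/-- The flip commutes with no conjugate of the given element. -/
theorem noX_flip (F : h.Facts) : h.NoX (h.emb hk (mw wf)) := by
  intro g e
  obtain ⟨c, -, p, hp⟩ := h.three_cent_flip hk F (y := g * h.x * g⁻¹)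
    (by rw [conj_pow, h.J_cube _ (h.j_mem xA), mul_one, mul_inv_cancel]) e.symm
  obtain ⟨w, -, hw⟩ := F.ctrl (c * g) xA (pr p) xA_ne (by rw [← hp]; group)
  exact cls_acts.2.2.2.2.2.2.2.1 p.1 p.2 w hw

/-- The product of the flip and the exchange commutes with no conjugate of the given element. -/
theorem noX_flip_tau (F : h.Facts) : h.NoX (h.emb hk (mw (wf * wt))) := by
  obtain ⟨hv1, -, -, hE, hX, -, -, -, hfix, -⟩ := vec_types
  refine h.noX_of_line F hv1 (by rw [hk]; exact hX) ((h.emb_comm_iff hk _ _).2 hfix) fun g hg hgz hgv => ?_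
  have hgN : g ∈ h.N := F.loc vu hv1 (by rw [hk]; exact hX) (by rw [hk]; exact hE)
    (mem_centralizer_singleton_iff.2 hgv)
  obtain ⟨a, w, rfl, hacg⟩ := h.split_emb hk hgN
  have hw : act w vu = vu := h.j_inj (by rw [← hacg, hgv, mul_inv_cancel_right])
  obtain ⟨n, hn⟩ := inv_line_model.1 (ma a * mw w)
    (h.emb_injective hk (by rw [map_pow, hg, map_one])) (by simpa using hw)
    (h.emb_injective hk (by rw [map_mul, map_mul (h.emb hk) (mw (wf * wt))]; exact hgz))
  rw [hn, h.emb_a hk, map_pow]; exact pow_mem (mem_zpowers _) _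

end Conf

end Cfsg.Agent.Sp6Local
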