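import Cfsg.Agent.SympMult.SpSix

/-!
The symplectic group of dimension six over the field with two elements, with vectors coded by numbers
below sixty-four: bits `0 1 2` are `x₁ x₂ x₃`, bits `3 4 5` are `y₁ y₂ y₃`.
-/

set_option autoImplicit false

namespace Cfsg.Agent.Sp6Local

/-- The symplectic group. -/
abbrev Sp : Type := ↥(Matrix.symplecticGroup (Fin 3) (ZMod 2))

/-- The transvection of a coded vector. -/
noncomputable def tv (v : ℕ) : Sp := SympMult.SpSix.tvec (ZMod 2) v

/-- The vectors of the seven Coxeter generators of type `E₇`. -/
def e7Vec : Fin 7 → ℕ := ![32, 2, 6, 16, 3, 8, 1]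

/-- The transvection class representative. -/
noncomputable def spD : Sp := tv 1

/-- The involution exchanging two pairs. -/
noncomputable def spT : Sp := tv 6 * tv 48 * tv 54

/-- The product of two commuting transvections. -/
noncomputable def spB : Sp := tv 1 * tv 2

/-- The product of three commuting transvections. -/
noncomputable def spW : Sp := tv 1 * tv 2 * tv 4

end Cfsg.Agent.Sp6Local
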