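import Cfsg.Agent.Sp6Local.Rel
import Cfsg.Agent.Sp6Local.SpDefs
import Mathlib.GroupTheory.Perm.Sign
import Mathlib.GroupTheory.Coxeter.Matrix

/-!
# The seven involutions: Coxeter relations and the subgroup they generate
-/

set_option autoImplicit false
set_option synthInstance.maxSize 4000
set_option synthInstance.maxHeartbeats 400000

namespace Cfsg.Agent.Sp6Local

open Cfsg Cfsg.Agent Equiv Subgroup Cfsg.Agent.Sym9ThreeLocal

universe u

/-- The transpositions of the first complement behind the seven generators. -/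
def permA : Fin 7 → P6 := ![1, swap 4 5, 1, swap 3 4, swap 0 3, swap 0 1, swap 1 2]

/-- The transpositions of the second complement behind the seven generators. -/
def permB : Fin 7 → P6 := ![swap 3 4, swap 1 2, swap 0 3, swap 0 1, 1, 1, 1]

theorem e7_tableA : ∀ i j : Fin 7, i ≠ 0 → i ≠ 2 → j ≠ 0 → j ≠ 2 →
    (permA i * permA j) ^ (CoxeterMatrix.E₇.M i j) = 1 := by
  decide +kernel

theorem e7_tableB : ∀ i j : Fin 7, i ≠ 4 → i ≠ 5 → i ≠ 6 → j ≠ 4 → j ≠ 5 → j ≠ 6 →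
    (permB i * permB j) ^ (CoxeterMatrix.E₇.M i j) = 1 := by
  decide +kernel

theorem e7_tableC : ∀ i j : Fin 7, (i = 0 ∨ i = 2) → (j = 4 ∨ j = 5 ∨ j = 6) →
    CoxeterMatrix.E₇.M i j = 2 ∧ CoxeterMatrix.E₇.M j i = 2 := by
  rintro i j (rfl | rfl) (rfl | rfl | rfl) <;> exact ⟨rfl, rfl⟩

theorem perm_sq : ∀ i : Fin 7, permA i * permA i = 1 ∧ permB i * permB i = 1 := by decide +kernel

theorem plane_mul : ∀ i j i' j' : Fin 3, ∃ k l : Fin 3,
    e1 ^ (i : ℕ) * e2 ^ (j : ℕ) * (e1 ^ (i' : ℕ) * e2 ^ (j' : ℕ)) = e1 ^ (k : ℕ) * e2 ^ (l : ℕ) := by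
  decide +kernel

theorem plane_inv : ∀ i j : Fin 3, ∃ k l : Fin 3,
    (e1 ^ (i : ℕ) * e2 ^ (j : ℕ))⁻¹ = e1 ^ (k : ℕ) * e2 ^ (l : ℕ) := by
  decide +kernel

theorem e1_ne_one : e1 ≠ (1 : A) := by decide +kernel

theorem plane_indep : e2 ∉ zpowers e1 := fun e => by
  rcases A9ThreeLocal.zpowers_three_cases (A_cube e1) e with e' | e' | e' <;>
    exact absurd e' (by decide +kernel)

theorem shift_p6 :
    (∃ k : Fin 3, pa ^ (k : ℕ) * p0 * (pa ^ (k : ℕ))⁻¹ = swap 0 1 ∧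
      pb ^ (k : ℕ) * p1 * (pb ^ (k : ℕ))⁻¹ = swap 3 4) ∧
    swap (4 : Fin 6) 5 = p1 ∧ swap (1 : Fin 6) 2 = p0 ∧
    swap (0 : Fin 6) 2 = swap 0 1 * swap 1 2 * swap 0 1 ∧ swap (2 : Fin 6) 3 = swap 0 2 * swap 0 3 * swap 0 2 ∧
    swap (3 : Fin 6) 4 * swap 0 3 ≠ swap 0 3 * swap 3 4 := by
  decide +kernel

theorem gen_model :
    (∀ w : W, act w e1 = e1 → act w e2 = e2 → ∀ a : A, ma a * mw w * (ma a * mw w) = 1 →
      ma a * mw w * mw wf = mw wf * (ma a * mw w) → ma a * mw w * mw wf2 = mw wf2 * (ma a * mw w) →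
      ∀ k : Fin 3, ma a * mw w * (ma e3 ^ (k : ℕ) * mw wf3 * (ma e3 ^ (k : ℕ))⁻¹) =
          ma e3 ^ (k : ℕ) * mw wf3 * (ma e3 ^ (k : ℕ))⁻¹ * (ma a * mw w) →
      ma a * mw w = 1 ∨ ma a * mw w = ma e3 ^ (k : ℕ) * mw wf3 * (ma e3 ^ (k : ℕ))⁻¹) ∧
    (∀ w : W, act w e1 = e1 → act w e2 = e2 → w ^ 3 = 1 → w = 1) ∧
    (∀ w : W, (∀ v ∈ [e1, e2], (act w v).toAdd.2.2 = 0) → w ^ 4 = 1) ∧
    (∀ v : A, ∃ i j l : Fin 3, v = e1 ^ (i : ℕ) * e2 ^ (j : ℕ) * e3 ^ (l : ℕ)) := by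
  refine ⟨by decide +kernel, by decide +kernel, by decide +kernel, by decide +kernel⟩

theorem plane_third : ∀ i j : Fin 3, (e1 ^ (i : ℕ) * e2 ^ (j : ℕ)).toAdd.2.2 = 0 := by decide +kernel

/-- A subgroup of the symmetric group of degree six containing a spanning tree of transpositions. -/
theorem p6_top {H : Subgroup P6} (a : swap 0 1 ∈ H) (b : swap 1 2 ∈ H) (c : swap 0 3 ∈ H) (d : swap 3 4 ∈ H)
    (e : swap 4 5 ∈ H) : H = ⊤ := by
  obtain ⟨-, -, -, h02, h23, -⟩ := shift_p6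
  have m02 : swap (0 : Fin 6) 2 ∈ H := by rw [h02]; exact mul_mem (mul_mem a b) a
  have m23 : swap (2 : Fin 6) 3 ∈ H := by rw [h23]; exact mul_mem (mul_mem m02 c) m02
  refine eq_top_iff.2 fun σ _ => ?_
  have hσ : σ ∈ Submonoid.closure (Set.range fun i : Fin 5 => swap i.castSucc i.succ) := by
    rw [Perm.mclosure_swap_castSucc_succ]; trivial
  refine (Submonoid.closure_le (S := H.toSubmonoid)).2 ?_ hσ
  rintro _ ⟨i, rfl⟩
  fin_cases i
  · exact a
  · exact b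
  · exact m23
  · exact d
  · exact e

namespace Conf

variable {G : Type u} [Group G] [Finite G] (h : Conf G) {hk : h.k = .eight} (s : h.Six hk)

/-- The seven involutions. -/
def e7Gen : Fin 7 → G :=
  ![(Six.frame h s).ψ (swap 3 4), s.ψ (swap 4 5), (Six.frame h s).ψ (swap 0 3), s.ψ (swap 3 4), s.ψ (swap 0 3),
    s.ψ (swap 0 1), s.ψ (swap 1 2)]

theorem gen_overlap :
    (Six.frame h s).ψ (swap 1 2) = s.ψ (swap 4 5) ∧ (Six.frame h s).ψ (swap 0 1) = s.ψ (swap 3 4) ∧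
    ∀ y : P6, Commute ((Six.frame h s).ψ y) (s.ψ (swap 1 2)) ∧ Commute ((Six.frame h s).ψ y) (s.ψ (swap 0 1)) ∧
      Commute (s.ψ y) ((Six.frame h s).ψ (swap 3 4)) := by
  set f := Six.frame h s
  obtain ⟨⟨k, h01, h34⟩, h45, h12, -⟩ := shift_p6
  have e01 : s.ψ (swap 0 1) = h.j e1 ^ (k : ℕ) * h.emb hk (mw wf) * (h.j e1 ^ (k : ℕ))⁻¹ := by
    rw [← h01, map_mul, map_mul, map_inv, map_pow, s.map_a, s.map_0]
  have f34 : f.ψ (swap 3 4) = h.j e3 ^ (k : ℕ) * h.emb hk (mw wf3) * (h.j e3 ^ (k : ℕ))⁻¹ := by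
    rw [← h34, map_mul, map_mul, map_inv, map_pow, f.map_b, f.map_1]
  refine ⟨by rw [h12, f.map_0, h45, s.map_1], ?_, fun y => ⟨?_, ?_, ?_⟩⟩
  · rw [← h01, ← h34, map_mul, map_mul, map_mul, map_mul, map_inv, map_inv, map_pow, map_pow, f.map_a, f.map_0,
      s.map_b, s.map_1]
  · rw [h12, s.map_0]; exact (f.comm_f y).symm
  · rw [e01]
    have c := (f.comm_e y).symm.pow_right (k : ℕ)
    exact (c.mul_right (f.comm_f y).symm).mul_right c.inv_right
  · rw [f34]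
    have c := (s.comm_e y).symm.pow_right (k : ℕ)
    exact (c.mul_right (s.comm_f y).symm).mul_right c.inv_right

theorem gen_A {i : Fin 7} (h0 : i ≠ 0) (h2 : i ≠ 2) : h.e7Gen s i = s.ψ (permA i) := by
  fin_cases i <;> first | rfl | exact absurd rfl h0 | exact absurd rfl h2

theorem gen_B {i : Fin 7} (h4 : i ≠ 4) (h5 : i ≠ 5) (h6 : i ≠ 6) :
    h.e7Gen s i = (Six.frame h s).ψ (permB i) := by
  obtain ⟨o1, o2, -⟩ := h.gen_overlap s
  fin_cases i <;>
    first | rfl | exact o1.symm | exact o2.symm | exact absurd rfl h4 | exact absurd rfl h5 | exact absurd rfl h6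

theorem gen_sq (i : Fin 7) : h.e7Gen s i * h.e7Gen s i = 1 := by
  by_cases hi : i = 0 ∨ i = 2
  · rw [h.gen_B s (by rintro rfl; exact absurd hi (by decide)) (by rintro rfl; exact absurd hi (by decide))
      (by rintro rfl; exact absurd hi (by decide)), ← map_mul, (perm_sq i).2, map_one]
  · push Not at hi
    rw [h.gen_A s hi.1 hi.2, ← map_mul, (perm_sq i).1, map_one]

include hk in
theorem gen_cross (F : h.Facts) {i j : Fin 7} (hi : i = 0 ∨ i = 2) (hj : j = 4 ∨ j = 5 ∨ j = 6) :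
    Commute (h.e7Gen s i) (h.e7Gen s j) := by
  obtain ⟨-, -, o⟩ := h.gen_overlap s
  rcases hi with rfl | rfl <;> rcases hj with rfl | rfl | rfl
  · exact (o (swap 0 3)).2.2.symm
  · exact (o (swap 0 1)).2.2.symm
  · exact (o (swap 1 2)).2.2.symm
  · exact (h.middle hk F s).symm
  · exact (o (swap 0 3)).2.1
  · exact (o (swap 0 3)).1

/-- The relations of type `E₇`. -/
theorem e7_rel (F : h.Facts) (i j : Fin 7) :
    (h.e7Gen s i * h.e7Gen s j) ^ (CoxeterMatrix.E₇ i j) = 1 := by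
  by_cases hA : i ≠ 0 ∧ i ≠ 2 ∧ j ≠ 0 ∧ j ≠ 2
  · rw [h.gen_A s hA.1 hA.2.1, h.gen_A s hA.2.2.1 hA.2.2.2, ← map_mul, ← map_pow, e7_tableA i j hA.1 hA.2.1 hA.2.2.1 hA.2.2.2, map_one]
  by_cases hB : i ≠ 4 ∧ i ≠ 5 ∧ i ≠ 6 ∧ j ≠ 4 ∧ j ≠ 5 ∧ j ≠ 6
  · rw [h.gen_B s hB.1 hB.2.1 hB.2.2.1, h.gen_B s hB.2.2.2.1 hB.2.2.2.2.1 hB.2.2.2.2.2, ← map_mul, ← map_pow,
      e7_tableB i j hB.1 hB.2.1 hB.2.2.1 hB.2.2.2.1 hB.2.2.2.2.1 hB.2.2.2.2.2, map_one]
  have hcases : ((i = 0 ∨ i = 2) ∧ (j = 4 ∨ j = 5 ∨ j = 6)) ∨ ((j = 0 ∨ j = 2) ∧ (i = 4 ∨ i = 5 ∨ i = 6)) := by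
    revert hA hB
    revert i j
    decide
  have hsq := h.gen_sq s
  rcases hcases with ⟨hi, hj⟩ | ⟨hj, hi⟩
  · rw [(e7_tableC i j hi hj).1, (h.gen_cross s F hi hj).mul_pow, pow_two, pow_two, hsq, hsq, one_mul]
  · rw [(e7_tableC j i hj hi).2, (h.gen_cross s F hj hi).symm.mul_pow, pow_two, pow_two, hsq, hsq,
      one_mul]

/-- The subgroup generated by the seven involutions. -/
def Y7 : Subgroup G := closure (Set.range (h.e7Gen s))

theorem gen_mem (i : Fin 7) : h.e7Gen s i ∈ h.Y7 s := subset_closure ⟨i, rfl⟩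

theorem psi_mem (σ : P6) : s.ψ σ ∈ h.Y7 s := by
  have := p6_top (H := (h.Y7 s).comap s.ψ) (h.gen_mem s 5) (h.gen_mem s 6) (h.gen_mem s 4) (h.gen_mem s 3)
    (h.gen_mem s 1)
  exact (this ▸ mem_top σ : σ ∈ (h.Y7 s).comap s.ψ)

theorem j_one_mem : h.j e1 ∈ h.Y7 s := s.map_a ▸ h.psi_mem s pa

theorem j_two_mem : h.j e2 ∈ h.Y7 s := s.map_b ▸ h.psi_mem s pb

/-- No involution centralises the seven. -/
theorem e7_center (F : h.Facts) {z : G} (hz : z * z = 1) (hc : ∀ i, z * h.e7Gen s i = h.e7Gen s i * z) :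
    z = 1 := by
  set f := Six.frame h s with hf
  have hall : ∀ y ∈ h.Y7 s, Commute z y := by
    intro y hy
    have hle : h.Y7 s ≤ centralizer ({z} : Set G) := (closure_le _).2 (by
      rintro _ ⟨i, rfl⟩; exact mem_centralizer_singleton_iff.2 (hc i).symm)
    exact (mem_centralizer_singleton_iff.1 (hle hy)).symm
  have hzN : z ∈ h.N := F.pair e1 e2 e1_ne_one plane_indep
    ⟨mem_centralizer_singleton_iff.2 (hall _ (h.j_one_mem s)).eq,
      mem_centralizer_singleton_iff.2 (hall _ (h.j_two_mem s)).eq⟩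
  obtain ⟨a, w, hzw, hact⟩ := h.split_emb hk hzN
  obtain ⟨⟨k, -, h34⟩, -, -, -, -, hne⟩ := shift_p6
  have f34 : f.ψ (swap 3 4) = h.emb hk (ma e3 ^ (k : ℕ) * mw wf3 * (ma e3 ^ (k : ℕ))⁻¹) := by
    rw [← h34, map_mul, map_mul, map_inv, map_pow, f.map_b, f.map_1, map_mul, map_mul, map_inv, map_pow, h.emb_a hk]
  have key := gen_model.1 w
    (h.j_inj (by rw [← hact, (hall _ (h.j_one_mem s)).eq, mul_inv_cancel_right]))
    (h.j_inj (by rw [← hact, (hall _ (h.j_two_mem s)).eq, mul_inv_cancel_right])) a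
    (h.emb_injective hk (by rw [map_mul, ← hzw, hz, map_one]))
    (h.emb_injective hk (by
      rw [map_mul, map_mul _ (mw wf), ← hzw, ← s.map_0]; exact (hall _ (h.psi_mem s p0)).eq))
    (h.emb_injective hk (by
      rw [map_mul, map_mul _ (mw wf2), ← hzw, ← s.map_1]; exact (hall _ (h.psi_mem s p1)).eq))
    k (h.emb_injective hk (by rw [map_mul, map_mul _ _ (ma a * mw w), ← hzw, ← f34]; exact hc 0))
  rcases key with e | e
  · rw [hzw, e, map_one]
  · exfalso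
    have h2 := hc 2
    rw [hzw, e, ← f34] at h2
    change f.ψ (swap 3 4) * f.ψ (swap 0 3) = f.ψ (swap 0 3) * f.ψ (swap 3 4) at h2
    rw [← map_mul, ← map_mul] at h2
    exact hne (f.inj h2)

include hk in
/-- The elementary subgroup lies in every subgroup containing the first two vectors whose order is a
multiple of twenty-seven. -/
theorem J_le_of_card (F : h.Facts) (Y : Subgroup G) (h1 : h.j e1 ∈ Y) (h2 : h.j e2 ∈ Y)
    (h27 : 27 ∣ Nat.card Y) : h.J ≤ Y := by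
  classical
  haveI : Fact (Nat.Prime 3) := ⟨Nat.prime_three⟩
  let Q : Subgroup G :=
    { carrier := {g | ∃ i j : Fin 3, h.j (e1 ^ (i : ℕ) * e2 ^ (j : ℕ)) = g}
      one_mem' := ⟨0, 0, by simp⟩
      mul_mem' := by
        rintro _ _ ⟨i, j, rfl⟩ ⟨i', j', rfl⟩
        obtain ⟨k, l, e⟩ := plane_mul i j i' j'
        exact ⟨k, l, by rw [← map_mul, e]⟩
      inv_mem' := by
        rintro _ ⟨i, j, rfl⟩
        obtain ⟨k, l, e⟩ := plane_inv i j
        exact ⟨k, l, by rw [← map_inv, e]⟩ }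
  have hQY : Q ≤ Y := by
    rintro _ ⟨i, j, rfl⟩
    rw [map_mul, map_pow, map_pow]
    exact mul_mem (pow_mem h1 _) (pow_mem h2 _)
  have hQJ : Q ≤ h.J := by rintro _ ⟨i, j, rfl⟩; exact h.j_mem _
  have hQ3 : IsPGroup 3 Q := fun g => ⟨1, Subtype.ext (by
    rw [SubmonoidClass.coe_pow, pow_one]; exact h.J_cube _ (hQJ g.2))⟩
  obtain ⟨P, hP⟩ := (hQ3.comap_subtype (K := Y)).exists_le_sylow
  set PG := (P : Subgroup Y).map Y.subtype
  have hPY : PG ≤ Y := map_subtype_le _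
  have hQP : Q ≤ PG := fun g hg => ⟨⟨g, hQY hg⟩, hP hg, rfl⟩
  have hPp : IsPGroup 3 PG := P.2.map _
  have hP27 : 27 ≤ Nat.card PG := by
    rw [card_map_of_injective Y.subtype_injective]
    exact Nat.le_of_dvd Nat.card_pos (P.pow_dvd_card_of_pow_dvd_card (n := 3) h27)
  -- the normaliser of the plane inside the Sylow subgroup lies in the elementary subgroup
  have hnorm : ∀ g : PG, g ∈ normalizer ((Q.subgroupOf PG : Subgroup PG) : Set PG) → (g : G) ∈ h.J := by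
    intro g hg
    have hin : ∀ v ∈ [e1, e2], ∃ i j : Fin 3, (g : G) * h.j v * (g : G)⁻¹ = h.j (e1 ^ (i : ℕ) * e2 ^ (j : ℕ)) ∧
        ∃ i j : Fin 3, (g : G)⁻¹ * h.j v * (g : G) = h.j (e1 ^ (i : ℕ) * e2 ^ (j : ℕ)) := by
      intro v hv
      have hvQ : h.j v ∈ Q := by
        rcases List.mem_pair.1 (by simpa using hv) with rfl | rfl
        · exact ⟨1, 0, by simp⟩
        · exact ⟨0, 1, by simp⟩
      obtain ⟨i, j, e⟩ := (mem_normalizer_iff.1 hg ⟨h.j v, hQP hvQ⟩).1 hvQ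
      obtain ⟨i', j', e'⟩ := (mem_normalizer_iff.1 (inv_mem hg) ⟨h.j v, hQP hvQ⟩).1 hvQ
      exact ⟨i, j, e.symm, i', j', by simpa [mul_assoc] using e'.symm⟩
    have hcomm : ∀ u : A, ∀ v ∈ [e1, e2],
        Commute ((g : G) * h.j u * (g : G)⁻¹) (h.j v) := by
      intro u v hv
      obtain ⟨-, -, -, i, j, e⟩ := hin v hv
      have h1 : Commute (h.j u) ((g : G)⁻¹ * h.j v * (g : G)) := by rw [e]; exact h.j_comm _ _
      have h2 := h1.conj (g : G)
      rwa [show (g : G) * ((g : G)⁻¹ * h.j v * (g : G)) * (g : G)⁻¹ = h.j v by group] at h2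
    have hgN : (g : G) ∈ h.N := h.mem_N_iff.2 fun u => by
      have hm : (g : G) * h.j u * (g : G)⁻¹ ∈ h.N := F.pair e1 e2 e1_ne_one plane_indep
        ⟨mem_centralizer_singleton_iff.2 (hcomm u e1 (by simp)).eq,
          mem_centralizer_singleton_iff.2 (hcomm u e2 (by simp)).eq⟩
      obtain ⟨b, w, hb, hact⟩ := h.split_emb hk hm
      have hw1 : w = 1 := gen_model.2.1 w
        (h.j_inj (by rw [← hact, (hcomm u e1 (by simp)).eq, mul_inv_cancel_right]))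
        (h.j_inj (by rw [← hact, (hcomm u e2 (by simp)).eq, mul_inv_cancel_right]))
        (h.emb_right_eq_one hk (by rw [← hb, conj_pow, h.J_cube _ (h.j_mem u), mul_one, mul_inv_cancel]))
      exact ⟨b, by rw [hb, hw1, show mw (1 : W) = 1 from map_one _, mul_one, h.emb_a hk]⟩
    obtain ⟨b, w, hgw, hact⟩ := h.split_emb hk hgN
    obtain ⟨n, hn⟩ := hPp g
    have h3w : w ^ 3 ^ n = 1 := h.emb_right_eq_one hk (by
      rw [← hgw]; exact congrArg Subtype.val hn)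
    have h4w : w ^ 4 = 1 := gen_model.2.2.1 w fun v hv => by
      obtain ⟨i, j, e, -⟩ := hin v hv
      rw [hact] at e
      rw [h.j_inj e]; exact plane_third i j
    have hw1 : w = 1 := orderOf_eq_one_iff.1 (Nat.eq_one_of_dvd_coprimes
      (Nat.Coprime.pow n 1 (by norm_num : Nat.Coprime 3 4) |> fun c => by simpa using c)
      (orderOf_dvd_of_pow_eq_one h3w) (orderOf_dvd_of_pow_eq_one h4w))
    rw [hgw, hw1, show mw (1 : W) = 1 from map_one _, mul_one, h.emb_a hk]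
    exact h.j_mem b
  have hQne : Q.subgroupOf PG < ⊤ := lt_top_iff_ne_top.2 fun e => by
    have hle := subgroupOf_eq_top.1 e
    have h9 : Nat.card Q ≤ 9 := by
      have hs : Function.Surjective (fun p : Fin 3 × Fin 3 =>
          (⟨h.j (e1 ^ (p.1 : ℕ) * e2 ^ (p.2 : ℕ)), p.1, p.2, rfl⟩ : Q)) := fun ⟨g, i, j, e⟩ =>
        ⟨(i, j), Subtype.ext e⟩
      simpa using Nat.card_le_card_of_surjective _ hs
    have := card_le_of_le hle
    omega
  haveI : Group.IsNilpotent PG := hPp.isNilpotent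
  obtain ⟨g, hgN, hgQ⟩ := SetLike.exists_of_lt (Group.normalizerCondition_of_isNilpotent _ hQne)
  obtain ⟨v, hv⟩ : (g : G) ∈ h.J := hnorm g hgN
  obtain ⟨i, j, l, rfl⟩ := gen_model.2.2.2 v
  have hl : l ≠ 0 := by
    rintro rfl
    exact hgQ (mem_subgroupOf.2 ⟨i, j, by rw [← hv]; simp⟩)
  have h3 : h.j e3 ^ (l : ℕ) ∈ Y := by
    have hgY : (g : G) ∈ Y := hPY g.2
    rw [← hv, map_mul, map_mul, map_pow, map_pow, map_pow] at hgY
    have := mul_mem (inv_mem (mul_mem (pow_mem h1 (i : ℕ)) (pow_mem h2 (j : ℕ)))) hgY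
    rwa [inv_mul_cancel_left] at this
  have h3' : h.j e3 ∈ Y := by
    fin_cases l
    · exact absurd rfl hl
    · simpa using h3
    · have := inv_mem h3
      rwa [show (h.j e3 ^ 2)⁻¹ = h.j e3 from inv_eq_of_mul_eq_one_right (by
        rw [← pow_succ, h.J_cube _ (h.j_mem e3)])] at this
  rintro _ ⟨a, rfl⟩
  obtain ⟨i, j, l, rfl⟩ := gen_model.2.2.2 a
  rw [map_mul, map_mul, map_pow, map_pow, map_pow]
  exact mul_mem (mul_mem (pow_mem h1 _) (pow_mem h2 _)) (pow_mem h3' _)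

theorem frame_mem (hJ : h.J ≤ h.Y7 s) (σ : P6) : (Six.frame h s).ψ σ ∈ h.Y7 s := by
  set f := Six.frame h s with hf
  obtain ⟨o1, o2, -⟩ := h.gen_overlap s
  obtain ⟨⟨k, -, h34⟩, h45, -⟩ := shift_p6
  have e45 : f.ψ (swap 4 5) = (h.j e3 ^ (k : ℕ))⁻¹ * f.ψ (swap 3 4) * h.j e3 ^ (k : ℕ) := by
    rw [← f.map_b, ← map_pow, ← map_inv, ← map_mul, ← map_mul, ← h34, h45]
    congr 1
    group
  have := p6_top (H := (h.Y7 s).comap f.ψ) (show f.ψ _ ∈ h.Y7 s by rw [o2]; exact h.gen_mem s 3)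
    (show f.ψ _ ∈ h.Y7 s by rw [o1]; exact h.gen_mem s 1) (h.gen_mem s 2) (h.gen_mem s 0)
    (show f.ψ _ ∈ h.Y7 s by
      rw [e45]
      exact mul_mem (mul_mem (inv_mem (pow_mem (hJ (h.j_mem e3)) _)) (h.gen_mem s 0)) (pow_mem (hJ (h.j_mem e3)) _))
  exact (this ▸ mem_top σ : σ ∈ (h.Y7 s).comap f.ψ)

theorem cent_one_le (hJ : h.J ≤ h.Y7 s) : centralizer ({h.j e1} : Set G) ≤ h.Y7 s := fun g hg => by
  obtain ⟨k, x, rfl⟩ := (Six.frame h s).dec g (mem_centralizer_singleton_iff.1 hg)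
  exact mul_mem (pow_mem (hJ (h.j_mem e1)) _) (h.frame_mem s hJ x)

theorem w_gens : ∀ u : W, u ∈ closure ({wf, wf2, wf3, ww, wt} : Set W) := by
  intro u
  have hd : ∀ u : W, ∃ a b c : Fin 2, ∃ r ∈ [1, wt, ww, wt * ww, ww * wt, wt * ww * wt],
      u = wf ^ (a : ℕ) * wf2 ^ (b : ℕ) * wf3 ^ (c : ℕ) * r := by decide +kernel
  obtain ⟨a, b, c, r, hr, rfl⟩ := hd u
  set S := closure ({wf, wf2, wf3, ww, wt} : Set W)
  have m : ∀ v ∈ ({wf, wf2, wf3, ww, wt} : Set W), v ∈ S := fun v hv => subset_closure hv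
  have ht : wt ∈ S := m _ (by simp)
  have hw : ww ∈ S := m _ (by simp)
  refine mul_mem (mul_mem (mul_mem (pow_mem (m _ (by simp)) _) (pow_mem (m _ (by simp)) _))
    (pow_mem (m _ (by simp)) _)) ?_
  simp only [List.mem_cons, List.not_mem_nil, or_false] at hr
  rcases hr with rfl | rfl | rfl | rfl | rfl | rfl
  · exact one_mem _
  · exact ht
  · exact hw
  · exact mul_mem ht hw
  · exact mul_mem hw ht
  · exact mul_mem (mul_mem ht hw) ht

theorem N_le (hJ : h.J ≤ h.Y7 s) : h.N ≤ h.Y7 s := fun g hg => by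
  obtain ⟨a, w, rfl, -⟩ := h.split_emb hk hg
  rw [map_mul, h.emb_a hk]
  refine mul_mem (hJ (h.j_mem a)) ?_
  let H : Subgroup W := (h.Y7 s).comap ((h.emb hk).comp (SemidirectProduct.inr : W →* Mf))
  suffices hH : w ∈ H from hH
  refine (closure_le H).2 ?_ (w_gens w)
  intro v hv
  simp only [Set.mem_insert_iff, Set.mem_singleton_iff] at hv
  show h.emb hk (mw v) ∈ h.Y7 s
  rcases hv with rfl | rfl | rfl | rfl | rfl
  · rw [← s.map_0]; exact h.psi_mem s _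
  · rw [← s.map_1]; exact h.psi_mem s _
  · rw [← (Six.frame h s).map_1]; exact h.frame_mem s hJ _
  · rw [← s.map_w]; exact h.psi_mem s _
  · rw [h.tau_emb hk, ← (Six.frame h s).map_w]; exact h.frame_mem s hJ _

end Conf

end Cfsg.Agent.Sp6Local
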