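import Cfsg.Agent.Sp6Local.Basic
import Cfsg.Agent.Sp6Local.SpDefs
import Cfsg.Agent.Sym9ThreeLocal.BigModel
import Cfsg.Agent.Sym9ThreeLocal.Interface
import Cfsg.Agent.Sym9ThreeLocal.BigLink

/-!
# Facts about a configuration, and the statements of the cases
-/

set_option autoImplicit false
set_option synthInstance.maxSize 4000
set_option synthInstance.maxHeartbeats 400000

namespace Cfsg.Agent.Sp6Local

open Subgroup Cfsg.Agent.Sym9ThreeLocal

universe u

namespace Conf

variable {G : Type u} [Group G] (h : Conf G)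

/-- The involution exchanging two blocks. -/
def tau : G := h.q ⟨wt, inK_wt h.k⟩

/-- The cycle of the blocks. -/
def cyc : G := h.q ⟨wc, inK_wc h.k⟩

/-- The Sylow subgroup. -/
def S : Subgroup G := h.J ⊔ zpowers h.cyc

/-- The embedding of the whole model in the largest case. -/
def emb (hk : h.k = .eight) : Mf →* G :=
  h.φ.comp ((MonoidHom.id Mf).codRestrict (Mk h.k) fun m => by
    rw [mem_Mk, hk]; trivial)

/-- The consequences of the configuration used in all cases. -/
structure Facts : Prop where
  /-- Centralisers of subgroups of order nine are local. -/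
  pair : ∀ v w : A, v ≠ 1 → w ∉ zpowers v →
    centralizer ({h.j v} : Set G) ⊓ centralizer ({h.j w} : Set G) ≤ h.N
  /-- Fusion in the elementary subgroup is controlled by its normaliser. -/
  ctrl : ∀ (g : G) (v v' : A), v ≠ 1 → g * h.j v * g⁻¹ = h.j v' →
    ∃ w : W, inK h.k w ∧ act w v = v'
  /-- Centralisers of vectors unlike the diagonal and outside the exceptional orbit are local. -/
  loc : ∀ v : A, v ≠ 1 → ¬ XLike h.k v → ¬ EType h.k v → centralizer ({h.j v} : Set G) ≤ h.N
  /-- The order of the given centraliser. -/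
  card_x : Nat.card (centralizer ({h.x} : Set G)) = 648
  /-- The given centraliser meets the normaliser in the stabiliser of the model. -/
  card_x_inf : Nat.card (h.N ⊓ centralizer ({h.x} : Set G) : Subgroup G) = 162
  /-- The elements normalising the line. -/
  line : ∀ g : G, g * h.x * g⁻¹ = h.x ∨ g * h.x * g⁻¹ = h.x⁻¹ →
    ∃ c ∈ centralizer ({h.x} : Set G), ∃ n ∈ h.N, g = c * n
  /-- The given centraliser has no normal subgroup of order prime to three. -/
  core_x : ∀ K : Subgroup G, K ≤ centralizer ({h.x} : Set G) → (Nat.card K).Coprime 3 →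
    centralizer ({h.x} : Set G) ≤ normalizer (K : Set G) → K = ⊥
  /-- The order of the Sylow subgroup. -/
  S_card : Nat.card h.S = 81
  /-- It is a Sylow subgroup. -/
  sylow : ∀ P : Subgroup G, IsPGroup 3 P → ∃ g : G, ∀ y ∈ P, g * y * g⁻¹ ∈ h.S
  /-- Every element of order three is conjugate into the elementary subgroup. -/
  three : ∀ y : G, y ^ 3 = 1 → ∃ g : G, g * y * g⁻¹ ∈ h.J
  /-- The large case at the first coordinate vector. -/
  big : h.k = .eight → ¬ centralizer ({h.j e1} : Set G) ≤ h.N →
    ∃ π : centralizer ({h.j e1} : Set G) →* Equiv.Perm (Fin 6), Function.Surjective π ∧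
      ∀ y, π y = 1 ↔ (y : G) ∈ zpowers (h.j e1)

/-- The complement of a line in its centraliser, with the standard labelling. -/
structure Six (hk : h.k = .eight) where
  /-- The complement. -/
  ψ : P6 →* G
  inj : Function.Injective ψ
  map_a : ψ pa = h.j e1
  map_b : ψ pb = h.j e2
  map_0 : ψ p0 = h.emb hk (mw wf)
  map_1 : ψ p1 = h.emb hk (mw wf2)
  map_w : ψ pw = h.emb hk (mw ww)
  comm_e : ∀ x, Commute (h.j e3) (ψ x)
  comm_f : ∀ x, Commute (h.emb hk (mw wf3)) (ψ x)
  dec : ∀ g : G, g * h.j e3 = h.j e3 * g → ∃ k : Fin 3, ∃ x, g = h.j e3 ^ (k : ℕ) * ψ x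

end Conf

/-- Local data of a group which is the centraliser of the involution `tau` modulo that involution, in the
large case. -/
structure CentTwoData (X : Type u) [Group X] where
  /-- The first generator of the Sylow subgroup, the image of the first coordinate vector. -/
  e : X
  /-- The second generator, the image of the vector `(0, 1, 1)`. -/
  u : X
  /-- The involution inverting `e` only. -/
  r : X
  /-- The involution inverting `u` only. -/
  s : X

/-- The hypotheses on that data. -/
structure CentTwo {X : Type u} [Group X] (d : CentTwoData X) : Prop where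
  he : orderOf d.e = 3
  hu : orderOf d.u = 3
  eu : d.e * d.u = d.u * d.e
  indep : d.u ∉ zpowers d.e
  rr : d.r * d.r = 1
  ss : d.s * d.s = 1
  rs : d.r * d.s = d.s * d.r
  re : d.r * d.e * d.r = d.e⁻¹
  ru : d.r * d.u = d.u * d.r
  se : d.s * d.e = d.e * d.s
  su : d.s * d.u * d.s = d.u⁻¹
  /-- The normaliser of the Sylow subgroup. -/
  norm : ∀ g ∈ normalizer ((zpowers d.e ⊔ zpowers d.u : Subgroup X) : Set X),
    ∃ (i j : ℕ) (k l : Fin 2), g = d.e ^ i * d.u ^ j * d.r ^ (k : ℕ) * d.s ^ (l : ℕ)
  /-- The Sylow subgroup covers all three-subgroups. -/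
  cover : ∀ Q : Subgroup X, IsPGroup 3 Q → ∃ k : X, ∀ a ∈ Q, k * a * k⁻¹ ∈ zpowers d.e ⊔ zpowers d.u
  /-- The centraliser of `u`. -/
  cent_u : ∀ g, g * d.u = d.u * g → ∃ (i j : ℕ) (k : Fin 2), g = d.e ^ i * d.u ^ j * d.r ^ (k : ℕ)
  /-- The centraliser of `e` is the direct product of its line and a symmetric group of degree four. -/
  cent_e : ∃ f : centralizer ({d.e} : Set X) →* Multiplicative (ZMod 3) × Equiv.Perm (Fin 4),
    Function.Bijective f
  /-- The centraliser of `e u` is the direct product of its line and an alternating group of degree four. -/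
  cent_a : ∃ f : centralizer ({d.e * d.u} : Set X) →* Multiplicative (ZMod 3) × alternatingGroup (Fin 4),
    Function.Bijective f
  /-- The involution inverting `u` is conjugate neither to one inverting `e` ... -/
  inv_e : ∀ i : X, i * i = 1 → i * d.e * i = d.e⁻¹ → ¬ IsConj d.s i
  /-- ... nor to one inverting `e u`. -/
  inv_a : ∀ i : X, i * i = 1 → i * (d.e * d.u) * i = (d.e * d.u)⁻¹ → ¬ IsConj d.s i

end Cfsg.Agent.Sp6Local
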