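import Cfsg.Agent.Sp6Local.FactsProof
import Cfsg.Agent.A9ThreeLocal.Basic
import Mathlib.GroupTheory.PGroup

/-!
The line of the given element of order three, and the involution centralising it.
-/

set_option autoImplicit false
set_option synthInstance.maxSize 4000
set_option synthInstance.maxHeartbeats 400000

namespace Cfsg.Agent.Sp6Local

open Cfsg Cfsg.Agent Subgroup Cfsg.Agent.Sym9ThreeLocal

universe u

theorem line_model : wt * wt = 1 ∧ wt ≠ 1 ∧ act wt xA = xA ∧ act wt vz = vz⁻¹ ∧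
    (∀ w : W, inK .one w → act w xA = xA) ∧
    (∀ w : W, inK .four w → act w xA ≠ xA⁻¹) ∧ xA ≠ xA⁻¹ ∧
    (∃ i : Fin 3, i ≠ 0 ∧ act wc vz * vz⁻¹ = xA ^ (i : ℕ)) ∧
    (∀ w : W, inK .one w → act w xA ≠ vz) := by
  decide +kernel

theorem xA_inv : xA⁻¹ = xA * xA := by decide +kernel

theorem vz_notMem : vz ∉ zpowers xA := fun hm => by
  have h3 := xz_stab.2.2
  rcases A9ThreeLocal.zpowers_three_cases (A_cube xA) hm with e | e | e <;> rw [e] at h3
  · exact xz_stab.2.1 e
  · exact h3 (by simp)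
  · exact h3 (by rw [xA_inv]; simp)

namespace Conf

variable {G : Type u} [Group G] (h : Conf G)

theorem x_cube : h.x ^ 3 = 1 := h.J_cube _ (h.j_mem xA)

theorem x_ne : h.x ≠ 1 := h.j_ne xA_ne

theorem x_ne_inv : h.x ≠ h.x⁻¹ := fun e => line_model.2.2.2.2.2.2.1 (h.j_inj (e.trans (map_inv h.j xA).symm))

theorem tau_mul_self : h.tau * h.tau = 1 := by
  show h.q _ * h.q _ = 1
  rw [← map_mul, show (⟨wt, inK_wt h.k⟩ * ⟨wt, inK_wt h.k⟩ : KG h.k) = 1 from Subtype.ext line_model.1,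
    map_one]

theorem tau_ne_one : h.tau ≠ 1 := fun e =>
  line_model.2.1 (congrArg Subtype.val (h.q_inj (e.trans h.q.map_one.symm)))

theorem tau_conj (a : A) : h.tau * h.j a * h.tau⁻¹ = h.j (act wt a) := h.conj_j _ a

theorem tau_x : h.tau * h.x = h.x * h.tau :=
  mul_inv_eq_iff_eq_mul.1 ((h.tau_conj xA).trans (congrArg h.j line_model.2.2.1))

theorem tau_mem_cent : h.tau ∈ centralizer ({h.x} : Set G) := mem_centralizer_singleton_iff.2 h.tau_x

theorem tau_mem_N : h.tau ∈ h.N := h.q_mem_N _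

theorem orderOf_tau : orderOf h.tau = 2 := by
  haveI : Fact (Nat.Prime 2) := ⟨Nat.prime_two⟩
  exact orderOf_eq_prime (by rw [pow_two, h.tau_mul_self]) h.tau_ne_one

variable [Finite G]

/-- The normaliser of the line. -/
theorem mem_norm_x {g : G} :
    g ∈ normalizer (zpowers h.x : Set G) ↔ g * h.x * g⁻¹ = h.x ∨ g * h.x * g⁻¹ = h.x⁻¹ := by
  constructor
  · intro hg
    rcases A9ThreeLocal.zpowers_three_cases h.x_cube ((mem_normalizer_iff.1 hg h.x).1 (mem_zpowers _)) with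
      e | e | e
    · exact absurd (conj_eq_one_iff.1 e) h.x_ne
    · exact Or.inl e
    · exact Or.inr e
  · intro hg
    rw [mem_normalizer_iff_map_conj_eq, MonoidHom.map_zpowers]
    show zpowers (g * h.x * g⁻¹) = zpowers h.x
    rcases hg with e | e <;> rw [e]
    exact zpowers_inv

theorem cent_le_norm : centralizer ({h.x} : Set G) ≤ normalizer (zpowers h.x : Set G) := fun g hg =>
  h.mem_norm_x.2 (Or.inl (mul_inv_eq_iff_eq_mul.2 (mem_centralizer_singleton_iff.1 hg)))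

/-- In two kinds the element is not conjugate to its inverse. -/
theorem not_inv (F : h.Facts) (hk : h.k = .one ∨ h.k = .four) (g : G) : g * h.x * g⁻¹ ≠ h.x⁻¹ := fun e => by
  obtain ⟨w, hw, hwv⟩ := F.ctrl g xA xA⁻¹ xA_ne (by rw [map_inv]; exact e)
  rcases hk with hk | hk <;> rw [hk] at hw
  · exact line_model.2.2.2.2.2.2.1 ((line_model.2.2.2.2.1 w hw).symm.trans hwv)
  · exact line_model.2.2.2.2.2.1 w hw hwv

theorem norm_x_eq (F : h.Facts) (hk : h.k = .one ∨ h.k = .four) :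
    normalizer (zpowers h.x : Set G) = centralizer ({h.x} : Set G) := by
  refine le_antisymm (fun g hg => ?_) h.cent_le_norm
  rcases h.mem_norm_x.1 hg with e | e
  · exact mem_centralizer_singleton_iff.2 (mul_inv_eq_iff_eq_mul.1 e)
  · exact absurd e (h.not_inv F hk g)

/-- Commutators in the extraspecial subgroup are central. -/
theorem R_commutator {r s : G} (hr : r ∈ h.R) (hs : s ∈ h.R) : r * s * r⁻¹ * s⁻¹ ∈ zpowers h.x := by
  haveI : Fact (Nat.Prime 3) := ⟨Nat.prime_three⟩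
  have hc : Subgroup.center h.R = (zpowers h.x).subgroupOf h.R := by
    ext y
    rw [mem_subgroupOf, h.centerR' (y : G), mem_center_iff]
    exact ⟨fun e => ⟨y.2, fun t ht => (congrArg Subtype.val (e ⟨t, ht⟩)).symm⟩,
      fun e t => Subtype.ext (e.2 t t.2).symm⟩
  have hle : zpowers h.x ≤ h.R := fun y hy => ((h.centerR y).1 hy).1
  have hcard : Nat.card (h.R ⧸ Subgroup.center h.R) = 3 ^ 2 := by
    have := Subgroup.card_eq_card_quotient_mul_card_subgroup (Subgroup.center h.R)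
    rw [h.cardR, hc, Nat.card_congr (subgroupOfEquivOfLe hle).toEquiv, Nat.card_zpowers, h.order_j xA_ne] at this
    rw [hc]; omega
  haveI : Finite h.R := Nat.finite_of_card_ne_zero (by rw [h.cardR]; norm_num)
  have hab := IsPGroup.commutative_of_card_eq_prime_sq hcard (⟨r, hr⟩ : h.R) (⟨s, hs⟩ : h.R)
  rw [← QuotientGroup.mk_mul, ← QuotientGroup.mk_mul, QuotientGroup.eq] at hab
  have h2 : (⟨r, hr⟩ * ⟨s, hs⟩ * (⟨r, hr⟩ : h.R)⁻¹ * (⟨s, hs⟩ : h.R)⁻¹) ∈ Subgroup.center h.R := by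
    have h3 := (inferInstance : (Subgroup.center h.R).Normal).conj_mem _ hab ((⟨s, hs⟩ : h.R) * ⟨r, hr⟩)
    have h4 := inv_mem h3
    convert h4 using 1
    group
  rw [hc, mem_subgroupOf] at h2
  exact h2

/-- The extraspecial subgroup is generated by three elements. -/
theorem R_le {H : Subgroup G} (h1 : h.x ∈ H) (h2 : h.j vz ∈ H) (h3 : h.cyc ∈ H) : h.R ≤ H := by
  haveI : Fact (Nat.Prime 3) := ⟨Nat.prime_three⟩
  obtain ⟨hz, hc⟩ := h.R_gens
  set B : Subgroup G := zpowers h.x ⊔ zpowers (h.j vz) with hB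
  have hB9 : Nat.card B = 9 := by
    have hBm : B = (zpowers xA ⊔ zpowers vz).map h.j := by
      rw [Subgroup.map_sup, MonoidHom.map_zpowers, MonoidHom.map_zpowers]
    rw [hBm, card_map_of_injective h.j_inj, card_span xA_ne vz_notMem]
  have hcB : h.cyc ∉ B := fun hm => by
    have hBJ : B ≤ h.J := sup_le (zpowers_le.2 (h.j_mem _)) (zpowers_le.2 (h.j_mem _))
    obtain ⟨a, ha⟩ := hBJ hm
    have e : inlA h.k a = inrK h.k ⟨wc, inK_wc h.k⟩ := h.inj ha
    exact (show (1 : W) ≠ wc by decide +kernel) (congrArg (fun m : Mk h.k => m.1.right) e)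
  intro r hr
  set T := H ⊓ h.R
  have hBT : B ≤ T := sup_le (zpowers_le.2 ⟨h1, h.x_mem_R⟩) (zpowers_le.2 ⟨h2, hz⟩)
  have hd : Nat.card T ∣ 27 := h.cardR ▸ card_dvd_of_le inf_le_right
  have hlt : 9 < Nat.card T := by
    rw [← hB9]
    refine lt_of_le_of_ne (card_le_of_le hBT) fun e => hcB ?_
    rw [eq_of_le_of_card_ge hBT e.ge]
    exact ⟨h3, hc⟩
  have h27 : Nat.card T = 27 := by
    obtain ⟨k, hk, e⟩ := (Nat.dvd_prime_pow Nat.prime_three).1 (show Nat.card T ∣ 3 ^ 3 by norm_num; exact hd)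
    rw [e] at hlt ⊢
    interval_cases k <;> omega
  have e := eq_of_le_of_card_ge (inf_le_right : T ≤ h.R) (by rw [h27, h.cardR])
  exact ((SetLike.ext_iff.1 e r).2 hr).1

/-- The given centraliser modulo the extraspecial subgroup has one involution. -/
theorem invol_mod_R {g : G} (hg : g * h.x = h.x * g) (h2 : g * g = 1) (h1 : g ≠ 1) : g * h.tau ∈ h.R := by
  obtain ⟨f, -, hf⟩ := h.projX'
  have key : ∀ y : centralizer ({h.x} : Set G), (y : G) * y = 1 → (y : G) ≠ 1 →
      (f y : Matrix (Fin 2) (Fin 2) (ZMod 3)) = -1 := by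
    intro y hy hy1
    refine PSp43Amalgam.sl_invol _ (by rw [← map_mul, show y * y = 1 from Subtype.ext hy, map_one]) fun e => ?_
    have hyR := (hf y).1 e
    have h3 := h.cubeR _ hyR
    rw [pow_succ, pow_two, hy, one_mul] at h3
    exact hy1 h3
  have e : f ⟨g, mem_centralizer_singleton_iff.2 hg⟩ = f ⟨h.tau, h.tau_mem_cent⟩ :=
    Subtype.ext ((key _ h2 h1).trans (key _ h.tau_mul_self h.tau_ne_one).symm)
  have ht : (⟨h.tau, h.tau_mem_cent⟩ : centralizer ({h.x} : Set G)) * ⟨h.tau, h.tau_mem_cent⟩ = 1 :=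
    Subtype.ext h.tau_mul_self
  exact (hf (⟨g, mem_centralizer_singleton_iff.2 hg⟩ * ⟨h.tau, h.tau_mem_cent⟩)).1
    (by rw [map_mul, e, ← map_mul, ht, map_one])

/-- Involutions of the given centraliser are conjugate to the distinguished one under the extraspecial
subgroup. -/
theorem invol_conj {g : G} (hg : g * h.x = h.x * g) (h2 : g * g = 1) (h1 : g ≠ 1) :
    ∃ r ∈ h.R, r * h.tau * r⁻¹ = g := by
  set w := g * h.tau with hw
  have hwR := h.invol_mod_R hg h2 h1
  have hw3 := h.cubeR w hwR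
  have hti : h.tau⁻¹ = h.tau := inv_eq_of_mul_eq_one_right h.tau_mul_self
  have hgi : g⁻¹ = g := inv_eq_of_mul_eq_one_right h2
  have htw : h.tau * w * h.tau = w⁻¹ := by
    rw [hw, mul_inv_rev, hti, hgi, ← mul_assoc, mul_assoc (h.tau * g), h.tau_mul_self, mul_one]
  have hc : h.tau * w⁻¹ = w * h.tau := by
    have e : h.tau * w⁻¹ * h.tau = w := by
      have := congrArg (·⁻¹) htw
      rwa [mul_inv_rev, mul_inv_rev, hti, inv_inv, ← mul_assoc] at this
    conv_rhs => rw [← e]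
    rw [mul_assoc _ h.tau h.tau, h.tau_mul_self, mul_one]
  refine ⟨w * w, mul_mem hwR hwR, ?_⟩
  calc w * w * h.tau * (w * w)⁻¹ = w * w * (h.tau * w⁻¹) * w⁻¹ := by group
    _ = w * w * (w * h.tau) * w⁻¹ := by rw [hc]
    _ = w * w * w * (h.tau * w⁻¹) := by group
    _ = w ^ 3 * (w * h.tau) := by rw [hc, pow_succ, pow_two]
    _ = g := by rw [hw3, one_mul, hw, mul_assoc, h.tau_mul_self, mul_one]

end Conf

end Cfsg.Agent.Sp6Local
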