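import Cfsg.Agent.Sp6Local.Pair
import Cfsg.Agent.Sym9ThreeLocal.Loc

/-!
# Centralisers of most elements of the elementary subgroup are local
-/

set_option autoImplicit false
set_option synthInstance.maxSize 4000
set_option synthInstance.maxHeartbeats 400000

namespace Cfsg.Agent.Sp6Local

open Cfsg Cfsg.Agent Subgroup Cfsg.Agent.Sym9ThreeLocal

universe u

namespace Conf

variable {G : Type u} [Group G] [Finite G] (h : Conf G)

/-- The order of the normaliser in the centraliser of a vector. -/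
theorem card_cent_inf (v : A) :
    Nat.card (h.N ⊓ centralizer ({h.j v} : Set G) : Subgroup G) =
      27 * (Finset.univ.filter fun q : W => inK h.k q ∧ act q v = v).card := by
  classical
  rw [← Fintype.card_subtype, ← Nat.card_eq_fintype_card, ← card_A, ← Nat.card_prod]
  refine (Nat.card_congr (Equiv.ofBijective (fun p : A × {q : W // inK h.k q ∧ act q v = v} =>
    (⟨h.j p.1 * h.q ⟨p.2.1, p.2.2.1⟩, ?_⟩ : (h.N ⊓ centralizer ({h.j v} : Set G) : Subgroup G))) ⟨?_, ?_⟩)).symm
  · refine ⟨mul_mem (h.j_mem_N _) (h.q_mem_N _), mem_centralizer_singleton_iff.2 ?_⟩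
    have e : h.q ⟨p.2.1, p.2.2.1⟩ * h.j v = h.j v * h.q ⟨p.2.1, p.2.2.1⟩ :=
      mul_inv_eq_iff_eq_mul.1 ((h.conj_j ⟨p.2.1, p.2.2.1⟩ v).trans (congrArg h.j p.2.2.2))
    rw [mul_assoc, e, ← mul_assoc, h.j_comm, mul_assoc]
  · rintro ⟨a, q⟩ ⟨b, r⟩ e
    have e' : h.j a * h.q ⟨q.1, q.2.1⟩ = h.j b * h.q ⟨r.1, r.2.1⟩ := congrArg Subtype.val e
    have e2 : inlA h.k a * inrK h.k ⟨q.1, q.2.1⟩ = inlA h.k b * inrK h.k ⟨r.1, r.2.1⟩ :=
      h.inj (by rw [map_mul, map_mul]; exact e')
    have e3 := congrArg Subtype.val e2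
    change (SemidirectProduct.inl a * SemidirectProduct.inr q.1 : Mf) =
      SemidirectProduct.inl b * SemidirectProduct.inr r.1 at e3
    have hl := congrArg SemidirectProduct.left e3
    have hr := congrArg SemidirectProduct.right e3
    simp at hl hr
    exact Prod.ext hl (Subtype.ext hr)
  · rintro ⟨g, hg, hgv⟩
    obtain ⟨w, hw, c, rfl⟩ := h.exists_act hg
    refine ⟨(c, ⟨w, w.2, h.j_inj ?_⟩), rfl⟩
    rw [← hw, mem_centralizer_singleton_iff.1 hgv, mul_inv_cancel_right]

/-- The quotient of the centraliser of a vector unlike the diagonal one by that vector. -/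
theorem exists_nine {v : A} (hv : v ≠ 1) (hx : ¬ XLike h.k v) {Q : Type u} [Group Q] [Finite Q]
    (π : centralizer ({h.j v} : Set G) →* Q) (hπs : Function.Surjective π)
    (hπ : ∀ d, π d = 1 ↔ (d : G) ∈ zpowers (h.j v)) :
    ∃ T : Sylow 3 Q, Nine T ∧
      (∀ d : centralizer ({h.j v} : Set G), π d ∈ (T : Subgroup Q) ↔ (d : G) ∈ h.J) ∧
      (∀ d : centralizer ({h.j v} : Set G), π d ∈ normalizer ((T : Subgroup Q) : Set Q) ↔ (d : G) ∈ h.N) ∧
      Nat.card (normalizer ((T : Subgroup Q) : Set Q)) =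
        9 * (Finset.univ.filter fun q : W => inK h.k q ∧ act q v = v).card := by
  classical
  haveI : Fact (Nat.Prime 3) := ⟨Nat.prime_three⟩
  revert π
  set C := centralizer ({h.j v} : Set G) with hC
  intro π hπs hπ
  have hker : π.ker = (zpowers (h.j v)).subgroupOf C := by
    ext d; rw [MonoidHom.mem_ker, hπ, mem_subgroupOf]
  set Z : Subgroup C := π.ker with hZ
  have hZ3 : Nat.card Z = 3 := by
    rw [hker, Nat.card_congr (subgroupOfEquivOfLe (zpowers_le.2 (h.J_le_cent v (h.j_mem v)))).toEquiv,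
      Nat.card_zpowers, h.order_j hv]
  set T0 : Subgroup Q := (h.J.subgroupOf C).map π with hT0
  have hJC : h.J ≤ C := h.J_le_cent v
  have hT0m : ∀ d : C, π d ∈ T0 ↔ (d : G) ∈ h.J := by
    intro d
    refine ⟨?_, fun hd => ⟨d, hd, rfl⟩⟩
    rintro ⟨e, he', heq⟩
    have h1 : π (e⁻¹ * d) = 1 := by rw [map_mul, map_inv, heq, inv_mul_cancel]
    have h2 : ((e⁻¹ * d : C) : G) ∈ h.J := zpowers_le.2 (h.j_mem v) ((hπ _).1 h1)
    have := mul_mem (show (e : G) ∈ h.J from he') h2
    simpa using this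
  have hJC3 : Nat.card (h.J.subgroupOf C) = 27 := by
    rw [Nat.card_congr (subgroupOfEquivOfLe hJC).toEquiv, h.J_card]
  have hJ3 : IsPGroup 3 (h.J.subgroupOf C) := IsPGroup.of_card (n := 3) (by rw [hJC3]; norm_num)
  obtain ⟨T, hT⟩ := (hJ3.map π).exists_le_sylow
  have hTeq : (T : Subgroup Q) = T0 := by
    refine le_antisymm (fun y hy => ?_) hT
    obtain ⟨d, rfl⟩ := hπs y
    rw [hT0m]
    have hP : IsPGroup 3 (((T : Subgroup Q).comap π).map C.subtype) := by
      refine IsPGroup.map ?_ _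
      refine T.2.comap_of_ker_isPGroup π ?_
      rw [← hZ]
      exact IsPGroup.of_card (n := 1) (by rw [hZ3, pow_one])
    rw [← h.pgroup_eq_J hv hx hP (fun p hp => ⟨⟨p, hJC hp⟩, hT ⟨_, hp, rfl⟩, rfl⟩) (map_subtype_le _)]
    exact ⟨d, hy, rfl⟩
  have hnorm : ∀ d : C, π d ∈ normalizer ((T : Subgroup Q) : Set Q) ↔ (d : G) ∈ h.N := by
    intro d
    rw [hTeq]
    constructor
    · intro hd
      refine h.mem_N_iff.2 fun a => ?_
      have h1 := (mem_normalizer_iff.1 hd (π ⟨h.j a, hJC (h.j_mem a)⟩)).1 ((hT0m _).2 (h.j_mem a))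
      rw [← map_inv, ← map_mul, ← map_mul, hT0m] at h1
      obtain ⟨b, hb⟩ := h1
      exact ⟨b, hb.symm⟩
    · intro hd
      refine mem_normalizer_fintype fun y hy => ?_
      obtain ⟨e, he', rfl⟩ := hy
      rw [SetLike.mem_coe, ← map_inv, ← map_mul, ← map_mul, hT0m]
      obtain ⟨a, ha⟩ := (show (e : G) ∈ h.J from he')
      obtain ⟨b, hb⟩ := h.mem_N_iff.1 hd a
      exact ⟨b, by rw [← hb, ha]; rfl⟩
  obtain ⟨w, hw1, hw2, hw3⟩ := exists_outside v
  have hwv : w ∉ zpowers v := fun hm => by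
    rcases A9ThreeLocal.zpowers_three_cases (A_cube v) hm with e | e | e
    · exact hw1 e
    · exact hw2 e
    · exact hw3 (e.trans (inv_eq_of_mul_eq_one_right (by rw [← pow_three, A_cube v])))
  have hnine : Nine T := by
    refine ⟨?_, ?_, ?_, ?_, ?_⟩
    · rw [hTeq]
      rintro _ ⟨a, ha, rfl⟩ _ ⟨b, hb, rfl⟩
      rw [← map_mul, ← map_mul]
      exact congrArg π (Subtype.ext (h.J_comm _ ha _ hb))
    · rw [hTeq]
      rintro _ ⟨a, ha, rfl⟩
      rw [← map_pow, show a ^ 3 = 1 from Subtype.ext (h.J_cube _ ha), map_one]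
    · rw [hTeq]
      have h1 := card_mul_index (Z.subgroupOf (h.J.subgroupOf C))
      have hZJ : Z ≤ h.J.subgroupOf C := fun d hd => mem_subgroupOf.2 (zpowers_le.2 (h.j_mem v) ((hπ d).1 hd))
      rw [Nat.card_congr (subgroupOfEquivOfLe hZJ).toEquiv, hZ3, hJC3] at h1
      have h2 : Nat.card T0 = (Z.subgroupOf (h.J.subgroupOf C)).index := by
        rw [show T0 = (π.comp (h.J.subgroupOf C).subtype).range by
            rw [hT0, MonoidHom.range_comp, range_subtype],
          ← index_ker]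
        congr 1
      omega
    · refine le_antisymm (fun y hy => ?_) fun y hy => mem_centralizer_iff.2 fun s hs => ?_
      · obtain ⟨d, rfl⟩ := hπs y
        have hmove : ∀ a : A, (d : G) * h.j a * (d : G)⁻¹ * (h.j a)⁻¹ ∈ zpowers (h.j v) := fun a => by
          have h1 := mem_centralizer_iff.1 hy (π ⟨h.j a, hJC (h.j_mem a)⟩) (hTeq ▸ (hT0m _).2 (h.j_mem a))
          refine (hπ (d * ⟨h.j a, hJC (h.j_mem a)⟩ * d⁻¹ * (⟨h.j a, hJC (h.j_mem a)⟩ : C)⁻¹)).1 ?_
          simp only [map_mul, map_inv]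
          rw [← h1, mul_inv_cancel_right, mul_inv_cancel]
        have hdN := h.mem_N_of_translate hv hwv (mem_centralizer_singleton_iff.1 d.2) (hmove w)
        obtain ⟨u, hu, c, hdc⟩ := h.exists_act hdN
        have huv : act u v = v := h.j_inj (by
          rw [← hu, mem_centralizer_singleton_iff.1 d.2, mul_inv_cancel_right])
        have hu1 : (u : W) = 1 := no_unipotent _ fun a => by
          have h1 := hmove a
          rw [hu, ← map_inv, ← map_mul] at h1
          obtain ⟨i, hi⟩ := mem_zpowers_iff.1 h1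
          rw [← map_zpow, h.j_inj.eq_iff] at hi
          rw [← hi, ← theta_apply, map_zpow, theta_apply, huv]
        rw [hTeq, hT0m, hdc, show u = 1 from Subtype.ext hu1, map_one, mul_one]
        exact h.j_mem c
      · rw [hTeq] at hy hs
        obtain ⟨a, ha, rfl⟩ := hy
        obtain ⟨b, hb, rfl⟩ := hs
        rw [← map_mul, ← map_mul]
        exact congrArg π (Subtype.ext (h.J_comm _ hb _ ha))
    · intro t ht ht1 y hy
      rw [hTeq] at ht
      obtain ⟨e, he', rfl⟩ := ht
      obtain ⟨d, rfl⟩ := hπs y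
      rw [hnorm]
      obtain ⟨a, ha⟩ := (show (e : G) ∈ h.J from he')
      refine h.mem_N_of_translate hv (w := a) (fun hm => ht1 ?_) (mem_centralizer_singleton_iff.1 d.2) ?_
      · obtain ⟨i, hi⟩ := mem_zpowers_iff.1 hm
        refine (hπ e).2 (mem_zpowers_iff.2 ⟨i, ?_⟩)
        rw [← map_zpow, hi, ha]
      · rw [ha]
        refine (hπ (d * e * d⁻¹ * e⁻¹)).1 ?_
        simp only [map_mul, map_inv]
        rw [mem_centralizer_singleton_iff.1 hy, mul_inv_cancel_right, mul_inv_cancel]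
  set NT := normalizer ((T : Subgroup Q) : Set Q) with hNT
  have hcard : Nat.card NT = 9 * (Finset.univ.filter fun q : W => inK h.k q ∧ act q v = v).card := by
    have h1 : NT.comap π = (h.N ⊓ C).subgroupOf C := by
      ext d
      rw [mem_comap, hnorm, mem_subgroupOf]
      exact ⟨fun e => ⟨e, d.2⟩, fun e => e.1⟩
    have h2 := card_mul_index (NT.comap π)
    have h3 : Nat.card ((h.N ⊓ C).subgroupOf C) = 27 * (Finset.univ.filter fun q : W => inK h.k q ∧ act q v = v).card := by
      rw [Nat.card_congr (subgroupOfEquivOfLe inf_le_right).toEquiv]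
      exact h.card_cent_inf v
    have h4 : Nat.card C = 3 * (Nat.card NT * NT.index) := by
      rw [← card_mul_index Z, hZ3, card_mul_index NT, hZ, index_ker, MonoidHom.range_eq_top.2 hπs, card_top]
    rw [index_comap_of_surjective NT hπs, h1, h3, h4, ← mul_assoc] at h2
    have := Nat.eq_of_mul_eq_mul_right (Nat.pos_of_ne_zero NT.index_ne_zero_of_finite) h2
    omega
  exact ⟨T, hnine, fun d => hTeq ▸ hT0m d, hnorm, hcard⟩

/-- The centraliser of a vector outside the orbits of the exceptional ones is local. -/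
theorem loc {v : A} (hv : v ≠ 1) (hx : ¬ XLike h.k v) (he : ¬ EType h.k v) : centralizer ({h.j v} : Set G) ≤ h.N := by
  classical
  haveI : Fact (Nat.Prime 3) := ⟨Nat.prime_three⟩
  set C := centralizer ({h.j v} : Set G) with hC
  have hvC : h.j v ∈ C := h.J_le_cent v (h.j_mem v)
  let z : C := ⟨h.j v, hvC⟩
  set Z : Subgroup C := zpowers z with hZ
  have hZn : Z.Normal := ⟨fun y hy d => by
    obtain ⟨i, rfl⟩ := mem_zpowers_iff.1 hy
    have hd : Commute d z := Subtype.ext (mem_centralizer_singleton_iff.1 d.2)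
    rw [(hd.zpow_right i).eq, mul_inv_cancel_right]
    exact zpow_mem (mem_zpowers z) i⟩
  have hZ3 : Nat.card Z = 3 := by rw [hZ, Nat.card_zpowers, orderOf_mk, h.order_j hv]
  set π : C →* C ⧸ Z := QuotientGroup.mk' Z with hπdef
  have hπs : Function.Surjective π := QuotientGroup.mk'_surjective Z
  have hπ : ∀ d : C, π d = 1 ↔ (d : G) ∈ zpowers (h.j v) := fun d => by
    rw [hπdef, QuotientGroup.mk'_apply, QuotientGroup.eq_one_iff, hZ, mem_zpowers_iff, mem_zpowers_iff]
    exact ⟨fun ⟨i, hi⟩ => ⟨i, congrArg Subtype.val hi⟩, fun ⟨i, hi⟩ => ⟨i, Subtype.ext hi⟩⟩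
  obtain ⟨T, hnine, hmem, hnorm, hcard⟩ := h.exists_nine hv hx π hπs hπ
  set NT := normalizer ((T : Subgroup (C ⧸ Z)) : Set (C ⧸ Z)) with hNT
  have htop : NT = ⊤ := by
    rcases stab_small h.k v hv hx he with e | e | ⟨e, hsq⟩
    · exact hnine.normalizer_eq_top (Or.inl (by rw [← hNT, hcard, e]))
    · exact hnine.normalizer_eq_top (Or.inr (by rw [← hNT, hcard, e]))
    haveI hn : ((T : Subgroup (C ⧸ Z)).subgroupOf NT).Normal := normal_in_normalizer
    have h4 : Nat.card (NT ⧸ (T : Subgroup (C ⧸ Z)).subgroupOf NT) = 4 := by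
      have h1 := card_mul_index ((T : Subgroup (C ⧸ Z)).subgroupOf NT)
      rw [Nat.card_congr (subgroupOfEquivOfLe (le_normalizer : (T : Subgroup (C ⧸ Z)) ≤ NT)).toEquiv,
        hnine.card, hcard, e] at h1
      rw [← index_eq_card]; omega
    have hK : IsKleinFour (NT ⧸ (T : Subgroup (C ⧸ Z)).subgroupOf NT) := by
      refine ⟨h4, ?_⟩
      haveI : Nontrivial (NT ⧸ (T : Subgroup (C ⧸ Z)).subgroupOf NT) :=
        Finite.one_lt_card_iff_nontrivial.1 (by rw [h4]; norm_num)
      refine (Monoid.exponent_eq_prime_iff Nat.prime_two).2 fun q hq => ?_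
      obtain ⟨⟨y, hy⟩, rfl⟩ := QuotientGroup.mk'_surjective _ q
      obtain ⟨d, rfl⟩ := hπs y
      haveI : Fact (Nat.Prime 2) := ⟨Nat.prime_two⟩
      refine orderOf_eq_prime ?_ hq
      rw [pow_two, ← map_mul, QuotientGroup.mk'_apply, QuotientGroup.eq_one_iff, mem_subgroupOf]
      show π d * π d ∈ (T : Subgroup (C ⧸ Z))
      rw [← map_mul, hmem]
      obtain ⟨u, hu, c, hdc⟩ := h.exists_act ((hnorm d).1 hy)
      have huv : act u v = v := h.j_inj (by
        rw [← hu, mem_centralizer_singleton_iff.1 d.2, mul_inv_cancel_right])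
      have hu2 : u * u = 1 := Subtype.ext (hsq u u.2 huv)
      have e1 : (d : G) * d = h.j (c * act u c) * h.q (u * u) := by
        rw [map_mul, map_mul, ← h.conj_j, hdc]; group
      rw [Subgroup.coe_mul, e1, hu2, map_one, mul_one]
      exact h.j_mem _
    obtain ⟨φ, hφ⟩ := ThreeKlein.exists_cfg T hnine.comm hnine.cube hnine.card hnine.cent hK hnine.loc
    exact hφ.normalizer_eq_top
  exact fun d hd => (hnorm ⟨d, hd⟩).1 (htop ▸ mem_top _)

end Conf

end Cfsg.Agent.Sp6Local
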