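import Cfsg.Agent.Sp6Local.Interface
import Cfsg.Agent.Sym9ThreeLocal.Pair

/-!
# Centralisers of subgroups of order nine of the elementary subgroup
-/

set_option autoImplicit false
set_option synthInstance.maxSize 4000
set_option synthInstance.maxHeartbeats 400000

namespace Cfsg.Agent.Sp6Local

open Subgroup Cfsg.Agent.Sym9ThreeLocal

universe u

namespace Conf

variable {G : Type u} [Group G] [Finite G] (h : Conf G)

/-- The elementary subgroup lies in the centraliser of each of its elements. -/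
theorem J_le_cent (v : A) : h.J ≤ centralizer ({h.j v} : Set G) := by
  rintro _ ⟨a, rfl⟩
  exact mem_centralizer_singleton_iff.2 (h.j_comm a v)

/-- A three-subgroup centralising a vector unlike the diagonal one is abelian. -/
theorem pgroup_eq_J {v : A} (hv : v ≠ 1) (hx : ¬ XLike h.k v) {P : Subgroup G} (hP : IsPGroup 3 P)
    (hJ : h.J ≤ P) (hc : P ≤ centralizer ({h.j v} : Set G)) : P = h.J := by
  haveI : Fact (Nat.Prime 3) := ⟨Nat.prime_three⟩
  refine le_antisymm ?_ hJ
  by_contra hne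
  have hlt : h.J.subgroupOf P < ⊤ :=
    lt_top_iff_ne_top.2 fun e => hne (subgroupOf_eq_top.1 e)
  haveI : Group.IsNilpotent P := hP.isNilpotent
  obtain ⟨g, hgN, hgJ⟩ := SetLike.exists_of_lt (Group.normalizerCondition_of_isNilpotent _ hlt)
  have hgN' : (g : G) ∈ h.N := by
    rw [h.N_eq]
    exact mem_normalizer_fintype fun y hy => (mem_normalizer_iff.1 hgN ⟨y, hJ hy⟩).1 hy
  obtain ⟨w, hw, c, hgc⟩ := h.exists_act hgN'
  have hfix : act w v = v := h.j_inj (by
    rw [← hw, mem_centralizer_singleton_iff.1 (hc g.2), mul_inv_cancel_right])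
  have hqP : h.q w ∈ P := by
    have : h.q w = (h.j c)⁻¹ * g := by rw [hgc, inv_mul_cancel_left]
    rw [this]; exact mul_mem (inv_mem (hJ (h.j_mem c))) g.2
  obtain ⟨i, hi⟩ := hP ⟨_, hqP⟩
  have hi' : w ^ 3 ^ i = 1 := h.q_inj (by
    rw [map_pow, map_one]; exact congrArg Subtype.val hi)
  have hw1 : ∀ n, w ^ 3 ^ n = 1 → w = 1 := by
    intro n
    induction n with
    | zero => simp
    | succ n ih =>
      intro e
      rw [pow_succ, pow_mul] at e
      refine ih (Subtype.ext (three_free h.k v hv hx _ ((w ^ 3 ^ n) : KG h.k).2 ?_ (congrArg Subtype.val e :)))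
      clear e ih
      induction 3 ^ n with
      | zero => simp [act_one]
      | succ m ih => rw [pow_succ, Subgroup.coe_mul, act_mul, hfix, ih]
  rw [hw1 i hi', map_one, mul_one] at hgc
  exact hgJ (mem_subgroupOf.2 (hgc ▸ h.j_mem c))


/-- The centraliser of a subgroup of order nine is local. -/
theorem pair {v w : A} (hv : v ≠ 1) (hw : w ∉ zpowers v) :
    centralizer ({h.j v} : Set G) ⊓ centralizer ({h.j w} : Set G) ≤ h.N := by
  classical
  haveI : Fact (Nat.Prime 3) := ⟨Nat.prime_three⟩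
  set D := centralizer ({h.j v} : Set G) ⊓ centralizer ({h.j w} : Set G) with hD
  set B : Subgroup A := zpowers v ⊔ zpowers w with hB
  have hB9 : Nat.card B = 9 := card_span hv hw
  obtain ⟨a, ha⟩ : ∃ a : A, a ∉ B := by
    by_contra hall
    push Not at hall
    rw [show B = ⊤ from eq_top_iff.2 fun y _ => hall y, card_top, card_A] at hB9
    omega
  have htop : B ⊔ zpowers a = ⊤ := by
    refine eq_top_of_card_eq _ ?_
    rw [card_A]
    have hd : Nat.card (B ⊔ zpowers a : Subgroup A) ∣ 3 ^ 3 := by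
      have := card_subgroup_dvd_card (B ⊔ zpowers a)
      rwa [card_A] at this
    have hlt : Nat.card B < Nat.card (B ⊔ zpowers a : Subgroup A) := by
      refine lt_of_le_of_ne (card_le_of_le le_sup_left) fun e => ha ?_
      rw [eq_of_le_of_card_ge (le_sup_left : B ≤ B ⊔ zpowers a) e.ge]
      exact mem_sup_right (mem_zpowers a)
    obtain ⟨i, hi, e⟩ := (Nat.dvd_prime_pow Nat.prime_three).1 hd
    rw [hB9, e] at hlt
    rw [e]
    interval_cases i <;> simp at hlt ⊢
  have hJD : ∀ b : A, h.j b ∈ D := fun b => ⟨h.J_le_cent v (h.j_mem b), h.J_le_cent w (h.j_mem b)⟩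
  set P : Subgroup G := B.map h.j with hP
  have hPc : ∀ d ∈ D, ∀ p ∈ P, d * p = p * d := by
    rintro d hd _ ⟨b, hb, rfl⟩
    have key : B ≤ (centralizer ({d} : Set G)).comap h.j := by
      refine sup_le (zpowers_le.2 ?_) (zpowers_le.2 ?_)
      · exact mem_centralizer_singleton_iff.2 (mem_centralizer_singleton_iff.1 hd.1).symm
      · exact mem_centralizer_singleton_iff.2 (mem_centralizer_singleton_iff.1 hd.2).symm
    exact (mem_centralizer_singleton_iff.1 (key hb)).symm
  have hPD : P ≤ D := by rintro _ ⟨b, -, rfl⟩; exact hJD b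
  let P' : Subgroup D := P.subgroupOf D
  have hPn : P'.Normal := ⟨fun p hp d => by
    rw [mem_subgroupOf] at hp ⊢
    show (d : G) * p * (d : G)⁻¹ ∈ P
    rwa [hPc d d.2 p hp, mul_inv_cancel_right]⟩
  let π : D →* D ⧸ P' := QuotientGroup.mk' P'
  have hπ : ∀ d : D, π d = 1 ↔ (d : G) ∈ P := fun d => by
    rw [QuotientGroup.mk'_apply, QuotientGroup.eq_one_iff, mem_subgroupOf]
  let ja : A →* D := h.j.codRestrict D hJD
  set y := π (ja a) with hy
  have hyJ : ∀ b : A, π (ja b) ∈ zpowers y := by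
    intro b
    have hle : B ⊔ zpowers a ≤ (zpowers y).comap (π.comp ja) := by
      refine sup_le (fun c hc => ?_) (zpowers_le.2 (mem_zpowers y))
      show π (ja c) ∈ zpowers y
      rw [(hπ _).2 ⟨c, hc, rfl⟩]; exact one_mem _
    exact hle (htop ▸ mem_top b)
  have hy3 : y ^ 3 = 1 := by rw [hy, ← map_pow, ← map_pow, A_cube, map_one, map_one]
  have hy1 : y ≠ 1 := fun e => by
    obtain ⟨b, hb, e'⟩ := (hπ _).1 e
    exact ha (h.j_inj e' ▸ hb)
  -- self-centralising
  have hC : ∀ g ∈ (⊤ : Subgroup (D ⧸ P')), g * y = y * g → g ∈ zpowers y := by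
    intro g _ hg
    obtain ⟨d, rfl⟩ := QuotientGroup.mk'_surjective P' g
    have hda : (d : G) * h.j a * (d : G)⁻¹ * (h.j a)⁻¹ ∈ P := by
      refine (hπ (d * ja a * d⁻¹ * (ja a)⁻¹)).1 ?_
      simp only [map_mul, map_inv]
      rw [show π d * π (ja a) = π (ja a) * π d from hg, mul_inv_cancel_right, mul_inv_cancel]
    have hmove : ∀ b : A, ∃ c ∈ B, (d : G) * h.j b * (d : G)⁻¹ = h.j (c * b) := by
      let R : Subgroup A :=
        { carrier := {b | ∃ c ∈ B, (d : G) * h.j b * (d : G)⁻¹ = h.j (c * b)}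
          one_mem' := ⟨1, one_mem _, by simp⟩
          mul_mem' := fun {b b'} hb hb' => by
            obtain ⟨c, hc, e⟩ := hb
            obtain ⟨c', hc', e'⟩ := hb'
            refine ⟨c * c', mul_mem hc hc', ?_⟩
            rw [show (d : G) * h.j (b * b') * (d : G)⁻¹ = ((d : G) * h.j b * (d : G)⁻¹) * ((d : G) * h.j b' * (d : G)⁻¹) by
              rw [map_mul]; group, e, e', ← map_mul, mul_mul_mul_comm]
          inv_mem' := fun {b} hb => by
            obtain ⟨c, hc, e⟩ := hb
            refine ⟨c⁻¹, inv_mem hc, ?_⟩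
            rw [map_inv h.j b, ← conj_inv, e, ← map_inv, mul_inv] }
      intro b
      have hle : B ⊔ zpowers a ≤ R := by
        refine sup_le (fun c hc => ⟨1, one_mem _, ?_⟩) (zpowers_le.2 ?_)
        · rw [one_mul, hPc d d.2 _ ⟨c, hc, rfl⟩, mul_inv_cancel_right]
        · obtain ⟨c, hc, e⟩ := hda
          exact ⟨c, hc, by rw [map_mul, e, inv_mul_cancel_right]⟩
      exact hle (htop ▸ mem_top b)
    have hdN : (d : G) ∈ h.N := h.mem_N_iff.2 fun b => let ⟨c, _, e⟩ := hmove b; ⟨_, e⟩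
    obtain ⟨u, hu, c, hdc⟩ := h.exists_act hdN
    have hu1 : (u : W) = 1 := by
      refine no_unipotent _ fun b => ?_
      obtain ⟨c', hc', e⟩ := hmove b
      rw [hu, h.j_inj.eq_iff] at e
      rw [e, mul_inv_cancel_right]
      refine h.j_inj ?_
      rw [← hu, hPc d d.2 _ ⟨c', hc', rfl⟩, mul_inv_cancel_right]
    rw [show u = 1 from Subtype.ext hu1, map_one, mul_one] at hdc
    rw [show d = ja c from Subtype.ext hdc]
    exact hyJ c
  -- no invariant subgroup of order prime to three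
  have hfree : ∀ V : Subgroup (D ⧸ P'), V ≤ ⊤ → ¬ 3 ∣ Nat.card V → zpowers y ≤ normalizer (V : Set (D ⧸ P')) →
      V = ⊥ := by
    intro V _ hV3 hVy
    set K : Subgroup G := (V.comap π).map D.subtype with hK
    have hPK : P ≤ K := fun p hp => ⟨⟨p, hPD hp⟩, by
      show π ⟨p, hPD hp⟩ ∈ V
      rw [(hπ _).2 hp]; exact one_mem _, rfl⟩
    obtain ⟨T, hTK, hT3, hTP, hTinv⟩ := A9ThreeLocal.exists_central_complement K P hPK
      (fun g hg _ p hp => by obtain ⟨d, -, rfl⟩ := hg; exact hPc d d.2 p hp)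
      (IsPGroup.of_card (n := 2) (by rw [hP, card_map_of_injective h.j_inj, hB9]; norm_num))
      (fun Q hQ _ hQK q hq => by
        obtain ⟨d, hd, rfl⟩ := hQK hq
        refine (hπ d).1 ?_
        obtain ⟨n, hn⟩ := hQ ⟨_, hq⟩
        have hn' : d ^ 3 ^ n = 1 := Subtype.ext (by simpa using congrArg Subtype.val hn)
        have h1 : orderOf (π d) ∣ 3 ^ n := orderOf_dvd_of_pow_eq_one (by rw [← map_pow, hn', map_one])
        have h2 : orderOf (π d) ∣ Nat.card V := V.orderOf_dvd_natCard hd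
        exact orderOf_eq_one_iff.1 (Nat.eq_one_of_dvd_coprimes
          ((Nat.prime_three.coprime_iff_not_dvd.2 hV3).pow_left n) h1 h2))
    have hsig : T = ⊥ := by
      refine h.sig T (Nat.prime_three.coprime_iff_not_dvd.2 hT3).symm fun b => ?_
      refine eq_of_le_of_card_ge ?_ (by rw [card_map_of_injective (MulAut.conj _).injective])
      rintro _ ⟨t, ht, rfl⟩
      refine hTinv (h.j b) (fun g hg => ?_) t ht
      obtain ⟨d, hd, rfl⟩ := hg
      refine ⟨ja b * d * (ja b)⁻¹, ?_, rfl⟩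
      show π (ja b * d * (ja b)⁻¹) ∈ V
      simp only [map_mul, map_inv]
      exact (mem_normalizer_iff.1 (hVy (hyJ b)) _).1 hd
    refine eq_bot_iff.2 fun g hg => ?_
    obtain ⟨d, rfl⟩ := QuotientGroup.mk'_surjective P' g
    exact mem_bot.2 ((hπ d).2 (A9ThreeLocal.mem_of_mem_mul hsig (hTP d ⟨d, hg, rfl⟩)))
  have h6 : Nat.card (D ⧸ P') ≤ 6 := by
    rw [← card_top (G := D ⧸ P')]
    refine card_le_six (mem_top y) hy3 hy1 hC (IsPGroup.of_card (n := 1) ?_) (fun _ _ => ?_) hfree
    · rw [Nat.card_zpowers, orderOf_eq_prime hy3 hy1, pow_one]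
    · exact le_normalizer_of_normal (mem_top _)
  have hn : (zpowers y).Normal := by
    have h1 := card_mul_index (zpowers y)
    rw [Nat.card_zpowers, orderOf_eq_prime hy3 hy1] at h1
    rcases (show (zpowers y).index = 1 ∨ (zpowers y).index = 2 by
      have := (zpowers y).index_ne_zero_of_finite
      omega) with e | e
    · rw [index_eq_one] at e; rw [e]; infer_instance
    · exact normal_of_index_eq_two e
  intro g hg
  refine h.mem_N_iff.2 fun b => ?_
  have h1 := hn.conj_mem _ (hyJ b) (π ⟨g, hg⟩)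
  rw [← map_inv, ← map_mul, ← map_mul] at h1
  obtain ⟨i, hi⟩ := mem_zpowers_iff.1 h1
  have h2 : π ((ja a ^ i)⁻¹ * (⟨g, hg⟩ * ja b * ⟨g, hg⟩⁻¹)) = 1 := by
    rw [map_mul, map_inv, map_zpow, ← hy, hi, inv_mul_cancel]
  obtain ⟨c, -, hc⟩ := (hπ _).1 h2
  refine ⟨a ^ i * c, ?_⟩
  rw [map_mul, map_zpow, hc]
  simp only [Subgroup.coe_mul, Subgroup.coe_inv, SubgroupClass.coe_zpow]
  show g * h.j b * g⁻¹ = h.j a ^ i * ((h.j a ^ i)⁻¹ * (g * h.j b * g⁻¹))
  rw [mul_inv_cancel_left]

/-- An element of the centraliser of a vector which fixes a translate of another one is local. -/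
theorem mem_N_of_translate {v w : A} (hv : v ≠ 1) (hw : w ∉ zpowers v) {g : G}
    (hg : g * h.j v = h.j v * g) (hgw : g * h.j w * g⁻¹ * (h.j w)⁻¹ ∈ zpowers (h.j v)) : g ∈ h.N := by
  set D := centralizer ({h.j v} : Set G) ⊓ centralizer ({h.j w} : Set G)
  obtain ⟨i, hi⟩ := mem_zpowers_iff.1 hgw
  have hgv : g * h.j v * g⁻¹ = h.j v := mul_inv_eq_iff_eq_mul.2 hg
  refine h.mem_N_iff.2 fun b => ?_
  set y := g * h.j b * g⁻¹ with hy
  have hc : ∀ c : A, y * (g * h.j c * g⁻¹) = (g * h.j c * g⁻¹) * y := fun c => by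
    rw [hy]
    calc g * h.j b * g⁻¹ * (g * h.j c * g⁻¹) = g * (h.j b * h.j c) * g⁻¹ := by group
      _ = _ := by rw [h.j_comm]; group
  have hyv : y * h.j v = h.j v * y := hgv ▸ hc v
  have hyw : y * h.j w = h.j w * y := by
    have h1 : Commute y (g * h.j w * g⁻¹) := hc w
    have h2 : Commute y ((h.j v ^ i)⁻¹ * (g * h.j w * g⁻¹)) :=
      ((Commute.zpow_right hyv i).inv_right).mul_right h1
    rw [hi] at h2
    have e : (g * h.j w * g⁻¹ * (h.j w)⁻¹)⁻¹ * (g * h.j w * g⁻¹) = h.j w := by group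
    exact (e ▸ h2).eq
  have hyN : y ∈ h.N := h.pair hv hw ⟨mem_centralizer_singleton_iff.2 hyv, mem_centralizer_singleton_iff.2 hyw⟩
  obtain ⟨u, hu, c, hyc⟩ := h.exists_act hyN
  have hfix : ∀ t : A, y * h.j t = h.j t * y → act u t = t := fun t e =>
    h.j_inj (by rw [← hu, e, mul_inv_cancel_right])
  have hu3 : (u : W) ^ 3 = 1 := by
    have hy3 : y ^ 3 = 1 := by rw [hy, conj_pow, h.J_cube _ (h.j_mem b), mul_one, mul_inv_cancel]
    refine act_inj _ fun t => h.j_inj ?_
    have hconj : ∀ n : ℕ, y ^ n * h.j t * (y ^ n)⁻¹ = h.j (act ((u : W) ^ n) t) := by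
      intro n
      induction n with
      | zero => simp [act_one]
      | succ n ih =>
        rw [pow_succ', show y * y ^ n * h.j t * (y * y ^ n)⁻¹ = y * (y ^ n * h.j t * (y ^ n)⁻¹) * y⁻¹ by group,
          ih, hu, pow_succ', act_mul]
    rw [← hconj, hy3]
    simp
  by_cases hu1 : (u : W) = 1
  · refine ⟨c, ?_⟩
    rwa [show u = 1 from Subtype.ext hu1, map_one, mul_one] at hyc
  exfalso
  rcases pair_free _ hu3 hu1 v w hv (hfix v hyv) (hfix w hyw) with rfl | rfl | rfl
  · exact hw (one_mem _)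
  · exact hw (mem_zpowers _)
  · exact hw (mul_mem (mem_zpowers _) (mem_zpowers _))

end Conf

end Cfsg.Agent.Sp6Local
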