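import Cfsg.Agent.Sp6Local.FactsProof
import Cfsg.Agent.Sym9ThreeLocal.BigLink
import Mathlib.GroupTheory.Transfer

/-!
# The complement of the third line in the large case
-/

set_option autoImplicit false
set_option synthInstance.maxSize 4000
set_option synthInstance.maxHeartbeats 400000

namespace Cfsg.Agent.Sp6Local

open Equiv Subgroup Cfsg.Agent.Sym9ThreeLocal

universe u

namespace Conf

variable {G : Type u} [Group G] (h : Conf G) (hk : h.k = .eight)

theorem emb_injective : Function.Injective (h.emb hk) := fun _ _ e => congrArg Subtype.val (h.inj e)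

theorem emb_a (a : A) : h.emb hk (ma a) = h.j a := rfl

theorem emb_q (w : W) (hw : inK h.k w) : h.emb hk (mw w) = h.q ⟨w, hw⟩ := rfl

theorem mem_N_emb {g : G} : g ∈ h.N ↔ ∃ m, h.emb hk m = g :=
  ⟨fun ⟨m, hm⟩ => ⟨m.1, hm⟩, fun ⟨m, hm⟩ => ⟨⟨m, by rw [mem_Mk, hk]; trivial⟩, hm⟩⟩

theorem conj_w (w : W) (a : A) :
    h.emb hk (mw w) * h.j a * (h.emb hk (mw w))⁻¹ = h.j (act w a) := h.conj_j ⟨w, by rw [hk]; trivial⟩ a

variable [Finite G]

set_option maxHeartbeats 1000000 in
theorem exists_six (F : h.Facts) (hb : ¬ centralizer ({h.j e1} : Set G) ≤ h.N) : Nonempty (h.Six hk) := by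
  classical
  obtain ⟨π, hπ, hker⟩ := F.big hk hb
  obtain ⟨⟨c1, c2, c3, c4, c5⟩, ⟨m1, m2, m3, m4, m5, m6, m7, m8, m9, m10, m11⟩,
    ⟨f1, f2, f3, f4, f5, f6, f7⟩, hnot⟩ := link_model
  set C := centralizer ({h.j e3} : Set G) with hC
  have hcube : h.j e3 ^ 3 = 1 := h.J_cube _ (h.j_mem _)
  have memC : ∀ m : Mf, m * ma e3 = ma e3 * m → h.emb hk m ∈ C := fun m hm =>
    mem_centralizer_singleton_iff.2 (by rw [← h.emb_a hk, ← map_mul, ← map_mul, hm])
  let eC : C := ⟨h.j e3, mem_centralizer_singleton_iff.2 rfl⟩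
  have cen : ∀ g : C, Commute g eC := fun g => Subtype.ext (mem_centralizer_singleton_iff.1 g.2)
  -- transport to the centraliser of the third line
  set c := h.emb hk (mw wr) with hcdef
  have hcr : c * h.j e1 * c⁻¹ = h.j e3 := by rw [hcdef, h.conj_w hk, act_wr]
  have hmem : ∀ g : C, c⁻¹ * (g : G) * c ∈ centralizer ({h.j e1} : Set G) := fun g => by
    have := mem_centralizer_singleton_iff.1 g.2
    rw [← hcr] at this
    refine mem_centralizer_singleton_iff.2 ?_
    calc c⁻¹ * (g : G) * c * h.j e1 = c⁻¹ * ((g : G) * (c * h.j e1 * c⁻¹)) * c := by group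
      _ = h.j e1 * (c⁻¹ * (g : G) * c) := by rw [this]; group
  let τ : C →* centralizer ({h.j e1} : Set G) :=
    MonoidHom.mk' (fun g => ⟨_, hmem g⟩) fun x y => Subtype.ext (by simp [mul_assoc])
  have hsurj : Function.Surjective (π.comp τ) := by
    refine hπ.comp fun y => ?_
    refine ⟨⟨c * (y : G) * c⁻¹, mem_centralizer_singleton_iff.2 ?_⟩, Subtype.ext ?_⟩
    · have := mem_centralizer_singleton_iff.1 y.2
      rw [← hcr]
      calc c * (y : G) * c⁻¹ * (c * h.j e1 * c⁻¹) = c * ((y : G) * h.j e1) * c⁻¹ := by group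
        _ = c * h.j e1 * c⁻¹ * (c * (y : G) * c⁻¹) := by rw [this]; group
    · show c⁻¹ * (c * (y : G) * c⁻¹) * c = y
      group
  have hker' : ∀ g : C, π (τ g) = 1 ↔ ∃ i : Fin 3, (g : G) = h.j e3 ^ (i : ℕ) := by
    intro g
    rw [hker]
    constructor
    · intro hg
      rcases A9ThreeLocal.zpowers_three_cases (h.J_cube _ (h.j_mem e1)) hg with e | e | e
      all_goals have e' : (g : G) = c * (c⁻¹ * (g : G) * c) * c⁻¹ := by group
      all_goals rw [show ((τ g : G)) = c⁻¹ * (g : G) * c from rfl] at e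
      all_goals rw [e] at e'
      · exact ⟨0, by rw [e']; simp⟩
      · exact ⟨1, by rw [e', hcr]; simp⟩
      · refine ⟨2, ?_⟩
        rw [e', ← conj_inv, hcr]
        exact (eq_inv_of_mul_eq_one_left (by rw [← pow_succ]; exact hcube)).symm
    · rintro ⟨i, hi⟩
      refine mem_zpowers_iff.2 ⟨(i : ℕ), ?_⟩
      rw [zpow_natCast]
      show h.j e1 ^ (i : ℕ) = c⁻¹ * (g : G) * c
      rw [hi, ← hcr, conj_pow]
      group
  -- the images of the known elements
  let el : (m : Mf) → m * ma e3 = ma e3 * m → C := fun m hm => ⟨h.emb hk m, memC m hm⟩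
  set gA := el _ c1
  set gB := el _ c2
  set gP := el _ c3
  set gQ := el _ c4
  set gO := el _ c5
  have EQ : ∀ {x y : C}, (x : G) = y → π (τ x) = π (τ y) := fun e => by rw [Subtype.ext e]
  have hne : ∀ (m : Mf) (hm : m * ma e3 = ma e3 * m), (∀ i : Fin 3, m ≠ ma e3 ^ (i : ℕ)) →
      π (τ (el m hm)) ≠ 1 := fun m hm hn e => by
    obtain ⟨i, hi⟩ := (hker' _).1 e
    exact hn i (h.emb_injective hk (hi.trans (by rw [map_pow, h.emb_a hk])))
  have rel : ∀ {x y : C}, (x : G) = y → (π.comp τ) x = (π.comp τ) y := fun e => EQ e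
  obtain ⟨θ, hθ, hA', hB', hP', hQ', hO'⟩ := exists_match (A := π.comp τ gA) (B := π.comp τ gB)
    (P := π.comp τ gP) (Q := π.comp τ gQ) (O := π.comp τ gO)
    (by rw [← map_pow, ← map_one (π.comp τ)]; exact rel (h.J_cube _ (h.j_mem e1)))
    (hne (ma e1) c1 fun i => (hnot i).1)
    (by rw [← map_pow, ← map_one (π.comp τ)]; exact rel (h.J_cube _ (h.j_mem e2)))
    (hne (ma e2) c2 fun i => (hnot i).2.1)
    (by rw [← map_mul, ← map_one (π.comp τ)]; refine rel ?_; exact (map_mul (h.emb hk) _ _).symm.trans (by rw [m4, map_one]; rfl))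
    (hne (mw wf) c3 fun i => (hnot i).2.2)
    (by rw [← map_mul, ← map_mul]; exact rel (((map_mul (h.emb hk) _ _).symm.trans (congrArg _ m1)).trans (map_mul _ _ _)))
    (by rw [← map_inv, ← map_mul, ← map_mul]; refine rel ?_; show h.emb hk _ * h.emb hk _ * h.emb hk _ = (h.emb hk _)⁻¹; rw [← map_mul, ← map_mul, ← map_inv, m2])
    (by rw [← map_mul, ← map_mul]; refine rel ?_; show h.emb hk _ * h.emb hk _ = h.emb hk _ * h.emb hk _; rw [← map_mul (h.emb hk), ← map_mul (h.emb hk), m3])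
    (by rw [← map_mul, ← map_one (π.comp τ)]; refine rel ?_; exact (map_mul (h.emb hk) _ _).symm.trans (by rw [m5, map_one]; rfl))
    (by rw [← map_mul, ← map_mul]; refine rel ?_; show h.emb hk _ * h.emb hk _ = h.emb hk _ * h.emb hk _; rw [← map_mul (h.emb hk), ← map_mul (h.emb hk), m6])
    (by rw [← map_mul, ← map_mul]; refine rel ?_; show h.emb hk _ * h.emb hk _ = h.emb hk _ * h.emb hk _; rw [← map_mul (h.emb hk), ← map_mul (h.emb hk), m8])
    (by rw [← map_inv, ← map_mul, ← map_mul]; refine rel ?_; show h.emb hk _ * h.emb hk _ * h.emb hk _ = (h.emb hk _)⁻¹; rw [← map_mul, ← map_mul, ← map_inv, m7])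
    (by rw [← map_mul, ← map_one (π.comp τ)]; refine rel ?_; exact (map_mul (h.emb hk) _ _).symm.trans (by rw [m9, map_one]; rfl))
    (by rw [← map_mul, ← map_mul]; refine rel ?_; show h.emb hk _ * h.emb hk _ * h.emb hk _ = h.emb hk _; rw [← map_mul, ← map_mul, m10])
    (by rw [← map_mul, ← map_mul]; refine rel ?_; show h.emb hk _ * h.emb hk _ * h.emb hk _ = h.emb hk _; rw [← map_mul, ← map_mul, m11])
  set ρ : C →* P6 := θ.comp (π.comp τ) with hρ
  have ρsurj : Function.Surjective ρ := hθ.2.comp hsurj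
  have ρker : ∀ g : C, ρ g = 1 ↔ ∃ i : Fin 3, (g : G) = h.j e3 ^ (i : ℕ) := fun g => by
    rw [← hker' g]
    exact ⟨fun e => hθ.1 (e.trans (map_one _).symm), fun e => by
      show θ (π (τ g)) = 1
      rw [e, map_one]⟩
  -- a homomorphism detecting the line
  have hJC : h.J ≤ C := h.J_le_cent e3
  set JC := h.J.subgroupOf C with hJC'
  let eA : A ≃* JC :=
    (MonoidHom.ofInjective h.j_inj).trans (subgroupOfEquivOfLe hJC).symm
  let ζ : A →* Multiplicative (ZMod 3) :=
    MonoidHom.mk' (fun a => Multiplicative.ofAdd a.toAdd.2.2) fun a b => rfl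
  set χ : C →* Multiplicative (ZMod 3) := MonoidHom.transfer (ζ.comp eA.symm.toMonoidHom) with hχ
  have hidx : JC.index = 80 := by
    have h1 := JC.card_mul_index
    rw [Nat.card_congr (subgroupOfEquivOfLe hJC).toEquiv, h.J_card] at h1
    have h2 : Nat.card C = 3 * 720 := by
      have h3 := (ρ.ker).card_mul_index
      rw [Subgroup.index_ker, MonoidHom.range_eq_top.2 ρsurj, card_top] at h3
      have h4 : ρ.ker = zpowers eC := by
        ext g
        rw [MonoidHom.mem_ker, ρker]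
        constructor
        · rintro ⟨i, hi⟩
          exact mem_zpowers_iff.2 ⟨(i : ℕ), Subtype.ext (by rw [zpow_natCast, SubmonoidClass.coe_pow]; exact hi.symm)⟩
        · intro hg
          obtain ⟨n, rfl⟩ := mem_zpowers_iff.1 hg
          have hz : ((eC ^ n : C) : G) ∈ zpowers (h.j e3) :=
            mem_zpowers_iff.2 ⟨n, (SubgroupClass.coe_zpow eC n).symm⟩
          rcases A9ThreeLocal.zpowers_three_cases hcube hz with e | e | e
          · exact ⟨0, by rw [e]; simp⟩
          · exact ⟨1, by rw [e]; simp⟩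
          · exact ⟨2, by rw [e]; exact (eq_inv_of_mul_eq_one_left (by rw [← pow_succ]; exact hcube)).symm⟩
      rw [h4, Nat.card_zpowers, ← Subgroup.orderOf_coe, h.order_j (by decide +kernel)] at h3
      rw [← h3, Nat.card_eq_fintype_card, Fintype.card_perm, Fintype.card_fin]
      rfl
    omega
  have χe : χ eC ≠ 1 := by
    rw [hχ, MonoidHom.transfer_eq_pow _ _ fun k g₀ _ => by
      rw [mul_assoc, ← ((cen g₀).pow_right k).eq, inv_mul_cancel_left]]
    have e80 : eC ^ JC.index = (eA (e3 * e3) : C) := by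
      refine Subtype.ext ?_
      rw [SubmonoidClass.coe_pow, hidx]
      show h.j e3 ^ 80 = h.j (e3 * e3)
      rw [map_mul, show (80 : ℕ) = 3 * 26 + 2 from rfl, pow_add, pow_mul, hcube, one_pow, one_mul, pow_two]
    simp only [MonoidHom.coe_comp, Function.comp_apply, MulEquiv.coe_toMonoidHom]
    rw [show (⟨eC ^ JC.index, _⟩ : JC) = eA (e3 * e3) from Subtype.ext e80, eA.symm_apply_apply]
    decide +kernel
  have χinv : ∀ {g : C}, (g : G) * g = 1 → χ g = 1 := fun e =>
    z3_sq _ (by rw [← map_mul, ← map_one χ]; exact congrArg χ (Subtype.ext e))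
  set L := χ.ker with hL
  set ρL : L →* P6 := ρ.comp L.subtype with hρL
  have ρLinj : Function.Injective ρL := by
    refine (injective_iff_map_eq_one ρL).2 fun g hg => ?_
    obtain ⟨i, hi⟩ := (ρker _).1 hg
    have e : (g : C) = eC ^ (i : ℕ) := Subtype.ext (hi.trans (SubmonoidClass.coe_pow eC _).symm)
    have h1 : χ (g : C) = 1 := g.2
    rw [e, map_pow] at h1
    have hi0 := z3_zero _ χe i h1
    exact Subtype.ext (by rw [e, hi0]; exact pow_zero _)
  have ρLsurj : Function.Surjective ρL := fun x => by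
    obtain ⟨g, rfl⟩ := ρsurj x
    obtain ⟨i, hi⟩ := z3_fill (χ eC) (χ g) χe
    refine ⟨⟨eC ^ (i : ℕ) * g, by rw [hL, MonoidHom.mem_ker, map_mul, map_pow, hi]⟩, ?_⟩
    show ρ (eC ^ (i : ℕ) * g) = ρ g
    rw [map_mul, (ρker _).2 ⟨i, by rw [SubmonoidClass.coe_pow]⟩, one_mul]
  set eL := MulEquiv.ofBijective ρL ⟨ρLinj, ρLsurj⟩
  set ψC : P6 →* C := L.subtype.comp eL.symm.toMonoidHom with hψC
  have ψuniq : ∀ (g : C) (x : P6), χ g = 1 → ρ g = x → ψC x = g := by
    intro g x h1 h2
    have : eL ⟨g, MonoidHom.mem_ker.2 h1⟩ = x := h2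
    show (eL.symm x : C) = g
    rw [← this, eL.symm_apply_apply]
  have ψρ : ∀ x, ρ (ψC x) = x := fun x => eL.apply_symm_apply x
  have ψχ : ∀ x, χ (ψC x) = 1 := fun x => MonoidHom.mem_ker.1 (eL.symm x).2
  have χP : χ gP = 1 := χinv (by show h.emb hk _ * h.emb hk _ = 1; rw [← map_mul, m4, map_one])
  have χQ : χ gQ = 1 := χinv (by show h.emb hk _ * h.emb hk _ = 1; rw [← map_mul, m5, map_one])
  have χO : χ gO = 1 := χinv (by show h.emb hk _ * h.emb hk _ = 1; rw [← map_mul, m9, map_one])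
  have χA : χ gA = 1 := by
    have e : gP * gA * gP * gA⁻¹ = gA := Subtype.ext (by
      show h.emb hk (mw wf) * h.emb hk (ma e1) * h.emb hk (mw wf) * (h.emb hk (ma e1))⁻¹ = h.emb hk (ma e1)
      rw [← map_mul (h.emb hk), ← map_mul (h.emb hk), m2, ← map_inv (h.emb hk), ← map_mul (h.emb hk)]
      exact congrArg _ (by decide +kernel))
    rw [← e, map_mul, map_mul, map_mul, map_inv, χP, one_mul, mul_one, mul_inv_cancel]
  have χB : χ gB = 1 := by
    have e : gQ * gB * gQ * gB⁻¹ = gB := Subtype.ext (by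
      show h.emb hk (mw wf2) * h.emb hk (ma e2) * h.emb hk (mw wf2) * (h.emb hk (ma e2))⁻¹ = h.emb hk (ma e2)
      rw [← map_mul (h.emb hk), ← map_mul (h.emb hk), m7, ← map_inv (h.emb hk), ← map_mul (h.emb hk)]
      exact congrArg _ (by decide +kernel))
    rw [← e, map_mul, map_mul, map_mul, map_inv, χQ, one_mul, mul_one, mul_inv_cancel]
  have vA := ψuniq gA pa χA hA'
  have vB := ψuniq gB pb χB hB'
  have vP := ψuniq gP p0 χP hP'
  have vQ := ψuniq gQ p1 χQ hQ'
  have vO := ψuniq gO pw χO hO'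
  set ψ : P6 →* G := C.subtype.comp ψC with hψ
  have ψinj : Function.Injective ψ :=
    C.subtype_injective.comp (L.subtype_injective.comp eL.symm.injective)
  -- the flip of the third block centralises the complement
  set f := h.emb hk (mw wf3) with hf
  have hff : f * f = 1 := by rw [hf, ← map_mul, f1, map_one]
  have hfi : f⁻¹ = f := inv_eq_of_mul_eq_one_right hff
  have hfe : f * h.j e3 * f⁻¹ = (h.j e3)⁻¹ := by
    rw [hfi, hf, ← h.emb_a hk, ← map_mul, ← map_mul, f2, map_inv]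
  have hfC : ∀ g : C, f * (g : G) * f⁻¹ ∈ C := fun g => by
    have h1 : Commute (g : G) (h.j e3) := mem_centralizer_singleton_iff.1 g.2
    have h2 : Commute (f * (g : G) * f⁻¹) (f * (h.j e3)⁻¹ * f⁻¹) := h1.inv_right.conj f
    rw [← conj_inv, hfe, inv_inv] at h2
    exact mem_centralizer_singleton_iff.2 h2
  let δ : C →* C := MonoidHom.mk' (fun g => ⟨_, hfC g⟩) fun x y => Subtype.ext (by simp [mul_assoc])
  set φ : P6 →* P6 := ρ.comp (δ.comp ψC) with hφ
  have φfix : ∀ x (m : Mf) (hm : m * ma e3 = ma e3 * m), ψC x = el m hm →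
      mw wf3 * m = m * mw wf3 → φ x = x := by
    intro x m hm hx hcm
    show ρ (δ (ψC x)) = x
    rw [hx]
    have e : δ (el m hm) = el m hm := Subtype.ext (by
      show f * h.emb hk m * f⁻¹ = h.emb hk m
      rw [hf, ← map_mul, hcm, map_mul, mul_inv_cancel_right])
    rw [e, ← hx, ψρ]
  have fa := φfix pa _ c1 vA f3
  have fb := φfix pb _ c2 vB f4
  have f0' := φfix p0 _ c3 vP f5
  have f1' := φfix p1 _ c4 vQ f6
  have fw := φfix pw _ c5 vO f7
  have φinj : Function.Injective φ := by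
    refine (injective_iff_map_eq_one φ).2 fun x hx => ?_
    obtain ⟨i, hi⟩ := (ρker _).1 hx
    have e : ψ x = f⁻¹ * h.j e3 ^ (i : ℕ) * f := by
      rw [← hi]; show (ψC x : G) = f⁻¹ * (f * (ψC x : G) * f⁻¹) * f; group
    have e' : f⁻¹ * h.j e3 ^ (i : ℕ) * f = ((h.j e3)⁻¹) ^ (i : ℕ) := by
      rw [← hfe, conj_pow, hfi]
    rw [e'] at e
    have := (ρker (ψC x)).2 ⟨-i, by
      show ψ x = _
      rw [e]
      rw [inv_pow]
      refine inv_eq_of_mul_eq_one_right ?_
      rw [← pow_add]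
      fin_cases i
      · exact pow_zero _
      · exact hcube
      · exact hcube⟩
    rwa [ψρ] at this
  obtain ⟨t1, t2, t3, t4, t5, t6, tps⟩ := pt_facts
  have hps : φ ps = ps := by
    rw [tps, map_mul, map_mul, map_mul, map_mul, map_pow, map_pow, fb, f1', fa, f0', fw]
  have hpt : φ pt = pt := by
    refine pt_unique _ ?_ ?_ ?_ ?_ ?_ ?_
    · rw [← map_mul, t1, map_one]
    · rw [← f1', ← map_mul, ← map_mul, t2]
    · rw [← fa, ← f0', ← map_inv, ← map_mul, ← map_mul, ← map_mul, ← map_mul, t3]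
    · rw [← hps, ← map_mul, ← map_mul, t4]
    · rw [← fa, ← map_mul, ← map_pow, t5, map_one]
    · intro e
      refine t6 (φinj ?_)
      rw [map_pow, map_mul, fa, e, map_one]
  have hgen : ∀ i : Fin 5, φ (swap i.castSucc i.succ) = swap i.castSucc i.succ := by
    intro i
    rw [adjacent_swaps i]
    fin_cases i
    · show φ (pa⁻¹ * p0 * pa) = _; rw [map_mul, map_mul, map_inv, fa, f0']; rfl
    · exact f0'
    · exact hpt
    · show φ (pb⁻¹ * p1 * pb) = _; rw [map_mul, map_mul, map_inv, fb, f1']; rfl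
    · exact f1'
  have hcomm : δ.comp ψC = ψC := by
    refine MonoidHom.eq_of_eqOn_denseM (Perm.mclosure_swap_castSucc_succ 5) ?_
    rintro _ ⟨i, rfl⟩
    symm
    refine ψuniq _ _ (χinv ?_) (hgen i)
    have e : (ψC (swap i.castSucc i.succ) : G) * ψC (swap i.castSucc i.succ) = 1 := by
      have h2 : ψC (swap i.castSucc i.succ) * ψC (swap i.castSucc i.succ) = 1 := by
        rw [← map_mul, swap_mul_self, map_one]
      exact congrArg Subtype.val h2
    show f * _ * f⁻¹ * (f * _ * f⁻¹) = (1 : G)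
    calc _ = f * ((ψC (swap i.castSucc i.succ) : G) * ψC (swap i.castSucc i.succ)) * f⁻¹ := by group
      _ = 1 := by rw [e]; group
  refine ⟨{ ψ := ψ, inj := ψinj, map_a := congrArg Subtype.val vA, map_b := congrArg Subtype.val vB,
            map_0 := congrArg Subtype.val vP, map_1 := congrArg Subtype.val vQ,
            map_w := congrArg Subtype.val vO, comm_e := ?_, comm_f := ?_, dec := ?_ }⟩
  · exact fun x => (mem_centralizer_singleton_iff.1 (ψC x).2).symm
  · intro x
    have := congrArg Subtype.val (DFunLike.congr_fun hcomm x)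
    exact mul_inv_eq_iff_eq_mul.1 this
  · intro g hg
    set gC : C := ⟨g, mem_centralizer_singleton_iff.2 hg⟩
    have h1 : ρ (gC * (ψC (ρ gC))⁻¹) = 1 := by rw [map_mul, map_inv, ψρ, mul_inv_cancel]
    obtain ⟨i, hi⟩ := (ρker _).1 h1
    refine ⟨i, ρ gC, ?_⟩
    rw [← hi]
    show g = g * ((ψC (ρ gC) : G))⁻¹ * (ψC (ρ gC) : G)
    rw [inv_mul_cancel_right]

end Conf

end Cfsg.Agent.Sp6Local
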