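import Cfsg.Agent.Sp6Local.SpDefs

/-!
# Computations with words in transvections
-/

set_option autoImplicit false

namespace Cfsg.Agent.Sp6Local

open Cfsg.Agent.StemCert Cfsg.Agent.SympMult Matrix

/-- The element of a word in transvections. -/
noncomputable def spWord (l : List ℕ) : Sp := evalW tv l

/-- The coded basis. -/
def spBasis : List ℕ := [1, 2, 4, 8, 16, 32]

theorem card_two : Fintype.card (ZMod 2) = 2 := ZMod.card 2

theorem spWord_mulVec (l : List ℕ) (x : ℕ) :
    (spWord l).1 *ᵥ SpSix.decode (ZMod 2) x = SpSix.decode (ZMod 2) (SpSix.tvApp l x) :=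
  SpSix.evalW_mulVec card_two l x

theorem spWord_append (l m : List ℕ) : spWord (l ++ m) = spWord l * spWord m := evalW_append _ l m

theorem spWord_one : spWord [] = 1 := rfl

theorem spWord_single (v : ℕ) : spWord [v] = tv v := by simp [spWord, evalW]

theorem basis_single : ∀ i : Fin 3 ⊕ Fin 3, ∃ x ∈ spBasis,
    SpSix.decode (ZMod 2) x = (Pi.single i 1 : Fin 3 ⊕ Fin 3 → ZMod 2) := by
  decide +kernel

theorem sp_ext {M N : Sp} (h : ∀ x ∈ spBasis,
    M.1 *ᵥ SpSix.decode (ZMod 2) x = N.1 *ᵥ SpSix.decode (ZMod 2) x) : M = N := by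
  refine Subtype.ext (Matrix.ext_of_mulVec_single fun i => ?_)
  obtain ⟨x, hx, hxi⟩ := basis_single i
  rw [← hxi]
  exact h x hx

theorem spWord_eq {l m : List ℕ} (h : ∀ x ∈ spBasis, SpSix.tvApp l x = SpSix.tvApp m x) :
    spWord l = spWord m := sp_ext fun x hx => by rw [spWord_mulVec, spWord_mulVec, h x hx]

theorem spWord_ne {l m : List ℕ} (x : ℕ) (hl : SpSix.tvApp l x < 64) (hm : SpSix.tvApp m x < 64)
    (h : SpSix.tvApp l x ≠ SpSix.tvApp m x) : spWord l ≠ spWord m := fun e =>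
  h (SpSix.decode_injOn (F := ZMod 2) hl hm (by rw [← spWord_mulVec, ← spWord_mulVec, e]))

/-- An element commuting with a transvection fixes its vector. -/
theorem fix_of_comm {M : Sp} {v : ℕ} (hc : M * tv v = tv v * M) (u : ℕ) (hu : SpSix.bB u v = true)
    (hv : v < 64) (hv0 : v ≠ 0) :
    M.1 *ᵥ SpSix.decode (ZMod 2) v = SpSix.decode (ZMod 2) v := by
  set w := M.1 *ᵥ SpSix.decode (ZMod 2) u with hw
  have e0 : (tv v).1 *ᵥ SpSix.decode (ZMod 2) u = SpSix.decode (ZMod 2) u + SpSix.decode (ZMod 2) v := by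
    rw [tv, SpSix.tvec_mulVec card_two, SpSix.tvImg, hu]
    exact SpSix.decode_xor card_two _ _
  have e1 : (M * tv v).1 *ᵥ SpSix.decode (ZMod 2) u = (tv v * M).1 *ᵥ SpSix.decode (ZMod 2) u := by rw [hc]
  rw [Submonoid.coe_mul, Submonoid.coe_mul, ← Matrix.mulVec_mulVec, ← Matrix.mulVec_mulVec, e0,
    Matrix.mulVec_add, ← hw] at e1
  have e2 : (tv v).1 *ᵥ w = w + Cfsg.Agent.Classical.sympB 3 (ZMod 2) w (SpSix.decode (ZMod 2) v) •
      SpSix.decode (ZMod 2) v := by
    show Cfsg.sympTransvection 3 (SpSix.decode (ZMod 2) v) 1 *ᵥ w = _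
    rw [Cfsg.Agent.Classical.sympTransvection_mulVec, one_mul]
  rw [e2, add_right_inj] at e1
  rcases (show ∀ c : ZMod 2, c = 0 ∨ c = 1 by decide) (Cfsg.Agent.Classical.sympB 3 (ZMod 2) w (SpSix.decode (ZMod 2) v))
    with e | e <;> rw [e] at e1
  · exfalso
    rw [zero_smul] at e1
    exact (SpSix.mulVec_ne_zero M _).2 (SpSix.decode_ne_zero hv hv0) e1
  · rwa [one_smul] at e1

theorem fix_five : ∀ z : Fin 64,
    (∀ v ∈ [1, 2, 4, 8, 16], SpSix.bB z v = SpSix.bB 32 v) → (z : ℕ) = 32 ∨ (z : ℕ) = 36 := by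
  decide +kernel

theorem code_surj : ∀ w : Fin 3 ⊕ Fin 3 → ZMod 2, ∃ z : Fin 64, SpSix.decode (ZMod 2) z = w := by
  decide +kernel

theorem sympB_symp (M : Sp) (v w : Fin 3 ⊕ Fin 3 → ZMod 2) :
    Cfsg.Agent.Classical.sympB 3 (ZMod 2) (M.1 *ᵥ v) (M.1 *ᵥ w) = Cfsg.Agent.Classical.sympB 3 (ZMod 2) v w :=
  (Cfsg.Agent.Classical.mem_symplectic_iff M.1).1 M.2 v w

/-- An element commuting with the transvections of five basis vectors. -/
theorem five_cases {M : Sp} (h : ∀ v ∈ [1, 2, 4, 8, 16],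
    M.1 *ᵥ SpSix.decode (ZMod 2) v = SpSix.decode (ZMod 2) v) : M = 1 ∨ M = tv 4 := by
  obtain ⟨z, hz⟩ := code_surj (M.1 *ᵥ SpSix.decode (ZMod 2) 32)
  have hb : ∀ v ∈ [1, 2, 4, 8, 16], SpSix.bB z v = SpSix.bB 32 v := fun v hv => by
    refine SpSix.bitF_injective (F := ZMod 2) ?_
    rw [← SpSix.sympB_decode card_two, ← SpSix.sympB_decode card_two]
    nth_rw 1 [← h v hv]
    rw [hz, sympB_symp]
  rcases fix_five z hb with e | e <;> rw [e] at hz
  · left
    refine sp_ext fun x hx => ?_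
    rw [Submonoid.coe_one, Matrix.one_mulVec]
    simp only [spBasis, List.mem_cons, List.not_mem_nil, or_false] at hx
    rcases hx with rfl | rfl | rfl | rfl | rfl | rfl
    iterate 5 exact h _ (by simp)
    exact hz.symm
  · right
    refine sp_ext fun x hx => ?_
    rw [tv, SpSix.tvec_mulVec card_two]
    simp only [spBasis, List.mem_cons, List.not_mem_nil, or_false] at hx
    rcases hx with rfl | rfl | rfl | rfl | rfl | rfl
    · rw [show SpSix.tvImg 4 1 = 1 by decide +kernel]; exact h _ (by simp)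
    · rw [show SpSix.tvImg 4 2 = 2 by decide +kernel]; exact h _ (by simp)
    · rw [show SpSix.tvImg 4 4 = 4 by decide +kernel]; exact h _ (by simp)
    · rw [show SpSix.tvImg 4 8 = 8 by decide +kernel]; exact h _ (by simp)
    · rw [show SpSix.tvImg 4 16 = 16 by decide +kernel]; exact h _ (by simp)
    · rw [show SpSix.tvImg 4 32 = 36 by decide +kernel]; exact hz.symm

/-- An element commuting with the transvections of the subdiagram of five generators and one more. -/
theorem flip_image {M : Sp} (h : ∀ v ∈ [1, 8, 3, 16, 2, 6], M * tv v = tv v * M) : M = 1 ∨ M = tv 4 := by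
  have f : ∀ v ∈ [1, 8, 3, 16, 2, 6], ∀ u, SpSix.bB u v = true → v < 64 → v ≠ 0 →
      M.1 *ᵥ SpSix.decode (ZMod 2) v = SpSix.decode (ZMod 2) v := fun v hv u hu h1 h2 =>
    fix_of_comm (h v hv) u hu h1 h2
  have a1 := f 1 (by simp) 8 (by decide +kernel) (by norm_num) (by norm_num)
  have a2 := f 2 (by simp) 16 (by decide +kernel) (by norm_num) (by norm_num)
  have a8 := f 8 (by simp) 1 (by decide +kernel) (by norm_num) (by norm_num)
  have a16 := f 16 (by simp) 2 (by decide +kernel) (by norm_num) (by norm_num)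
  have a6 := f 6 (by simp) 16 (by decide +kernel) (by norm_num) (by norm_num)
  have a4 : M.1 *ᵥ SpSix.decode (ZMod 2) 4 = SpSix.decode (ZMod 2) 4 := by
    rw [show SpSix.decode (ZMod 2) 4 = SpSix.decode (ZMod 2) 6 + SpSix.decode (ZMod 2) 2 by decide +kernel,
      Matrix.mulVec_add, a6, a2]
  refine five_cases fun v hv => ?_
  simp only [List.mem_cons, List.not_mem_nil, or_false] at hv
  rcases hv with rfl | rfl | rfl | rfl | rfl <;> assumption

/-- The word of the exchange. -/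
theorem exchange_word :
    spWord ([6] ++ [16, 6, 32, 6, 16] ++ ([2] ++ [16, 6, 32, 6, 16] ++ [4] ++ [16, 6, 32, 6, 16] ++ [2])) = spT := by
  rw [show spT = spWord [6, 48, 54] by simp [spT, spWord, evalW, mul_assoc]]
  exact spWord_eq (by decide +kernel)

/-- An element commuting with the image of the given element but moving that of the first vector. -/
theorem mover_word :
    spWord ([7, 56] ++ [8, 1, 16, 2, 32, 4]) = spWord ([8, 1, 16, 2, 32, 4] ++ [7, 56]) ∧
    spWord [7, 56] * spWord [8, 1] * spWord [56, 7] * spWord [8, 1] ≠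
      spWord [8, 1] * (spWord [7, 56] * spWord [8, 1] * spWord [56, 7]) ∧
    spWord ([7, 56] ++ [56, 7]) = 1 := by
  refine ⟨spWord_eq (by decide +kernel), ?_, ?_⟩
  · have hex : ∃ x ∈ spBasis, SpSix.tvApp ([7, 56, 8, 1, 56, 7] ++ [8, 1]) x < 64 ∧
        SpSix.tvApp ([8, 1] ++ [7, 56, 8, 1, 56, 7]) x < 64 ∧
        SpSix.tvApp ([7, 56, 8, 1, 56, 7] ++ [8, 1]) x ≠ SpSix.tvApp ([8, 1] ++ [7, 56, 8, 1, 56, 7]) x := by
      decide +kernel
    obtain ⟨x, -, h1, h2, h3⟩ := hex
    intro e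
    refine spWord_ne x h1 h2 h3 ?_
    have e6 : spWord [7, 56, 8, 1, 56, 7] = spWord [7, 56] * spWord [8, 1] * spWord [56, 7] := by
      simp [spWord, evalW, mul_assoc]
    rw [spWord_append, spWord_append, e6]
    exact e
  · rw [← spWord_one]; exact spWord_eq (by decide +kernel)

end Cfsg.Agent.Sp6Local
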