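import Cfsg.Agent.StemCert.Defs

/-! A Sylow two-subgroup of Sp6(2) as words in transvections, with the classes of its involutions. -/

set_option autoImplicit false
set_option maxRecDepth 100000
set_option maxHeartbeats 0
set_option linter.all false

namespace Cfsg.Agent.Sp6Local.SData

open Cfsg.Agent.StemCert

/-- An entry: word, class of an involution, conjugating word, products with the generators. -/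
structure Row where
  wd : List ℕ
  cl : ℕ
  cj : List ℕ
  nx : List ℕ

/-- The generators. -/
noncomputable def gens : List (List ℕ) := [[6], [2, 8, 10], [4, 16, 20], [7]]

/-- A block of the table. -/
noncomputable def blk0 : Arr Row :=
  (.node ⟨[],0,[],[100,8,256,119]⟩ (.node ⟨[2,8,10,4,16,20,7,4,16,20,2,8,10],1,[],[101,9,257,118]⟩ (.node ⟨[4,16,20,7,6,4,16,20],3,[8,1,3,8],[103,14,259,116]⟩ (.node ⟨[4,16,20,7,4,16,20],1,[8,1,3,8],[99,10,263,112]⟩ (.node ⟨[4,16,20,7,4,16,20,2,8,10,4,16,20,7,6,4,16,20],3,[8,16,3,2,16],[107,2,271,126]⟩ (.node ⟨[7,2,8,10,4,16,20,7,4,16,20,6],0,[],[123,50,282,110]⟩ (.node ⟨[4,16,20,7,4,16,20,2,8,10,7,6],0,[],[91,18,382,78]⟩ .nil .nil) .nil) (.node ⟨[7,2,8,10,7,4,16,20,6,4,16,20],3,[3,16,6,2,16,3,8,16,3,6,16],[75,34,363,94]⟩ .nil .nil))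 (.node ⟨[7,4,16,20,6,4,16,20,6],4,[16,3,8,1,2,16,3,8,32,6,16,3,6,16,32,6,2,16,6,32],[115,58,279,96]⟩ (.node ⟨[7,2,8,10,7,4,16,20,7,4,16,20,2,8,10],4,[16,32,6,2,16,3,32,6,2,16,6,32],[67,42,355,80]⟩ .nil .nil) (.node ⟨[4,16,20,7,4,16,20,2,8,10,7,4,16,20,7,6,4,16,20,2,8,10,6],3,[32,6,16,3,8,1,6,16,32,6,2,16,3,8,6,16,3,32,6,16],[83,26,371,64]⟩ .nil .nil))) (.node ⟨[4,16,20,7,4,16,20,2,8,10,4,16,20,7,4,16,20],2,[3,16,6,2,16,3,8,32,6,16,3,6,32],[111,6,267,122]⟩ (.node ⟨[7,6],3,[8,1,16,6,2,16,3,8],[119,62,275,100]⟩ (.node ⟨[7,2,8,10,7,4,16,20,7,6,4,16,20,2,8,10],4,[8,1,3,8,16,6,2,16],[71,46,359,84]⟩ .nil .nil) (.node ⟨[4,16,20,7,4,16,20,2,8,10,7,4,16,20,7,4,16,20,2,8,10,6],4,[8,1,16,6,2,16,3,8,16,6,2,16],[87,30,375,68]⟩ .nil .nil)) (.node ⟨[7,2,8,10,4,16,20,7,6,4,16,20,6],0,[],[127,54,286,106]⟩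 (.node ⟨[7,2,8,10,7],2,[8,16,32,6,2,16,3],[79,38,367,90]⟩ .nil .nil) (.node ⟨[4,16,20,7,6,4,16,20,2,8,10,7,6],0,[],[95,22,378,74]⟩ .nil .nil)))) (.node ⟨[2,8,10,4,16,20,7,6,4,16,20,2,8,10],3,[],[97,13,261,114]⟩ (.node ⟨[4,16,20,7,4,16,20,2,8,10],0,[],[109,1,265,120]⟩ (.node ⟨[7,4,16,20,7,4,16,20,2,8,10,4,16,20,7,6,4,16,20,2,8,10,6],3,[8,1,32,6,16,3,8,2,16,3,6,16,32,6,2,16,3,8,6,16,3,32,6,16],[117,57,273,102]⟩ (.node ⟨[7,4,16,20,7,4,16,20,2,8,10,7,2,8,10],4,[8,1,3,8,16,32,6,2,16,3,32,6,2,16,6,32],[69,41,357,86]⟩ .nil .nil) (.node ⟨[2,8,10,7,4,16,20,6,4,16,20,2,8,10,6],4,[32,6,16,3,8,1,2,16,3,8,6,16,32,6,2,16],[85,25,373,70]⟩ .nil .nil)) (.node ⟨[7,4,16,20,6,4,16,20,2,8,10,6],0,[],[125,49,284,104]⟩ (.node ⟨[7,2,8,10,7,4,16,20,7,4,16,20],0,[],[77,33,365,88]⟩ .nil .nil)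 (.node ⟨[4,16,20,7,4,16,20,2,8,10,7,4,16,20,7,6,4,16,20,6],0,[],[93,17,376,72]⟩ .nil .nil))) (.node ⟨[4,16,20,7,6,4,16,20,2,8,10],0,[],[105,5,269,124]⟩ (.node ⟨[7,4,16,20,7,4,16,20,2,8,10,4,16,20,7,4,16,20,2,8,10,6],4,[8,3,16,6,2,16,3,8,16,6,2,16],[113,61,277,98]⟩ (.node ⟨[7,4,16,20,7,6,4,16,20,2,8,10,7,2,8,10],4,[16,6,2,16],[65,45,353,82]⟩ .nil .nil) (.node ⟨[2,8,10,7,2,8,10,6],3,[8,3,16,6,2,16,3,8],[81,29,369,66]⟩ .nil .nil)) (.node ⟨[7,2,8,10,6],0,[],[121,53,280,108]⟩ (.node ⟨[7,2,8,10,7,4,16,20,7,6,4,16,20],0,[],[73,37,361,92]⟩ .nil .nil) (.node ⟨[4,16,20,7,4,16,20,2,8,10,7,4,16,20,7,4,16,20,6],0,[],[89,21,380,76]⟩ .nil .nil))))) (.node ⟨[4,16,20,7,4,16,20,2,8,10,4,16,20,7,6,4,16,20,2,8,10],2,[8,3,16,6,2,16,3,8,32,6,16,3,6,32],[102,15,258,117]⟩ (.node ⟨[4,16,20,6,4,16,20],1,[16,3,8,1,2,16,3,8],[96,12,260,115]⟩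 (.node ⟨[2,8,10],2,[16,6,2,16,3,8,32,6,16,3,6,32],[108,0,264,121]⟩ (.node ⟨[7,4,16,20,7,6,4,16,20,6],2,[8,1,3,8,16,3,32,6,16,2],[116,56,272,103]⟩ (.node ⟨[7,4,16,20,7,4,16,20,2,8,10,7,4,16,20,7,4,16,20,2,8,10],2,[32,6,16,6,2,32],[68,40,356,87]⟩ .nil .nil) (.node ⟨[2,8,10,7,4,16,20,7,6,4,16,20,2,8,10,6],2,[16,3,32,6,16,2],[84,24,372,71]⟩ .nil .nil)) (.node ⟨[7,4,16,20,7,6,4,16,20,2,8,10,6],0,[],[124,48,285,105]⟩ (.node ⟨[7,4,16,20,7,4,16,20,2,8,10,7,4,16,20,7,4,16,20],2,[3,8,16,32,6,2,16,3],[76,32,364,89]⟩ .nil .nil) (.node ⟨[2,8,10,7,4,16,20,7,6,4,16,20,6],0,[],[92,16,377,73]⟩ .nil .nil))) (.node ⟨[4,16,20,6,4,16,20,2,8,10],3,[3,8,16,3,2,16],[104,4,268,125]⟩ (.node ⟨[7,4,16,20,7,4,16,20,6],4,[8,1,3,8,32,6,16,3,6,16,32,6,2,16,6,32],[112,60,276,99]⟩ (.node ⟨[7,4,16,20,7,4,16,20,2,8,10,7,4,16,20,7,6,4,16,20,2,8,10],3,[32,6,16,3,8,2,16,3,6,16,32,6,2,16,3,8],[64,44,352,83]⟩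 .nil .nil) (.node ⟨[2,8,10,7,4,16,20,7,4,16,20,2,8,10,6],4,[32,6,16,3,6,16,32,6,2,16,6,32],[80,28,368,67]⟩ .nil .nil)) (.node ⟨[7,4,16,20,7,4,16,20,2,8,10,6],0,[],[120,52,281,109]⟩ (.node ⟨[7,4,16,20,7,4,16,20,2,8,10,7,4,16,20,7,6,4,16,20],3,[16,6,2,16,3,8,16,3,6,16],[72,36,360,93]⟩ .nil .nil) (.node ⟨[2,8,10,7,4,16,20,7,4,16,20,6],0,[],[88,20,381,77]⟩ .nil .nil)))) (.node ⟨[4,16,20,7,4,16,20,2,8,10,4,16,20,7,4,16,20,2,8,10],3,[16,3,2,16],[98,11,262,113]⟩ (.node ⟨[2,8,10,4,16,20,7,4,16,20],0,[],[110,7,266,123]⟩ (.node ⟨[7,2,8,10,4,16,20,7,4,16,20,2,8,10,6],2,[8,1,3,8,32,6,16,3,6,32],[118,63,274,101]⟩ (.node ⟨[7,2,8,10,7,4,16,20,6,4,16,20,2,8,10],2,[16,32,6,2,16,3],[70,47,358,85]⟩ .nil .nil) (.node ⟨[4,16,20,7,4,16,20,2,8,10,7,2,8,10,6],2,[32,6,16,3,6,32],[86,31,374,69]⟩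 .nil .nil)) (.node ⟨[7,4,16,20,7,4,16,20,2,8,10,4,16,20,7,6,4,16,20,6],0,[],[126,55,287,107]⟩ (.node ⟨[7,4,16,20,7,4,16,20,2,8,10,7],0,[],[78,39,366,91]⟩ .nil .nil) (.node ⟨[2,8,10,7,4,16,20,6,4,16,20,6],0,[],[94,23,379,75]⟩ .nil .nil))) (.node ⟨[2,8,10,4,16,20,7,6,4,16,20],0,[],[106,3,270,127]⟩ (.node ⟨[7,2,8,10,4,16,20,7,6,4,16,20,2,8,10,6],4,[8,1,3,8,16,3,6,16],[114,59,278,97]⟩ (.node ⟨[7,2,8,10,7,2,8,10],3,[8,3,16,6,2,16,3,8,16,3,6,16],[66,43,354,81]⟩ .nil .nil) (.node ⟨[4,16,20,7,6,4,16,20,2,8,10,7,2,8,10,6],4,[16,3,6,16],[82,27,370,65]⟩ .nil .nil)) (.node ⟨[7,4,16,20,7,4,16,20,2,8,10,4,16,20,7,4,16,20,6],0,[],[122,51,283,111]⟩ (.node ⟨[7,4,16,20,7,6,4,16,20,2,8,10,7],0,[],[74,35,362,95]⟩ .nil .nil) (.node ⟨[2,8,10,7,6],0,[],[90,19,383,79]⟩ .nil .nil))))))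

/-- A block of the table. -/
noncomputable def blk1 : Arr Row :=
  (.node ⟨[7,4,16,20,7,4,16,20,2,8,10,7,4,16,20,7,6,4,16,20,2,8,10,6],1,[32,6,16,3,8,2,16,3,6,16,32,6,2,16,3,8],[36,72,320,55]⟩ (.node ⟨[7,4,16,20,7,6,4,16,20,2,8,10,7,2,8,10,6],3,[8,1,32,6,16,3,8,2,16,3,6,16,32,6,2,16,3,8,6,16,32,6,2,16],[37,73,321,54]⟩ (.node ⟨[7,2,8,10,7,4,16,20,7,4,16,20,2,8,10,6],4,[8,1,3,8],[39,78,323,52]⟩ (.node ⟨[7,2,8,10,7,4,16,20,7,6,4,16,20,2,8,10,6],3,[32,6,16,3,8,2,16,3,6,16,32,6,2,16,3,8,16,6,2,16],[35,74,327,48]⟩ (.node ⟨[7,2,8,10,7,6],4,[8,16,3,2,16],[43,66,335,62]⟩ (.node ⟨[4,16,20,7,6,4,16,20,2,8,10,7],0,[],[59,114,346,46]⟩ (.node ⟨[7,2,8,10,4,16,20,7,6,4,16,20],0,[],[27,82,318,14]⟩ .nil .nil) .nil) (.node ⟨[4,16,20,7,4,16,20,2,8,10,4,16,20,7,4,16,20,6],4,[3,16,6,2,16,3,8,16,3,6,16],[11,98,299,30]⟩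 .nil .nil)) (.node ⟨[4,16,20,7,4,16,20,2,8,10,7,4,16,20,7,4,16,20,2,8,10],4,[32,6,16,3,2,16,6,32],[51,122,343,32]⟩ (.node ⟨[4,16,20,7,6,4,16,20,6],4,[16,3,8,1,6,16,3,8,32,6,16,3,6,16,32,6,2,16,6,32],[3,106,291,16]⟩ .nil .nil) (.node ⟨[7],1,[8,1,16,6,2,16,3,8],[19,90,307,0]⟩ .nil .nil))) (.node ⟨[7,2,8,10,7,4,16,20,6,4,16,20,6],4,[16,32,6,2,16,3,8,1,32,6,2,16,3,8,16,6,32],[47,70,331,58]⟩ (.node ⟨[4,16,20,7,4,16,20,2,8,10,7,4,16,20,7,6,4,16,20,2,8,10],4,[8,1,16,6,2,16,3,8],[55,126,339,36]⟩ (.node ⟨[4,16,20,7,4,16,20,6],3,[8,1,3,8,16,6,2,16],[7,110,295,20]⟩ .nil .nil) (.node ⟨[7,4,16,20,6,4,16,20],3,[8,1,16,6,2,16,3,8,16,6,2,16],[23,94,311,4]⟩ .nil .nil)) (.node ⟨[4,16,20,7,4,16,20,2,8,10,7],0,[],[63,118,350,42]⟩ (.node ⟨[4,16,20,7,4,16,20,2,8,10,4,16,20,7,6,4,16,20,6],4,[16,32,6,2,16,3,8,1,32,6,2,16,3,8,3,2,16,6,32],[15,102,303,26]⟩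 .nil .nil) (.node ⟨[7,2,8,10,4,16,20,7,4,16,20],0,[],[31,86,314,10]⟩ .nil .nil)))) (.node ⟨[7,4,16,20,7,4,16,20,2,8,10,7,2,8,10,6],4,[],[33,77,325,50]⟩ (.node ⟨[7,2,8,10,7,4,16,20,7,6,4,16,20,6],0,[],[45,65,329,56]⟩ (.node ⟨[2,8,10,7,2,8,10],1,[8,3,16,6,2,16,3,8],[53,121,337,38]⟩ (.node ⟨[2,8,10,4,16,20,7,6,4,16,20,2,8,10,6],4,[16,3,8,1,2,16,3,8,32,6,16,3,2,16,6,32],[5,105,293,22]⟩ .nil .nil) (.node ⟨[7,4,16,20,7,4,16,20,2,8,10,4,16,20,7,4,16,20,2,8,10],4,[8,1,3,8,32,6,16,3,2,16,6,32],[21,89,309,6]⟩ .nil .nil)) (.node ⟨[4,16,20,7,4,16,20,2,8,10,7,4,16,20,7,4,16,20],0,[],[61,113,348,40]⟩ (.node ⟨[4,16,20,7,6,4,16,20,2,8,10,6],0,[],[13,97,301,24]⟩ .nil .nil) (.node ⟨[7,2,8,10],0,[],[29,81,312,8]⟩ .nil .nil))) (.node ⟨[7,2,8,10,7,4,16,20,7,4,16,20,6],0,[],[41,69,333,60]⟩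 (.node ⟨[2,8,10,7,4,16,20,6,4,16,20,2,8,10],3,[8,3,16,6,2,16,3,8,16,6,2,16],[49,125,341,34]⟩ (.node ⟨[2,8,10,4,16,20,7,4,16,20,2,8,10,6],3,[16,6,2,16],[1,109,289,18]⟩ .nil .nil) (.node ⟨[7,4,16,20,7,4,16,20,2,8,10,4,16,20,7,6,4,16,20,2,8,10],4,[8,3,16,6,2,16,3,8],[17,93,305,2]⟩ .nil .nil)) (.node ⟨[4,16,20,7,4,16,20,2,8,10,7,4,16,20,7,6,4,16,20],0,[],[57,117,344,44]⟩ (.node ⟨[4,16,20,7,4,16,20,2,8,10,6],0,[],[9,101,297,28]⟩ .nil .nil) (.node ⟨[7,4,16,20,6,4,16,20,2,8,10],0,[],[25,85,316,12]⟩ .nil .nil))))) (.node ⟨[7,2,8,10,7,2,8,10,6],4,[32,6,16,3,8,1,6,16,32,6,2,16,3,8,6,32],[38,79,322,53]⟩ (.node ⟨[7,4,16,20,7,4,16,20,2,8,10,7,4,16,20,7,4,16,20,2,8,10,6],3,[32,6,16,3,8,1,2,16,3,8,6,16,3,32,6,16],[32,76,324,51]⟩ (.node ⟨[7,4,16,20,7,4,16,20,2,8,10,7,4,16,20,7,6,4,16,20,6],4,[16,32,6,2,16,3,8,1,32,6,2,16,3,8,3,16,6,32],[44,64,328,57]⟩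 (.node ⟨[2,8,10,7,4,16,20,7,4,16,20,2,8,10],3,[32,6,16,3,8,1,3,8,16,3,6,16,32,6,2,16,3,8,6,16,32,6,2,16],[52,120,336,39]⟩ (.node ⟨[4,16,20,6,4,16,20,6],3,[32,6,16,3,8,1,2,16,3,8,6,16,32,6,2,16],[4,104,292,23]⟩ .nil .nil) (.node ⟨[7,4,16,20,7,4,16,20],3,[32,6,16,3,8,1,6,16,32,6,2,16,3,8,6,16,32,6,2,16],[20,88,308,7]⟩ .nil .nil)) (.node ⟨[2,8,10,7,4,16,20,7,4,16,20],0,[],[60,112,349,41]⟩ (.node ⟨[4,16,20,6,4,16,20,2,8,10,6],4,[16,32,6,2,16,3,8,1,32,6,2,16,3,8,2,16,6,32],[12,96,300,25]⟩ .nil .nil) (.node ⟨[7,4,16,20,7,4,16,20,2,8,10],0,[],[28,80,313,9]⟩ .nil .nil))) (.node ⟨[7,4,16,20,7,4,16,20,2,8,10,7,4,16,20,7,4,16,20,6],4,[3,8,16,3,2,16],[40,68,332,61]⟩ (.node ⟨[2,8,10,7,4,16,20,7,6,4,16,20,2,8,10],4,[16,32,6,2,16,3,16,6,2,16,6,32],[48,124,340,35]⟩ (.node ⟨[6],1,[16,3,8,1,6,16,3,8],[0,108,288,19]⟩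 .nil .nil) (.node ⟨[7,4,16,20,7,6,4,16,20],4,[8,1,3,8,16,32,6,2,16,3,16,6,2,16,6,32],[16,92,304,3]⟩ .nil .nil)) (.node ⟨[2,8,10,7,4,16,20,7,6,4,16,20],0,[],[56,116,345,45]⟩ (.node ⟨[2,8,10,6],4,[16,6,2,16,3,8,16,3,6,16],[8,100,296,29]⟩ .nil .nil) (.node ⟨[7,4,16,20,7,6,4,16,20,2,8,10],0,[],[24,84,317,13]⟩ .nil .nil)))) (.node ⟨[7,2,8,10,7,4,16,20,6,4,16,20,2,8,10,6],4,[16,3,2,16],[34,75,326,49]⟩ (.node ⟨[7,4,16,20,7,6,4,16,20,2,8,10,7,6],0,[],[46,71,330,59]⟩ (.node ⟨[4,16,20,7,6,4,16,20,2,8,10,7,2,8,10],4,[32,6,16,3,8,1,2,16,3,8,6,32],[54,127,338,37]⟩ (.node ⟨[4,16,20,7,4,16,20,2,8,10,4,16,20,7,4,16,20,2,8,10,6],4,[16,32,6,2,16,3,8,1,32,6,2,16,3,8,16,3,2,16,6,32],[6,111,294,21]⟩ .nil .nil) (.node ⟨[7,2,8,10,4,16,20,7,6,4,16,20,2,8,10],4,[32,6,16,3,8,1,2,16,3,8,16,3,2,16,6,32],[22,95,310,5]⟩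 .nil .nil)) (.node ⟨[2,8,10,7],0,[],[62,119,351,43]⟩ (.node ⟨[2,8,10,4,16,20,7,6,4,16,20,6],0,[],[14,103,302,27]⟩ .nil .nil) (.node ⟨[7,4,16,20,7,4,16,20,2,8,10,4,16,20,7,4,16,20],0,[],[30,87,315,11]⟩ .nil .nil))) (.node ⟨[7,4,16,20,7,4,16,20,2,8,10,7,6],0,[],[42,67,334,63]⟩ (.node ⟨[4,16,20,7,4,16,20,2,8,10,7,2,8,10],3,[8,1,3,8,16,3,6,16],[50,123,342,33]⟩ (.node ⟨[4,16,20,7,4,16,20,2,8,10,4,16,20,7,6,4,16,20,2,8,10,6],4,[8,3,16,6,2,16,3,8,16,3,6,16],[2,107,290,17]⟩ .nil .nil) (.node ⟨[7,2,8,10,4,16,20,7,4,16,20,2,8,10],3,[16,3,6,16],[18,91,306,1]⟩ .nil .nil)) (.node ⟨[2,8,10,7,4,16,20,6,4,16,20],0,[],[58,115,347,47]⟩ (.node ⟨[2,8,10,4,16,20,7,4,16,20,6],0,[],[10,99,298,31]⟩ .nil .nil) (.node ⟨[7,4,16,20,7,4,16,20,2,8,10,4,16,20,7,6,4,16,20],0,[],[26,83,319,15]⟩ .nil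 .nil))))))

/-- A block of the table. -/
noncomputable def blk2 : Arr Row :=
  (.node ⟨[4,16,20,2,8,10,4,16,20,2,8,10],2,[3,8,16,3,32,6,16,2],[230,136,384,135]⟩ (.node ⟨[4,16,20,2,8,10,7,4,16,20,2,8,10],0,[],[231,137,385,134]⟩ (.node ⟨[4,16,20,2,8,10,7,6,4,16,20,2,8,10],0,[],[229,139,391,132]⟩ (.node ⟨[7,4,16,20,2,8,10,4,16,20,2,8,10],0,[],[225,141,386,128]⟩ (.node ⟨[4,16,20,2,8,10,7,6,4,16,20],0,[],[233,133,394,142]⟩ (.node ⟨[4,16,20,2,8,10,7,6,4,16,20,7],0,[],[249,183,410,158]⟩ (.node ⟨[4,16,20,7,2,8,10,7,6,4,16,20],4,[8,16,3,6,16],[217,149,507,190]⟩ .nil .nil) .nil) (.node ⟨[4,16,20,7,2,8,10,7,6,4,16,20,7],0,[],[201,167,491,174]⟩ .nil .nil)) (.node ⟨[7,4,16,20,2,8,10,4,16,20,7,2,8,10],0,[],[241,189,402,144]⟩ (.node ⟨[7,4,16,20,7,2,8,10,6,4,16,20,7,2,8,10],0,[],[193,175,483,160]⟩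 .nil .nil) (.node ⟨[7,4,16,20,7,2,8,10,6,4,16,20,2,8,10],4,[8,32,6,16,3,6,16,32,6,2,16,6,32],[209,159,499,176]⟩ .nil .nil))) (.node ⟨[7,4,16,20,2,8,10,6,4,16,20],0,[],[237,131,399,138]⟩ (.node ⟨[4,16,20,2,8,10,7,6,4,16,20,7,2,8,10],4,[1,3,8,32,6,16,3,6,16,32,6,2,16,6,32],[245,187,407,148]⟩ (.node ⟨[4,16,20,7,2,8,10,7,4,16,20,7,2,8,10],0,[],[197,169,486,164]⟩ .nil .nil) (.node ⟨[4,16,20,7,2,8,10,7,4,16,20,2,8,10],0,[],[213,153,502,180]⟩ .nil .nil)) (.node ⟨[7,4,16,20,2,8,10,6,4,16,20,7],4,[1,3,8,16,3,6,16],[253,177,415,154]⟩ (.node ⟨[7,4,16,20,7,2,8,10,6,4,16,20,7],0,[],[205,161,494,170]⟩ .nil .nil) (.node ⟨[7,4,16,20,7,2,8,10,6,4,16,20],0,[],[221,147,510,186]⟩ .nil .nil)))) (.node ⟨[7,4,16,20,2,8,10,6,4,16,20,2,8,10],0,[],[227,143,388,130]⟩ (.node ⟨[7,4,16,20,2,8,10,4,16,20],0,[],[239,129,393,136]⟩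 (.node ⟨[4,16,20,2,8,10,7,4,16,20,7,2,8,10],2,[1,3,8,16,3,32,6,16,2],[247,185,401,150]⟩ (.node ⟨[4,16,20,7,2,8,10,7,6,4,16,20,7,2,8,10],0,[],[199,171,480,166]⟩ .nil .nil) (.node ⟨[4,16,20,7,2,8,10,7,6,4,16,20,2,8,10],0,[],[215,155,496,182]⟩ .nil .nil)) (.node ⟨[7,4,16,20,2,8,10,4,16,20,7],2,[1,3,8,32,6,16,3,6,32],[255,179,409,152]⟩ (.node ⟨[7,4,16,20,7,2,8,10,4,16,20,7],0,[],[207,163,488,168]⟩ .nil .nil) (.node ⟨[7,4,16,20,7,2,8,10,4,16,20],0,[],[223,145,504,184]⟩ .nil .nil))) (.node ⟨[4,16,20,2,8,10,7,4,16,20],0,[],[235,135,396,140]⟩ (.node ⟨[7,4,16,20,2,8,10,6,4,16,20,7,2,8,10],0,[],[243,191,404,146]⟩ (.node ⟨[7,4,16,20,7,2,8,10,4,16,20,7,2,8,10],0,[],[195,173,485,162]⟩ .nil .nil) (.node ⟨[7,4,16,20,7,2,8,10,4,16,20,2,8,10],2,[8,16,3,32,6,16,2],[211,157,501,178]⟩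 .nil .nil)) (.node ⟨[4,16,20,2,8,10,7,4,16,20,7],0,[],[251,181,412,156]⟩ (.node ⟨[4,16,20,7,2,8,10,7,4,16,20,7],0,[],[203,165,493,172]⟩ .nil .nil) (.node ⟨[4,16,20,7,2,8,10,7,4,16,20],2,[8,32,6,16,3,6,32],[219,151,509,188]⟩ .nil .nil))))) (.node ⟨[4,16,20,2,8,10,6,4,16,20,2,8,10],4,[3,8,32,6,16,3,6,16,32,6,2,16,6,32],[228,138,390,133]⟩ (.node ⟨[7,4,16,20,2,8,10,7,6,4,16,20,2,8,10],0,[],[226,142,389,131]⟩ (.node ⟨[4,16,20,2,8,10,4,16,20],2,[3,8,32,6,16,3,6,32],[238,128,392,137]⟩ (.node ⟨[4,16,20,2,8,10,4,16,20,7,2,8,10],0,[],[246,184,400,151]⟩ (.node ⟨[4,16,20,7,2,8,10,6,4,16,20,7,2,8,10],0,[],[198,170,481,167]⟩ .nil .nil) (.node ⟨[4,16,20,7,2,8,10,6,4,16,20,2,8,10],0,[],[214,154,497,183]⟩ .nil .nil)) (.node ⟨[4,16,20,2,8,10,4,16,20,7],0,[],[254,178,408,153]⟩ (.node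 ⟨[4,16,20,7,2,8,10,4,16,20,7],0,[],[206,162,489,169]⟩ .nil .nil) (.node ⟨[4,16,20,7,2,8,10,4,16,20],0,[],[222,144,505,185]⟩ .nil .nil))) (.node ⟨[7,4,16,20,2,8,10,7,4,16,20],0,[],[234,134,397,141]⟩ (.node ⟨[7,4,16,20,2,8,10,7,6,4,16,20,7,2,8,10],0,[],[242,190,405,147]⟩ (.node ⟨[7,4,16,20,7,2,8,10,7,4,16,20,7,2,8,10],2,[1,8,16,3,32,6,16,2],[194,172,484,163]⟩ .nil .nil) (.node ⟨[7,4,16,20,7,2,8,10,7,4,16,20,2,8,10],0,[],[210,156,500,179]⟩ .nil .nil)) (.node ⟨[7,4,16,20,2,8,10,7,4,16,20,7],0,[],[250,180,413,157]⟩ (.node ⟨[7,4,16,20,7,2,8,10,7,4,16,20,7],2,[1,8,32,6,16,3,6,32],[202,164,492,173]⟩ .nil .nil) (.node ⟨[7,4,16,20,7,2,8,10,7,4,16,20],0,[],[218,150,508,189]⟩ .nil .nil)))) (.node ⟨[7,4,16,20,2,8,10,7,4,16,20,2,8,10],0,[],[224,140,387,129]⟩ (.node ⟨[4,16,20,2,8,10,6,4,16,20],4,[3,8,16,3,6,16],[236,130,398,139]⟩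 (.node ⟨[4,16,20,2,8,10,6,4,16,20,7,2,8,10],0,[],[244,186,406,149]⟩ (.node ⟨[4,16,20,7,2,8,10,4,16,20,7,2,8,10],0,[],[196,168,487,165]⟩ .nil .nil) (.node ⟨[4,16,20,7,2,8,10,4,16,20,2,8,10],0,[],[212,152,503,181]⟩ .nil .nil)) (.node ⟨[4,16,20,2,8,10,6,4,16,20,7],0,[],[252,176,414,155]⟩ (.node ⟨[4,16,20,7,2,8,10,6,4,16,20,7],0,[],[204,160,495,171]⟩ .nil .nil) (.node ⟨[4,16,20,7,2,8,10,6,4,16,20],0,[],[220,146,511,187]⟩ .nil .nil))) (.node ⟨[7,4,16,20,2,8,10,7,6,4,16,20],0,[],[232,132,395,143]⟩ (.node ⟨[7,4,16,20,2,8,10,7,4,16,20,7,2,8,10],0,[],[240,188,403,145]⟩ (.node ⟨[7,4,16,20,7,2,8,10,7,6,4,16,20,7,2,8,10],4,[1,8,32,6,16,3,6,16,32,6,2,16,6,32],[192,174,482,161]⟩ .nil .nil) (.node ⟨[7,4,16,20,7,2,8,10,7,6,4,16,20,2,8,10],0,[],[208,158,498,177]⟩ .nil .nil)) (.node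 ⟨[7,4,16,20,2,8,10,7,6,4,16,20,7],0,[],[248,182,411,159]⟩ (.node ⟨[7,4,16,20,7,2,8,10,7,6,4,16,20,7],4,[1,8,16,3,6,16],[200,166,490,175]⟩ .nil .nil) (.node ⟨[7,4,16,20,7,2,8,10,7,6,4,16,20],0,[],[216,148,506,191]⟩ .nil .nil))))))

/-- A block of the table. -/
noncomputable def blk3 : Arr Row :=
  (.node ⟨[7,4,16,20,7,2,8,10,7,6,4,16,20,7,2,8,10,6],3,[32,6,16,3,8,1,16,3,6,16,32,6,2,16,3,8,6,16,32,6,2,16],[166,200,448,199]⟩ (.node ⟨[7,4,16,20,7,2,8,10,6,4,16,20,7,2,8,10,6],0,[],[167,201,449,198]⟩ (.node ⟨[7,4,16,20,7,2,8,10,4,16,20,7,2,8,10,6],0,[],[165,203,455,196]⟩ (.node ⟨[4,16,20,7,2,8,10,7,6,4,16,20,7,2,8,10,6],0,[],[161,205,450,192]⟩ (.node ⟨[7,4,16,20,7,2,8,10,4,16,20,7,6],0,[],[169,197,458,206]⟩ (.node ⟨[7,4,16,20,7,2,8,10,4,16,20,6],0,[],[185,247,474,222]⟩ (.node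 ⟨[7,4,16,20,2,8,10,4,16,20,7,6],3,[8,16,3,6,16],[153,213,443,254]⟩ .nil .nil) .nil) (.node ⟨[7,4,16,20,2,8,10,4,16,20,6],0,[],[137,231,427,238]⟩ .nil .nil)) (.node ⟨[4,16,20,7,2,8,10,7,6,4,16,20,2,8,10,6],0,[],[177,253,466,208]⟩ (.node ⟨[4,16,20,2,8,10,7,4,16,20,2,8,10,6],0,[],[129,239,419,224]⟩ .nil .nil) (.node ⟨[4,16,20,2,8,10,7,4,16,20,7,2,8,10,6],4,[1,3,8,16,32,6,2,16,3,16,6,2,16,6,32],[145,223,435,240]⟩ .nil .nil))) (.node ⟨[4,16,20,7,2,8,10,7,4,16,20,7,6],0,[],[173,195,463,202]⟩ (.node ⟨[7,4,16,20,7,2,8,10,4,16,20,2,8,10,6],4,[8,16,32,6,2,16,3,16,6,2,16,6,32],[181,251,471,212]⟩ (.node ⟨[7,4,16,20,2,8,10,6,4,16,20,2,8,10,6],0,[],[133,233,422,228]⟩ .nil .nil) (.node ⟨[7,4,16,20,2,8,10,6,4,16,20,7,2,8,10,6],0,[],[149,217,438,244]⟩ .nil .nil)) (.node ⟨[4,16,20,7,2,8,10,7,4,16,20,6],3,[1,3,8,16,3,6,16],[189,241,479,218]⟩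 (.node ⟨[4,16,20,2,8,10,7,4,16,20,6],0,[],[141,225,430,234]⟩ .nil .nil) (.node ⟨[4,16,20,2,8,10,7,4,16,20,7,6],0,[],[157,211,446,250]⟩ .nil .nil)))) (.node ⟨[4,16,20,7,2,8,10,7,4,16,20,7,2,8,10,6],0,[],[163,207,452,194]⟩ (.node ⟨[4,16,20,7,2,8,10,7,6,4,16,20,7,6],0,[],[175,193,457,200]⟩ (.node ⟨[7,4,16,20,7,2,8,10,6,4,16,20,2,8,10,6],3,[32,6,16,3,8,1,8,16,3,6,16,32,6,2,16,3,8,6,16,32,6,2,16],[183,249,465,214]⟩ (.node ⟨[7,4,16,20,2,8,10,4,16,20,2,8,10,6],0,[],[135,235,416,230]⟩ .nil .nil) (.node ⟨[7,4,16,20,2,8,10,4,16,20,7,2,8,10,6],0,[],[151,219,432,246]⟩ .nil .nil)) (.node ⟨[4,16,20,7,2,8,10,7,6,4,16,20,6],4,[32,6,16,3,8,1,2,16,3,8,16,6,32],[191,243,473,216]⟩ (.node ⟨[4,16,20,2,8,10,7,6,4,16,20,6],0,[],[143,227,424,232]⟩ .nil .nil) (.node ⟨[4,16,20,2,8,10,7,6,4,16,20,7,6],0,[],[159,209,440,248]⟩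 .nil .nil))) (.node ⟨[7,4,16,20,7,2,8,10,6,4,16,20,7,6],0,[],[171,199,460,204]⟩ (.node ⟨[4,16,20,7,2,8,10,7,4,16,20,2,8,10,6],0,[],[179,255,468,210]⟩ (.node ⟨[4,16,20,2,8,10,7,6,4,16,20,2,8,10,6],0,[],[131,237,421,226]⟩ .nil .nil) (.node ⟨[4,16,20,2,8,10,7,6,4,16,20,7,2,8,10,6],3,[32,6,16,3,8,1,3,6,16,32,6,2,16,3,8,6,16,32,6,2,16],[147,221,437,242]⟩ .nil .nil)) (.node ⟨[7,4,16,20,7,2,8,10,6,4,16,20,6],0,[],[187,245,476,220]⟩ (.node ⟨[7,4,16,20,2,8,10,6,4,16,20,6],0,[],[139,229,429,236]⟩ .nil .nil) (.node ⟨[7,4,16,20,2,8,10,6,4,16,20,7,6],4,[32,6,16,3,8,1,2,16,3,8,3,2,16,6,32],[155,215,445,252]⟩ .nil .nil))))) (.node ⟨[7,4,16,20,7,2,8,10,7,4,16,20,7,2,8,10,6],4,[1,8,16,32,6,2,16,3,16,6,2,16,6,32],[164,202,454,197]⟩ (.node ⟨[4,16,20,7,2,8,10,4,16,20,7,2,8,10,6],0,[],[162,206,453,195]⟩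 (.node ⟨[7,4,16,20,7,2,8,10,7,6,4,16,20,7,6],4,[32,6,16,3,8,1,2,16,3,8,3,16,6,32],[174,192,456,201]⟩ (.node ⟨[7,4,16,20,7,2,8,10,7,6,4,16,20,2,8,10,6],0,[],[182,248,464,215]⟩ (.node ⟨[7,4,16,20,2,8,10,7,4,16,20,2,8,10,6],0,[],[134,234,417,231]⟩ .nil .nil) (.node ⟨[7,4,16,20,2,8,10,7,4,16,20,7,2,8,10,6],0,[],[150,218,433,247]⟩ .nil .nil)) (.node ⟨[7,4,16,20,7,2,8,10,7,6,4,16,20,6],0,[],[190,242,472,217]⟩ (.node ⟨[7,4,16,20,2,8,10,7,6,4,16,20,6],0,[],[142,226,425,233]⟩ .nil .nil) (.node ⟨[7,4,16,20,2,8,10,7,6,4,16,20,7,6],0,[],[158,208,441,249]⟩ .nil .nil))) (.node ⟨[4,16,20,7,2,8,10,6,4,16,20,7,6],0,[],[170,198,461,205]⟩ (.node ⟨[4,16,20,7,2,8,10,4,16,20,2,8,10,6],0,[],[178,254,469,211]⟩ (.node ⟨[4,16,20,2,8,10,6,4,16,20,2,8,10,6],3,[32,6,16,3,8,1,8,3,6,16,32,6,2,16,3,8,6,16,32,6,2,16],[130,236,420,227]⟩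 .nil .nil) (.node ⟨[4,16,20,2,8,10,6,4,16,20,7,2,8,10,6],0,[],[146,220,436,243]⟩ .nil .nil)) (.node ⟨[4,16,20,7,2,8,10,6,4,16,20,6],0,[],[186,244,477,221]⟩ (.node ⟨[4,16,20,2,8,10,6,4,16,20,6],4,[32,6,16,3,8,1,2,16,3,8,2,16,6,32],[138,228,428,237]⟩ .nil .nil) (.node ⟨[4,16,20,2,8,10,6,4,16,20,7,6],0,[],[154,214,444,253]⟩ .nil .nil)))) (.node ⟨[4,16,20,7,2,8,10,6,4,16,20,7,2,8,10,6],0,[],[160,204,451,193]⟩ (.node ⟨[7,4,16,20,7,2,8,10,7,4,16,20,7,6],3,[3,8,16,3,6,16],[172,194,462,203]⟩ (.node ⟨[7,4,16,20,7,2,8,10,7,4,16,20,2,8,10,6],0,[],[180,250,470,213]⟩ (.node ⟨[7,4,16,20,2,8,10,7,6,4,16,20,2,8,10,6],0,[],[132,232,423,229]⟩ .nil .nil) (.node ⟨[7,4,16,20,2,8,10,7,6,4,16,20,7,2,8,10,6],0,[],[148,216,439,245]⟩ .nil .nil)) (.node ⟨[7,4,16,20,7,2,8,10,7,4,16,20,6],0,[],[188,240,478,219]⟩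 (.node ⟨[7,4,16,20,2,8,10,7,4,16,20,6],0,[],[140,224,431,235]⟩ .nil .nil) (.node ⟨[7,4,16,20,2,8,10,7,4,16,20,7,6],0,[],[156,210,447,251]⟩ .nil .nil))) (.node ⟨[4,16,20,7,2,8,10,4,16,20,7,6],0,[],[168,196,459,207]⟩ (.node ⟨[4,16,20,7,2,8,10,6,4,16,20,2,8,10,6],0,[],[176,252,467,209]⟩ (.node ⟨[4,16,20,2,8,10,4,16,20,2,8,10,6],4,[3,8,16,32,6,2,16,3,16,6,2,16,6,32],[128,238,418,225]⟩ .nil .nil) (.node ⟨[4,16,20,2,8,10,4,16,20,7,2,8,10,6],0,[],[144,222,434,241]⟩ .nil .nil)) (.node ⟨[4,16,20,7,2,8,10,4,16,20,6],0,[],[184,246,475,223]⟩ (.node ⟨[4,16,20,2,8,10,4,16,20,6],3,[1,8,16,3,6,16],[136,230,426,239]⟩ .nil .nil) (.node ⟨[4,16,20,2,8,10,4,16,20,7,6],0,[],[152,212,442,255]⟩ .nil .nil))))))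

/-- A block of the table. -/
noncomputable def blk4 : Arr Row :=
  (.node ⟨[4,16,20],2,[32,6,16,2],[260,392,0,263]⟩ (.node ⟨[4,16,20,2,8,10,4,16,20,7,4,16,20,2,8,10],4,[8,1,2,16,3,8,16,32,6,2,16,3,32,6,2,16,6,32],[261,393,1,262]⟩ (.node ⟨[7,6,4,16,20],0,[],[263,394,3,260]⟩ (.node ⟨[7,4,16,20],0,[],[259,396,7,256]⟩ (.node ⟨[7,4,16,20,2,8,10,4,16,20,7,6,4,16,20],0,[],[267,389,15,270]⟩ (.node ⟨[7,4,16,20,7,2,8,10,4,16,20,7,6,4,16,20,6],0,[],[283,439,26,286]⟩ (.node ⟨[7,4,16,20,7,2,8,10,4,16,20,7,6,4,16,20],0,[],[315,405,126,318]⟩ .nil .nil) .nil) (.node ⟨[7,4,16,20,2,8,10,4,16,20,7,6,4,16,20,6],0,[],[299,423,107,302]⟩ .nil .nil)) (.node ⟨[6,4,16,20,7,6],0,[],[275,444,23,272]⟩ (.node ⟨[7,4,16,20,6],0,[],[291,430,99,288]⟩ .nil .nil) (.node ⟨[6,4,16,20,7],0,[],[307,414,115,304]⟩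 .nil .nil))) (.node ⟨[7,4,16,20,2,8,10,4,16,20,7,4,16,20],0,[],[271,387,11,266]⟩ (.node ⟨[4,16,20,7,6],0,[],[279,442,19,276]⟩ (.node ⟨[7,6,4,16,20,6],0,[],[295,424,103,292]⟩ .nil .nil) (.node ⟨[4,16,20,7],0,[],[311,408,119,308]⟩ .nil .nil)) (.node ⟨[7,4,16,20,7,2,8,10,4,16,20,7,4,16,20,6],0,[],[287,433,30,282]⟩ (.node ⟨[7,4,16,20,2,8,10,4,16,20,7,4,16,20,6],0,[],[303,417,111,298]⟩ .nil .nil) (.node ⟨[7,4,16,20,7,2,8,10,4,16,20,7,4,16,20],0,[],[319,403,122,314]⟩ .nil .nil)))) (.node ⟨[4,16,20,2,8,10,4,16,20,7,6,4,16,20,2,8,10],0,[],[257,399,5,258]⟩ (.node ⟨[7,4,16,20,2,8,10],0,[],[269,385,9,264]⟩ (.node ⟨[7,4,16,20,7,2,8,10,4,16,20,7,6,4,16,20,2,8,10,6],4,[3,8,1,16,3,8,16,32,6,2,16,3,32,6,2,16,6,32],[277,441,17,278]⟩ (.node ⟨[4,16,20,2,8,10,4,16,20,7,4,16,20,2,8,10,6],0,[],[293,427,101,294]⟩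 .nil .nil) (.node ⟨[7,4,16,20,7,2,8,10,4,16,20,7,6,4,16,20,2,8,10],0,[],[309,411,117,310]⟩ .nil .nil)) (.node ⟨[7,4,16,20,7,2,8,10,6],0,[],[285,435,28,280]⟩ (.node ⟨[7,4,16,20,2,8,10,6],0,[],[301,419,109,296]⟩ .nil .nil) (.node ⟨[7,4,16,20,7,2,8,10],0,[],[317,401,120,312]⟩ .nil .nil))) (.node ⟨[7,6,4,16,20,2,8,10],0,[],[265,391,13,268]⟩ (.node ⟨[7,4,16,20,7,2,8,10,4,16,20,7,4,16,20,2,8,10,6],0,[],[273,447,21,274]⟩ (.node ⟨[4,16,20,2,8,10,4,16,20,7,6,4,16,20,2,8,10,6],4,[8,1,16,3,8,16,32,6,2,16,3,32,6,2,16,6,32],[289,429,97,290]⟩ .nil .nil) (.node ⟨[7,4,16,20,7,2,8,10,4,16,20,7,4,16,20,2,8,10],4,[32,6,16,3,8,1,6,2,16,3,8,6,16,32,6,2,16],[305,413,113,306]⟩ .nil .nil)) (.node ⟨[7,6,4,16,20,7,2,8,10,6],0,[],[281,437,24,284]⟩ (.node ⟨[7,6,4,16,20,2,8,10,6],0,[],[297,421,105,300]⟩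 .nil .nil) (.node ⟨[7,6,4,16,20,7,2,8,10],0,[],[313,407,124,316]⟩ .nil .nil))))) (.node ⟨[7,4,16,20,2,8,10,4,16,20,7,6,4,16,20,2,8,10],0,[],[262,395,2,261]⟩ (.node ⟨[6,4,16,20],0,[],[256,398,4,259]⟩ (.node ⟨[4,16,20,2,8,10],0,[],[268,384,8,265]⟩ (.node ⟨[7,6,4,16,20,7,6],2,[3,32,6,16,2,32],[276,440,16,279]⟩ (.node ⟨[4,16,20,6],0,[],[292,426,100,295]⟩ .nil .nil) (.node ⟨[7,6,4,16,20,7],0,[],[308,410,116,311]⟩ .nil .nil)) (.node ⟨[4,16,20,7,2,8,10,6],0,[],[284,434,29,281]⟩ (.node ⟨[4,16,20,2,8,10,6],0,[],[300,418,108,297]⟩ .nil .nil) (.node ⟨[4,16,20,7,2,8,10],0,[],[316,400,121,313]⟩ .nil .nil))) (.node ⟨[6,4,16,20,2,8,10],0,[],[264,390,12,269]⟩ (.node ⟨[7,4,16,20,7,6],0,[],[272,446,20,275]⟩ (.node ⟨[6,4,16,20,6],2,[32,6,16,2,32],[288,428,96,291]⟩ .nil .nil) (.node ⟨[7,4,16,20,7],2,[3,32,6,16,2],[304,412,112,307]⟩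 .nil .nil)) (.node ⟨[6,4,16,20,7,2,8,10,6],0,[],[280,436,25,285]⟩ (.node ⟨[6,4,16,20,2,8,10,6],0,[],[296,420,104,301]⟩ .nil .nil) (.node ⟨[6,4,16,20,7,2,8,10],0,[],[312,406,125,317]⟩ .nil .nil)))) (.node ⟨[7,4,16,20,2,8,10,4,16,20,7,4,16,20,2,8,10],0,[],[258,397,6,257]⟩ (.node ⟨[4,16,20,2,8,10,4,16,20,7,4,16,20],0,[],[270,386,10,267]⟩ (.node ⟨[4,16,20,7,2,8,10,4,16,20,7,4,16,20,2,8,10,6],0,[],[278,443,18,277]⟩ (.node ⟨[7,4,16,20,2,8,10,4,16,20,7,6,4,16,20,2,8,10,6],0,[],[294,425,102,293]⟩ .nil .nil) (.node ⟨[4,16,20,7,2,8,10,4,16,20,7,4,16,20,2,8,10],0,[],[310,409,118,309]⟩ .nil .nil)) (.node ⟨[4,16,20,7,2,8,10,4,16,20,7,4,16,20,6],0,[],[286,432,31,283]⟩ (.node ⟨[4,16,20,2,8,10,4,16,20,7,4,16,20,6],0,[],[302,416,110,299]⟩ .nil .nil) (.node ⟨[4,16,20,7,2,8,10,4,16,20,7,4,16,20],0,[],[318,402,123,315]⟩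 .nil .nil))) (.node ⟨[4,16,20,2,8,10,4,16,20,7,6,4,16,20],0,[],[266,388,14,271]⟩ (.node ⟨[4,16,20,7,2,8,10,4,16,20,7,6,4,16,20,2,8,10,6],0,[],[274,445,22,273]⟩ (.node ⟨[7,4,16,20,2,8,10,4,16,20,7,4,16,20,2,8,10,6],0,[],[290,431,98,289]⟩ .nil .nil) (.node ⟨[4,16,20,7,2,8,10,4,16,20,7,6,4,16,20,2,8,10],0,[],[306,415,114,305]⟩ .nil .nil)) (.node ⟨[4,16,20,7,2,8,10,4,16,20,7,6,4,16,20,6],0,[],[282,438,27,287]⟩ (.node ⟨[4,16,20,2,8,10,4,16,20,7,6,4,16,20,6],0,[],[298,422,106,303]⟩ .nil .nil) (.node ⟨[4,16,20,7,2,8,10,4,16,20,7,6,4,16,20],0,[],[314,404,127,319]⟩ .nil .nil))))))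

/-- A block of the table. -/
noncomputable def blk5 : Arr Row :=
  (.node ⟨[7,4,16,20,7,2,8,10,7,4,16,20,7,6,4,16,20,2,8,10,6],3,[32,6,16,3,8,1,32,6,2,16,3,8,6,16,32,6,2,16],[324,456,64,327]⟩ (.node ⟨[7,6,4,16,20,7,2,8,10,7,2,8,10,6],4,[3,8,1,16,3,8,32,6,16,3,2,16,6,32],[325,457,65,326]⟩ (.node ⟨[4,16,20,7,2,8,10,7,4,16,20,7,4,16,20,2,8,10,6],0,[],[327,458,67,324]⟩ (.node ⟨[4,16,20,7,2,8,10,7,4,16,20,7,6,4,16,20,2,8,10,6],0,[],[323,460,71,320]⟩ (.node ⟨[4,16,20,7,2,8,10,7,6],0,[],[331,453,79,334]⟩ (.node ⟨[4,16,20,2,8,10,7],0,[],[347,503,90,350]⟩ (.node ⟨[4,16,20,2,8,10,7,6],0,[],[379,469,62,382]⟩ .nil .nil) .nil) (.node ⟨[4,16,20,7,2,8,10,7],0,[],[363,487,43,366]⟩ .nil .nil)) (.node ⟨[7,4,16,20,2,8,10,7,4,16,20,7,4,16,20,2,8,10],0,[],[339,508,87,336]⟩ (.node ⟨[4,16,20,7,2,8,10,7,4,16,20,7,6,4,16,20,2,8,10],0,[],[355,494,35,352]⟩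 .nil .nil) (.node ⟨[7,4,16,20,2,8,10,7,4,16,20,7,4,16,20,2,8,10,6],0,[],[371,478,51,368]⟩ .nil .nil))) (.node ⟨[6,4,16,20,7,2,8,10,7,6],0,[],[335,451,75,330]⟩ (.node ⟨[7,4,16,20,2,8,10,7,4,16,20,7,6,4,16,20,2,8,10],0,[],[343,506,83,340]⟩ (.node ⟨[4,16,20,7,2,8,10,7,4,16,20,7,4,16,20,2,8,10],0,[],[359,488,39,356]⟩ .nil .nil) (.node ⟨[7,4,16,20,2,8,10,7,4,16,20,7,6,4,16,20,2,8,10,6],0,[],[375,472,55,372]⟩ .nil .nil)) (.node ⟨[6,4,16,20,2,8,10,7],0,[],[351,497,94,346]⟩ (.node ⟨[6,4,16,20,7,2,8,10,7],0,[],[367,481,47,362]⟩ .nil .nil) (.node ⟨[6,4,16,20,2,8,10,7,6],0,[],[383,467,58,378]⟩ .nil .nil)))) (.node ⟨[7,4,16,20,7,2,8,10,7,2,8,10,6],0,[],[321,463,69,322]⟩ (.node ⟨[4,16,20,7,2,8,10,7,4,16,20,7,6,4,16,20,6],0,[],[333,449,73,328]⟩ (.node ⟨[4,16,20,2,8,10,7,2,8,10],4,[8,1,2,16,3,8,32,6,16,3,2,16,6,32],[341,505,81,342]⟩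 (.node ⟨[7,6,4,16,20,7,2,8,10,7,2,8,10],0,[],[357,491,37,358]⟩ .nil .nil) (.node ⟨[4,16,20,2,8,10,7,2,8,10,6],0,[],[373,475,53,374]⟩ .nil .nil)) (.node ⟨[4,16,20,2,8,10,7,4,16,20,7,6,4,16,20],0,[],[349,499,92,344]⟩ (.node ⟨[4,16,20,7,2,8,10,7,4,16,20,7,6,4,16,20],0,[],[365,483,45,360]⟩ .nil .nil) (.node ⟨[4,16,20,2,8,10,7,4,16,20,7,6,4,16,20,6],0,[],[381,465,56,376]⟩ .nil .nil))) (.node ⟨[4,16,20,7,2,8,10,7,4,16,20,7,4,16,20,6],0,[],[329,455,77,332]⟩ (.node ⟨[6,4,16,20,2,8,10,7,2,8,10],0,[],[337,511,85,338]⟩ (.node ⟨[7,4,16,20,7,2,8,10,7,2,8,10],4,[3,8,1,2,16,3,8,32,6,16,3,2,16,6,32],[353,493,33,354]⟩ .nil .nil) (.node ⟨[6,4,16,20,2,8,10,7,2,8,10,6],4,[8,1,16,3,8,32,6,16,3,2,16,6,32],[369,477,49,370]⟩ .nil .nil)) (.node ⟨[4,16,20,2,8,10,7,4,16,20,7,4,16,20],0,[],[345,501,88,348]⟩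 (.node ⟨[4,16,20,7,2,8,10,7,4,16,20,7,4,16,20],0,[],[361,485,41,364]⟩ .nil .nil) (.node ⟨[4,16,20,2,8,10,7,4,16,20,7,4,16,20,6],0,[],[377,471,60,380]⟩ .nil .nil))))) (.node ⟨[4,16,20,7,2,8,10,7,2,8,10,6],0,[],[326,459,66,325]⟩ (.node ⟨[7,4,16,20,7,2,8,10,7,4,16,20,7,4,16,20,2,8,10,6],0,[],[320,462,68,323]⟩ (.node ⟨[7,4,16,20,7,2,8,10,7,4,16,20,7,6,4,16,20,6],0,[],[332,448,72,329]⟩ (.node ⟨[4,16,20,2,8,10,7,4,16,20,7,4,16,20,2,8,10],3,[32,6,16,3,8,1,16,6,2,16,3,8,6,16,32,6,2,16],[340,504,80,343]⟩ (.node ⟨[7,4,16,20,7,2,8,10,7,4,16,20,7,6,4,16,20,2,8,10],0,[],[356,490,36,359]⟩ .nil .nil) (.node ⟨[4,16,20,2,8,10,7,4,16,20,7,4,16,20,2,8,10,6],0,[],[372,474,52,375]⟩ .nil .nil)) (.node ⟨[7,4,16,20,2,8,10,7,4,16,20,7,6,4,16,20],0,[],[348,498,93,345]⟩ (.node ⟨[7,4,16,20,7,2,8,10,7,4,16,20,7,6,4,16,20],0,[],[364,482,44,361]⟩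 .nil .nil) (.node ⟨[7,4,16,20,2,8,10,7,4,16,20,7,6,4,16,20,6],0,[],[380,464,57,377]⟩ .nil .nil))) (.node ⟨[7,4,16,20,7,2,8,10,7,4,16,20,7,4,16,20,6],0,[],[328,454,76,333]⟩ (.node ⟨[4,16,20,2,8,10,7,4,16,20,7,6,4,16,20,2,8,10],0,[],[336,510,84,339]⟩ (.node ⟨[7,4,16,20,7,2,8,10,7,4,16,20,7,4,16,20,2,8,10],3,[32,6,16,3,8,1,6,2,16,3,8,6,16,32,6,2,16],[352,492,32,355]⟩ .nil .nil) (.node ⟨[4,16,20,2,8,10,7,4,16,20,7,6,4,16,20,2,8,10,6],3,[32,6,16,3,8,1,16,32,6,2,16,3,8,6,16,32,6,2,16],[368,476,48,371]⟩ .nil .nil)) (.node ⟨[7,4,16,20,2,8,10,7,4,16,20,7,4,16,20],0,[],[344,500,89,349]⟩ (.node ⟨[7,4,16,20,7,2,8,10,7,4,16,20,7,4,16,20],0,[],[360,484,40,365]⟩ .nil .nil) (.node ⟨[7,4,16,20,2,8,10,7,4,16,20,7,4,16,20,6],0,[],[376,470,61,381]⟩ .nil .nil)))) (.node ⟨[6,4,16,20,7,2,8,10,7,2,8,10,6],0,[],[322,461,70,321]⟩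 (.node ⟨[7,6,4,16,20,7,2,8,10,7,6],0,[],[334,450,74,331]⟩ (.node ⟨[7,6,4,16,20,2,8,10,7,2,8,10],0,[],[342,507,82,341]⟩ (.node ⟨[4,16,20,7,2,8,10,7,2,8,10],0,[],[358,489,38,357]⟩ .nil .nil) (.node ⟨[7,6,4,16,20,2,8,10,7,2,8,10,6],0,[],[374,473,54,373]⟩ .nil .nil)) (.node ⟨[7,6,4,16,20,2,8,10,7],0,[],[350,496,95,347]⟩ (.node ⟨[7,6,4,16,20,7,2,8,10,7],0,[],[366,480,46,363]⟩ .nil .nil) (.node ⟨[7,6,4,16,20,2,8,10,7,6],0,[],[382,466,59,379]⟩ .nil .nil))) (.node ⟨[7,4,16,20,7,2,8,10,7,6],0,[],[330,452,78,335]⟩ (.node ⟨[7,4,16,20,2,8,10,7,2,8,10],0,[],[338,509,86,337]⟩ (.node ⟨[6,4,16,20,7,2,8,10,7,2,8,10],0,[],[354,495,34,353]⟩ .nil .nil) (.node ⟨[7,4,16,20,2,8,10,7,2,8,10,6],0,[],[370,479,50,369]⟩ .nil .nil)) (.node ⟨[7,4,16,20,2,8,10,7],0,[],[346,502,91,351]⟩ (.node ⟨[7,4,16,20,7,2,8,10,7],0,[],[362,486,42,367]⟩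 .nil .nil) (.node ⟨[7,4,16,20,2,8,10,7,6],0,[],[378,468,63,383]⟩ .nil .nil))))))

/-- A block of the table. -/
noncomputable def blk6 : Arr Row :=
  (.node ⟨[2,8,10,4,16,20,2,8,10],2,[1,8,3,32,6,16,2,32],[390,264,128,503]⟩ (.node ⟨[2,8,10,7,4,16,20,2,8,10],0,[],[391,265,129,502]⟩ (.node ⟨[4,16,20,7,4,16,20,2,8,10,7,4,16,20,2,8,10],0,[],[389,267,134,500]⟩ (.node ⟨[2,8,10,7,6,4,16,20,2,8,10],0,[],[385,269,131,496]⟩ (.node ⟨[4,16,20,7,4,16,20,2,8,10,6,4,16,20],0,[],[393,261,139,510]⟩ (.node ⟨[4,16,20,7,4,16,20,2,8,10,6,4,16,20,7],0,[],[409,310,155,494]⟩ (.node ⟨[4,16,20,7,4,16,20,2,8,10,7,4,16,20,7,6],0,[],[441,277,250,462]⟩ .nil .nil) .nil) (.node ⟨[4,16,20,7,4,16,20,2,8,10,7,4,16,20,6],0,[],[425,294,234,478]⟩ .nil .nil)) (.node ⟨[2,8,10,7,6,4,16,20,7,2,8,10],0,[],[401,317,147,480]⟩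 (.node ⟨[4,16,20,7,4,16,20,2,8,10,7,6,4,16,20,2,8,10,6],0,[],[417,303,226,464]⟩ .nil .nil) (.node ⟨[4,16,20,7,4,16,20,2,8,10,7,6,4,16,20,7,2,8,10,6],4,[2,16,3,8,32,6,2,16,3,16,32,6,2,16,6,32],[433,287,242,448]⟩ .nil .nil))) (.node ⟨[4,16,20,7,4,16,20,2,8,10,7,6,4,16,20],0,[],[397,258,142,506]⟩ (.node ⟨[4,16,20,7,4,16,20,2,8,10,7,4,16,20,7,2,8,10],4,[16,3,8,32,6,2,16,3,16,32,6,2,16,6,32],[405,315,150,484]⟩ (.node ⟨[2,8,10,7,4,16,20,2,8,10,6],0,[],[421,297,231,468]⟩ .nil .nil) (.node ⟨[2,8,10,7,4,16,20,7,2,8,10,6],0,[],[437,281,247,452]⟩ .nil .nil)) (.node ⟨[4,16,20,7,4,16,20,2,8,10,7,6,4,16,20,7],0,[],[413,305,158,490]⟩ (.node ⟨[4,16,20,7,4,16,20,2,8,10,4,16,20,6],0,[],[429,289,239,474]⟩ .nil .nil) (.node ⟨[4,16,20,7,4,16,20,2,8,10,4,16,20,7,6],0,[],[445,274,255,458]⟩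 .nil .nil)))) (.node ⟨[4,16,20,7,4,16,20,2,8,10,7,6,4,16,20,2,8,10],0,[],[387,271,132,498]⟩ (.node ⟨[4,16,20,7,4,16,20,2,8,10,4,16,20],0,[],[399,257,137,504]⟩ (.node ⟨[2,8,10,7,4,16,20,7,2,8,10],2,[8,3,32,6,16,2,32],[407,313,145,486]⟩ (.node ⟨[4,16,20,7,4,16,20,2,8,10,7,4,16,20,2,8,10,6],0,[],[423,299,224,470]⟩ .nil .nil) (.node ⟨[4,16,20,7,4,16,20,2,8,10,7,4,16,20,7,2,8,10,6],0,[],[439,283,240,454]⟩ .nil .nil)) (.node ⟨[4,16,20,7,4,16,20,2,8,10,4,16,20,7],0,[],[415,306,153,488]⟩ (.node ⟨[4,16,20,7,4,16,20,2,8,10,7,6,4,16,20,6],0,[],[431,290,232,472]⟩ .nil .nil) (.node ⟨[4,16,20,7,4,16,20,2,8,10,7,6,4,16,20,7,6],0,[],[447,273,248,456]⟩ .nil .nil))) (.node ⟨[4,16,20,7,4,16,20,2,8,10,7,4,16,20],0,[],[395,262,140,508]⟩ (.node ⟨[4,16,20,7,4,16,20,2,8,10,7,6,4,16,20,7,2,8,10],0,[],[403,319,148,482]⟩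 (.node ⟨[2,8,10,7,6,4,16,20,2,8,10,6],0,[],[419,301,229,466]⟩ .nil .nil) (.node ⟨[2,8,10,7,6,4,16,20,7,2,8,10,6],2,[8,3,32,6,16,2],[435,285,245,450]⟩ .nil .nil)) (.node ⟨[4,16,20,7,4,16,20,2,8,10,7,4,16,20,7],0,[],[411,309,156,492]⟩ (.node ⟨[4,16,20,7,4,16,20,2,8,10,6,4,16,20,6],0,[],[427,293,237,476]⟩ .nil .nil) (.node ⟨[4,16,20,7,4,16,20,2,8,10,6,4,16,20,7,6],0,[],[443,278,253,460]⟩ .nil .nil))))) (.node ⟨[4,16,20,7,4,16,20,2,8,10,4,16,20,2,8,10],4,[1,16,3,8,32,6,2,16,3,16,32,6,2,16,6,32],[388,266,135,501]⟩ (.node ⟨[4,16,20,7,4,16,20,2,8,10,6,4,16,20,2,8,10],0,[],[386,270,133,499]⟩ (.node ⟨[2,8,10,4,16,20],0,[],[398,256,136,505]⟩ (.node ⟨[2,8,10,4,16,20,7,2,8,10],0,[],[406,312,144,487]⟩ (.node ⟨[4,16,20,7,4,16,20,2,8,10,4,16,20,2,8,10,6],0,[],[422,298,225,471]⟩ .nil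 .nil) (.node ⟨[4,16,20,7,4,16,20,2,8,10,4,16,20,7,2,8,10,6],0,[],[438,282,241,455]⟩ .nil .nil)) (.node ⟨[2,8,10,4,16,20,7],0,[],[414,307,152,489]⟩ (.node ⟨[2,8,10,7,6,4,16,20,6],0,[],[430,291,233,473]⟩ .nil .nil) (.node ⟨[2,8,10,7,6,4,16,20,7,6],0,[],[446,272,249,457]⟩ .nil .nil))) (.node ⟨[2,8,10,7,4,16,20],0,[],[394,263,141,509]⟩ (.node ⟨[4,16,20,7,4,16,20,2,8,10,6,4,16,20,7,2,8,10],0,[],[402,318,149,483]⟩ (.node ⟨[2,8,10,6,4,16,20,2,8,10,6],2,[1,8,3,32,6,16,2],[418,300,228,467]⟩ .nil .nil) (.node ⟨[2,8,10,6,4,16,20,7,2,8,10,6],0,[],[434,284,244,451]⟩ .nil .nil)) (.node ⟨[2,8,10,7,4,16,20,7],0,[],[410,308,157,493]⟩ (.node ⟨[2,8,10,6,4,16,20,6],0,[],[426,292,236,477]⟩ .nil .nil) (.node ⟨[2,8,10,6,4,16,20,7,6],0,[],[442,279,252,461]⟩ .nil .nil)))) (.node ⟨[2,8,10,6,4,16,20,2,8,10],0,[],[384,268,130,497]⟩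 (.node ⟨[2,8,10,7,6,4,16,20],0,[],[396,259,143,507]⟩ (.node ⟨[4,16,20,7,4,16,20,2,8,10,4,16,20,7,2,8,10],0,[],[404,314,151,485]⟩ (.node ⟨[2,8,10,4,16,20,2,8,10,6],0,[],[420,296,230,469]⟩ .nil .nil) (.node ⟨[2,8,10,4,16,20,7,2,8,10,6],0,[],[436,280,246,453]⟩ .nil .nil)) (.node ⟨[2,8,10,7,6,4,16,20,7],0,[],[412,304,159,491]⟩ (.node ⟨[2,8,10,4,16,20,6],0,[],[428,288,238,475]⟩ .nil .nil) (.node ⟨[2,8,10,4,16,20,7,6],0,[],[444,275,254,459]⟩ .nil .nil))) (.node ⟨[2,8,10,6,4,16,20],0,[],[392,260,138,511]⟩ (.node ⟨[2,8,10,6,4,16,20,7,2,8,10],0,[],[400,316,146,481]⟩ (.node ⟨[4,16,20,7,4,16,20,2,8,10,6,4,16,20,2,8,10,6],4,[1,2,16,3,8,32,6,2,16,3,16,32,6,2,16,6,32],[416,302,227,465]⟩ .nil .nil) (.node ⟨[4,16,20,7,4,16,20,2,8,10,6,4,16,20,7,2,8,10,6],0,[],[432,286,243,449]⟩ .nil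 .nil)) (.node ⟨[2,8,10,6,4,16,20,7],0,[],[408,311,154,495]⟩ (.node ⟨[2,8,10,7,4,16,20,6],0,[],[424,295,235,479]⟩ .nil .nil) (.node ⟨[2,8,10,7,4,16,20,7,6],0,[],[440,276,251,463]⟩ .nil .nil))))))

/-- A block of the table. -/
noncomputable def blk7 : Arr Row :=
  (.node ⟨[7,4,16,20,7,4,16,20,2,8,10,7,6,4,16,20,7,2,8,10,6],3,[32,6,16,3,8,1,8,3,16,6,2,16,3,8,6,16,32,6,2,16],[454,328,192,439]⟩ (.node ⟨[7,4,16,20,7,4,16,20,2,8,10,6,4,16,20,7,2,8,10,6],0,[],[455,329,193,438]⟩ (.node ⟨[7,2,8,10,6,4,16,20,7,2,8,10,6],0,[],[453,331,198,436]⟩ (.node ⟨[7,4,16,20,7,4,16,20,2,8,10,4,16,20,7,2,8,10,6],0,[],[449,333,195,432]⟩ (.node ⟨[7,2,8,10,7,4,16,20,7,6],0,[],[457,325,203,446]⟩ (.node ⟨[7,2,8,10,7,4,16,20,6],0,[],[473,374,219,430]⟩ (.node ⟨[7,2,8,10,6,4,16,20],0,[],[505,341,186,398]⟩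 .nil .nil) .nil) (.node ⟨[7,2,8,10,6,4,16,20,7],0,[],[489,358,170,414]⟩ .nil .nil)) (.node ⟨[7,4,16,20,7,4,16,20,2,8,10,4,16,20,2,8,10,6],0,[],[465,381,211,416]⟩ (.node ⟨[7,2,8,10,4,16,20,7,2,8,10],0,[],[481,367,162,400]⟩ .nil .nil) (.node ⟨[7,2,8,10,4,16,20,2,8,10],4,[1,16,3,8,32,6,16,3,16,6,2,16,6,32],[497,351,178,384]⟩ .nil .nil))) (.node ⟨[7,2,8,10,4,16,20,7,6],0,[],[461,322,206,442]⟩ (.node ⟨[7,2,8,10,6,4,16,20,2,8,10,6],4,[1,2,16,3,8,32,6,16,3,16,6,2,16,6,32],[469,379,214,420]⟩ (.node ⟨[7,4,16,20,7,4,16,20,2,8,10,6,4,16,20,7,2,8,10],0,[],[485,361,167,404]⟩ .nil .nil) (.node ⟨[7,4,16,20,7,4,16,20,2,8,10,6,4,16,20,2,8,10],0,[],[501,345,183,388]⟩ .nil .nil)) (.node ⟨[7,2,8,10,4,16,20,6],0,[],[477,369,222,426]⟩ (.node ⟨[7,2,8,10,7,6,4,16,20,7],0,[],[493,353,175,410]⟩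 .nil .nil) (.node ⟨[7,2,8,10,7,6,4,16,20],0,[],[509,338,191,394]⟩ .nil .nil)))) (.node ⟨[7,2,8,10,4,16,20,7,2,8,10,6],0,[],[451,335,196,434]⟩ (.node ⟨[7,2,8,10,7,6,4,16,20,7,6],0,[],[463,321,201,440]⟩ (.node ⟨[7,4,16,20,7,4,16,20,2,8,10,6,4,16,20,2,8,10,6],3,[32,6,16,3,8,1,3,16,6,2,16,3,8,6,16,32,6,2,16],[471,377,209,422]⟩ (.node ⟨[7,2,8,10,6,4,16,20,7,2,8,10],0,[],[487,363,160,406]⟩ .nil .nil) (.node ⟨[7,2,8,10,6,4,16,20,2,8,10],0,[],[503,347,176,390]⟩ .nil .nil)) (.node ⟨[7,2,8,10,7,6,4,16,20,6],0,[],[479,370,217,424]⟩ (.node ⟨[7,2,8,10,4,16,20,7],0,[],[495,354,168,408]⟩ .nil .nil) (.node ⟨[7,2,8,10,4,16,20],0,[],[511,337,184,392]⟩ .nil .nil))) (.node ⟨[7,2,8,10,6,4,16,20,7,6],0,[],[459,326,204,444]⟩ (.node ⟨[7,2,8,10,4,16,20,2,8,10,6],0,[],[467,383,212,418]⟩ (.node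 ⟨[7,4,16,20,7,4,16,20,2,8,10,4,16,20,7,2,8,10],0,[],[483,365,165,402]⟩ .nil .nil) (.node ⟨[7,4,16,20,7,4,16,20,2,8,10,4,16,20,2,8,10],3,[32,6,16,3,8,1,3,16,32,6,2,16,3,8,6,16,32,6,2,16],[499,349,181,386]⟩ .nil .nil)) (.node ⟨[7,2,8,10,6,4,16,20,6],0,[],[475,373,220,428]⟩ (.node ⟨[7,2,8,10,7,4,16,20,7],0,[],[491,357,173,412]⟩ .nil .nil) (.node ⟨[7,2,8,10,7,4,16,20],0,[],[507,342,189,396]⟩ .nil .nil))))) (.node ⟨[7,2,8,10,7,6,4,16,20,7,2,8,10,6],4,[2,16,3,8,32,6,16,3,16,6,2,16,6,32],[452,330,199,437]⟩ (.node ⟨[7,2,8,10,7,4,16,20,7,2,8,10,6],0,[],[450,334,197,435]⟩ (.node ⟨[7,4,16,20,7,4,16,20,2,8,10,7,6,4,16,20,7,6],0,[],[462,320,200,441]⟩ (.node ⟨[7,4,16,20,7,4,16,20,2,8,10,7,6,4,16,20,2,8,10,6],0,[],[470,376,208,423]⟩ (.node ⟨[7,2,8,10,7,6,4,16,20,7,2,8,10],0,[],[486,362,161,407]⟩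 .nil .nil) (.node ⟨[7,2,8,10,7,6,4,16,20,2,8,10],0,[],[502,346,177,391]⟩ .nil .nil)) (.node ⟨[7,4,16,20,7,4,16,20,2,8,10,7,6,4,16,20,6],0,[],[478,371,216,425]⟩ (.node ⟨[7,4,16,20,7,4,16,20,2,8,10,4,16,20,7],0,[],[494,355,169,409]⟩ .nil .nil) (.node ⟨[7,4,16,20,7,4,16,20,2,8,10,4,16,20],0,[],[510,336,185,393]⟩ .nil .nil))) (.node ⟨[7,4,16,20,7,4,16,20,2,8,10,6,4,16,20,7,6],0,[],[458,327,205,445]⟩ (.node ⟨[7,2,8,10,7,4,16,20,2,8,10,6],0,[],[466,382,213,419]⟩ (.node ⟨[7,4,16,20,7,4,16,20,2,8,10,7,4,16,20,7,2,8,10],3,[32,6,16,3,8,1,8,3,16,32,6,2,16,3,8,6,16,32,6,2,16],[482,364,164,403]⟩ .nil .nil) (.node ⟨[7,4,16,20,7,4,16,20,2,8,10,7,4,16,20,2,8,10],0,[],[498,348,180,387]⟩ .nil .nil)) (.node ⟨[7,4,16,20,7,4,16,20,2,8,10,6,4,16,20,6],0,[],[474,372,221,429]⟩ (.node ⟨[7,4,16,20,7,4,16,20,2,8,10,7,4,16,20,7],0,[],[490,356,172,413]⟩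 .nil .nil) (.node ⟨[7,4,16,20,7,4,16,20,2,8,10,7,4,16,20],0,[],[506,343,188,397]⟩ .nil .nil)))) (.node ⟨[7,4,16,20,7,4,16,20,2,8,10,7,4,16,20,7,2,8,10,6],0,[],[448,332,194,433]⟩ (.node ⟨[7,4,16,20,7,4,16,20,2,8,10,4,16,20,7,6],0,[],[460,323,207,443]⟩ (.node ⟨[7,2,8,10,7,6,4,16,20,2,8,10,6],0,[],[468,378,215,421]⟩ (.node ⟨[7,4,16,20,7,4,16,20,2,8,10,7,6,4,16,20,7,2,8,10],0,[],[484,360,166,405]⟩ .nil .nil) (.node ⟨[7,4,16,20,7,4,16,20,2,8,10,7,6,4,16,20,2,8,10],0,[],[500,344,182,389]⟩ .nil .nil)) (.node ⟨[7,4,16,20,7,4,16,20,2,8,10,4,16,20,6],0,[],[476,368,223,427]⟩ (.node ⟨[7,4,16,20,7,4,16,20,2,8,10,7,6,4,16,20,7],0,[],[492,352,174,411]⟩ .nil .nil) (.node ⟨[7,4,16,20,7,4,16,20,2,8,10,7,6,4,16,20],0,[],[508,339,190,395]⟩ .nil .nil))) (.node ⟨[7,4,16,20,7,4,16,20,2,8,10,7,4,16,20,7,6],0,[],[456,324,202,447]⟩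 (.node ⟨[7,4,16,20,7,4,16,20,2,8,10,7,4,16,20,2,8,10,6],0,[],[464,380,210,417]⟩ (.node ⟨[7,2,8,10,7,4,16,20,7,2,8,10],4,[16,3,8,32,6,16,3,16,6,2,16,6,32],[480,366,163,401]⟩ .nil .nil) (.node ⟨[7,2,8,10,7,4,16,20,2,8,10],0,[],[496,350,179,385]⟩ .nil .nil)) (.node ⟨[7,4,16,20,7,4,16,20,2,8,10,7,4,16,20,6],0,[],[472,375,218,431]⟩ (.node ⟨[7,4,16,20,7,4,16,20,2,8,10,6,4,16,20,7],0,[],[488,359,171,415]⟩ .nil .nil) (.node ⟨[7,4,16,20,7,4,16,20,2,8,10,6,4,16,20],0,[],[504,340,187,399]⟩ .nil .nil))))))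

/-- The entry of an element. -/
noncomputable def row (i : ℕ) : Row :=
  ([blk0, blk1, blk2, blk3, blk4, blk5, blk6, blk7].getD (Nat.div i 64) .nil).get ⟨[], 0, [], []⟩ (Nat.mod i 64)

end Cfsg.Agent.Sp6Local.SData
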