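import Cfsg.Agent.Sp6Local.SpDefs
import Cfsg.Agent.Sp6Local.SpSixTable

/-!
# Finite facts about `Sp(6,2)`

Elements are words in transvections; a word is determined by its values at the six basis vectors.
-/

set_option autoImplicit false
set_option maxHeartbeats 1000000
set_option maxRecDepth 100000

namespace Cfsg.Agent.Sp6Local

open Cfsg.Agent.Compute Cfsg.Agent.StemCert Cfsg.Agent.SympMult.SpSix Cfsg.Agent.Classical Matrix

theorem z2_card : Fintype.card (ZMod 2) = 2 := ZMod.card 2

/-- The element of a word. -/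
noncomputable def ew (w : List ℕ) : Sp := evalW tv w

@[simp] theorem ew_nil : ew [] = 1 := rfl

theorem ew_cons (v : ℕ) (w : List ℕ) : ew (v :: w) = tv v * ew w := evalW_cons _ _ _

theorem ew_append (a b : List ℕ) : ew (a ++ b) = ew a * ew b := evalW_append _ _ _

theorem ew_single (v : ℕ) : ew [v] = tv v := by rw [ew_cons, ew_nil, mul_one]

/-- The vector of a code. -/
noncomputable abbrev dv (x : ℕ) : Fin 3 ⊕ Fin 3 → ZMod 2 := decode (ZMod 2) x

theorem ew_mulVec (w : List ℕ) (x : ℕ) : (ew w).1 *ᵥ dv x = dv (tvApp w x) :=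
  evalW_mulVec z2_card w x

theorem dv_surjective : ∀ u : Fin 3 ⊕ Fin 3 → ZMod 2, ∃ x, x < 64 ∧ dv x = u := by
  intro u
  by_cases hu : u = 0
  · refine ⟨0, by norm_num, ?_⟩
    subst hu
    funext i
    rcases i with i | i <;> simp [dv, decode, bitF]
  · obtain ⟨p, hp⟩ := (SympMult.SpSix.ev z2_card).surjective ⟨u, hu⟩
    exact ⟨(p : ℕ) + 1, by omega, congrArg Subtype.val hp⟩

theorem eq_of_dv {A B : Sp} (h : ∀ x < 64, A.1 *ᵥ dv x = B.1 *ᵥ dv x) : A = B := by
  refine Subtype.ext (Matrix.ext_of_mulVec_single fun i => ?_)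
  obtain ⟨x, hx, e⟩ := dv_surjective (Pi.single i 1)
  rw [← e]
  exact h x hx

/-- The codes of the basis vectors. -/
def basis6 : List ℕ := [1, 2, 4, 8, 16, 32]

theorem eq_of_basis {A B : Sp} (h : ∀ e ∈ basis6, A.1 *ᵥ dv e = B.1 *ᵥ dv e) : A = B := by
  refine Subtype.ext (Matrix.ext_of_mulVec_single fun i => ?_)
  have key : ∃ e ∈ basis6, dv e = Pi.single i 1 := by
    rcases i with i | i <;> fin_cases i
    · exact ⟨1, by decide, by decide +kernel⟩
    · exact ⟨2, by decide, by decide +kernel⟩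
    · exact ⟨4, by decide, by decide +kernel⟩
    · exact ⟨8, by decide, by decide +kernel⟩
    · exact ⟨16, by decide, by decide +kernel⟩
    · exact ⟨32, by decide, by decide +kernel⟩
  obtain ⟨e, he, hev⟩ := key
  rw [← hev]
  exact h e he

/-- The packed values of a word at the basis. -/
noncomputable def wkey (w : List ℕ) : ℕ :=
  tvApp w 1 + 64 * (tvApp w 2 + 64 * (tvApp w 4 + 64 * (tvApp w 8 +
    64 * (tvApp w 16 + 64 * tvApp w 32))))

theorem tvImg_lt {v x : ℕ} (hv : v < 64) (hx : x < 64) : tvImg v x < 64 := by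
  unfold tvImg
  show Nat.xor x _ < 2 ^ 6
  refine Nat.xor_lt_two_pow (by simpa using hx) ?_
  cases bB x v
  · norm_num
  · simpa using hv

/-- Letters below sixty-four. -/
noncomputable def okW (w : List ℕ) : Bool := allB (fun v => Nat.blt v 64) w

theorem okW_spec {w : List ℕ} (h : okW w = true) : ∀ v ∈ w, v < 64 := fun v hv => by
  simpa [Nat.blt_eq] using allB_spec h v hv

theorem tvApp_lt : ∀ {w : List ℕ}, (∀ v ∈ w, v < 64) → ∀ {x : ℕ}, x < 64 → tvApp w x < 64
  | [], _, x, hx => hx
  | v :: w, hw, x, hx => tvImg_lt (hw v (by simp)) (tvApp_lt (fun u hu => hw u (by simp [hu])) hx)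

theorem ew_eq_of_key {a b : List ℕ} (ha : okW a = true) (hb : okW b = true) (h : wkey a = wkey b) :
    ew a = ew b := by
  have hA := fun {x : ℕ} (hx : x < 64) => tvApp_lt (okW_spec ha) hx
  have hB := fun {x : ℕ} (hx : x < 64) => tvApp_lt (okW_spec hb) hx
  have a1 := hA (show 1 < 64 by norm_num); have b1 := hB (show 1 < 64 by norm_num)
  have a2 := hA (show 2 < 64 by norm_num); have b2 := hB (show 2 < 64 by norm_num)
  have a3 := hA (show 4 < 64 by norm_num); have b3 := hB (show 4 < 64 by norm_num)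
  have a4 := hA (show 8 < 64 by norm_num); have b4 := hB (show 8 < 64 by norm_num)
  have a5 := hA (show 16 < 64 by norm_num); have b5 := hB (show 16 < 64 by norm_num)
  have a6 := hA (show 32 < 64 by norm_num); have b6 := hB (show 32 < 64 by norm_num)
  unfold wkey at h
  refine eq_of_basis fun e he => ?_
  rw [ew_mulVec, ew_mulVec]
  congr 1
  simp only [basis6, List.mem_cons, List.not_mem_nil, or_false] at he
  rcases he with rfl | rfl | rfl | rfl | rfl | rfl <;> omega

theorem wkey_eq_of_ew {a b : List ℕ} (ha : okW a = true) (hb : okW b = true) (h : ew a = ew b) :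
    wkey a = wkey b := by
  have e : ∀ x < 64, tvApp a x = tvApp b x := fun x hx => by
    refine decode_injOn (F := ZMod 2) (tvApp_lt (okW_spec ha) hx) (tvApp_lt (okW_spec hb) hx) ?_
    show dv (tvApp a x) = dv (tvApp b x)
    rw [← ew_mulVec, ← ew_mulVec, h]
  unfold wkey
  rw [e 1 (by norm_num), e 2 (by norm_num), e 4 (by norm_num), e 8 (by norm_num), e 16 (by norm_num),
    e 32 (by norm_num)]

/-- Two words are equal. -/
noncomputable def sameW (a b : List ℕ) : Bool := okW a && okW b && Nat.beq (wkey a) (wkey b)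

theorem sameW_spec {a b : List ℕ} (h : sameW a b = true) : ew a = ew b := by
  simp only [sameW, Bool.and_eq_true, Nat.beq_eq] at h
  exact ew_eq_of_key h.1.1 h.1.2 h.2

theorem tv_mul_self (v : ℕ) : tv v * tv v = 1 := by
  refine eq_of_dv fun x _ => ?_
  rw [Submonoid.coe_mul, ← Matrix.mulVec_mulVec]
  show (tvec (ZMod 2) v).1 *ᵥ ((tvec (ZMod 2) v).1 *ᵥ dv x) = _
  rw [tvec, sympTransvection_mulVec, sympTransvection_mulVec, map_add, LinearMap.add_apply, map_smul,
    LinearMap.smul_apply, sympB_isAlt, smul_zero, add_zero, one_mul, add_assoc, ← add_smul]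
  rw [show (sympB 3 (ZMod 2)) (dv x) (decode (ZMod 2) v) + (sympB 3 (ZMod 2)) (dv x) (decode (ZMod 2) v) = 0
    from CharTwo.add_self_eq_zero _, zero_smul, add_zero]
  simp

theorem tv_inv (v : ℕ) : (tv v)⁻¹ = tv v := inv_eq_of_mul_eq_one_right (tv_mul_self v)

theorem ew_reverse : ∀ w : List ℕ, ew w.reverse = (ew w)⁻¹
  | [] => by simp
  | v :: w => by rw [List.reverse_cons, ew_append, ew_single, ew_reverse w, ew_cons, _root_.mul_inv_rev, tv_inv]

/-! ### Transvections -/

theorem bB_lin (w : Sp) (x y : Fin 3 ⊕ Fin 3 → ZMod 2) :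
    sympB 3 (ZMod 2) (w.1 *ᵥ x) (w.1 *ᵥ y) = sympB 3 (ZMod 2) x y :=
  (mem_symplectic_iff w.1).1 w.2 x y

theorem conj_tv (g : Sp) {v v' : ℕ} (h : g.1 *ᵥ dv v = dv v') : g * tv v * g⁻¹ = tv v' := by
  refine mul_inv_eq_iff_eq_mul.2 (eq_of_dv fun x _ => ?_)
  rw [Submonoid.coe_mul, Submonoid.coe_mul, ← Matrix.mulVec_mulVec, ← Matrix.mulVec_mulVec]
  show g.1 *ᵥ ((tvec (ZMod 2) v).1 *ᵥ dv x) = (tvec (ZMod 2) v').1 *ᵥ (g.1 *ᵥ dv x)
  rw [tvec, tvec, sympTransvection_mulVec, sympTransvection_mulVec, Matrix.mulVec_add,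
    Matrix.mulVec_smul, one_mul, one_mul, ← show g.1 *ᵥ decode (ZMod 2) v = decode (ZMod 2) v' from h,
    bB_lin]

theorem exists_conj_tv (g : Sp) {v : ℕ} : ∃ v', v' < 64 ∧ g * tv v * g⁻¹ = tv v' := by
  obtain ⟨v', hv', e⟩ := dv_surjective (g.1 *ᵥ dv v)
  exact ⟨v', hv', conj_tv g e.symm⟩

theorem allB_intro {α : Type} {f : α → Bool} : ∀ {l : List α}, (∀ x ∈ l, f x = true) → allB f l = true
  | [], _ => rfl
  | a :: l, h => by
    show (f a && allB f l) = true
    rw [h a List.mem_cons_self, allB_intro fun x hx => h x (List.mem_cons_of_mem _ hx)]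
    rfl

/-- The word is a transvection or the identity: all displacements on the basis lie on one line. -/
noncomputable def lineB (w : List ℕ) : Bool :=
  allB (fun e => allB (fun f =>
    Nat.beq (Nat.xor (tvApp w e) e) 0 || Nat.beq (Nat.xor (tvApp w f) f) 0 ||
      Nat.beq (Nat.xor (tvApp w e) e) (Nat.xor (tvApp w f) f)) basis6) basis6

theorem tv_line {v e : ℕ} : Nat.xor (tvApp [v] e) e = cond (bB e v) v 0 := by
  show (e ^^^ _) ^^^ e = _
  rw [Nat.xor_comm e, Nat.xor_assoc, Nat.xor_self, Nat.xor_zero]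

/-- A word which is not a transvection. -/
theorem ne_tv {w : List ℕ} (hw : okW w = true) (h : lineB w = false) {v : ℕ} (hv : v < 64) :
    ew w ≠ tv v := by
  intro e
  rw [← ew_single] at e
  have e' : ∀ x ∈ basis6, tvApp w x = tvApp [v] x := fun x hx => by
    have hx64 : x < 64 := by
      simp only [basis6, List.mem_cons, List.not_mem_nil, or_false] at hx
      rcases hx with rfl | rfl | rfl | rfl | rfl | rfl <;> norm_num
    refine decode_injOn (F := ZMod 2) (tvApp_lt (okW_spec hw) hx64)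
      (tvApp_lt (fun u hu => by simp at hu; omega) hx64) ?_
    show dv (tvApp w x) = dv (tvApp [v] x)
    rw [← ew_mulVec, ← ew_mulVec, e]
  have hall : lineB w = true := by
    unfold lineB
    refine allB_intro fun a ha => allB_intro fun b hb => ?_
    simp only [Bool.or_eq_true, Nat.beq_eq]
    rw [e' a ha, e' b hb, tv_line, tv_line]
    cases bB a v <;> cases bB b v <;> simp
  rw [hall] at h
  exact Bool.noConfusion h

theorem not_isConj_tv {w : List ℕ} (hw : okW w = true) (h : lineB w = false) (v : ℕ) :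
    ¬ IsConj (tv v) (ew w) := by
  rintro hc
  obtain ⟨c, hc⟩ := isConj_iff.1 hc
  obtain ⟨v', hv', e⟩ := exists_conj_tv c (v := v)
  exact ne_tv hw h hv' (hc.symm.trans e)

/-! ### The four involutions -/

/-- The word of a class representative. -/
def repW : ℕ → List ℕ
  | 1 => [1]
  | 2 => [6, 48, 54]
  | 3 => [1, 2]
  | _ => [1, 2, 4]

theorem repW_one : ew (repW 1) = spD := ew_single 1

theorem repW_two : ew (repW 2) = spT := by simp [repW, ew_cons, spT, mul_assoc]

theorem repW_three : ew (repW 3) = spB := by simp [repW, ew_cons, spB]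

theorem repW_four : ew (repW 4) = spW := by simp [repW, ew_cons, spW, mul_assoc]

/-! ### The Sylow two-subgroup -/

open SData

/-- The word of an element of the table. -/
noncomputable abbrev rw_ (i : ℕ) : List ℕ := (row i).wd

/-- The check of one entry. -/
noncomputable def rowOk (i : ℕ) : Bool :=
  okW (rw_ i) && Nat.beq (row i).nx.length 4 &&
    allBelow 4 (fun k => Nat.blt ((row i).nx.getD k 0) 512 &&
      sameW (gens.getD k [] ++ rw_ i) (rw_ ((row i).nx.getD k 0))) &&
    (Nat.beq (wkey (rw_ i)) (wkey []) || cond (sameW (rw_ i ++ rw_ i) [])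
      (sameW ((row i).cj ++ repW (row i).cl) (rw_ i ++ (row i).cj) &&
        (Nat.beq (row i).cl 1 || Nat.beq (row i).cl 2 || Nat.beq (row i).cl 3 || Nat.beq (row i).cl 4))
      true) &&
    (Nat.beq (wkey (rw_ i ++ rw_ i)) (wkey []) || !(lineB (rw_ i ++ rw_ i)))

theorem rows_ok0 : allBelow 128 (fun i => rowOk i) = true := by decide +kernel
theorem rows_ok1 : allBelow 128 (fun i => rowOk (Nat.add 128 i)) = true := by decide +kernel
theorem rows_ok2 : allBelow 128 (fun i => rowOk (Nat.add 256 i)) = true := by decide +kernel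
theorem rows_ok3 : allBelow 128 (fun i => rowOk (Nat.add 384 i)) = true := by decide +kernel

theorem keys_incr : allBelow 511 (fun i => Nat.blt (wkey (rw_ i)) (wkey (rw_ (Nat.add i 1)))) = true := by
  decide +kernel

theorem table_base : Nat.beq (wkey (rw_ 0)) (wkey []) = true ∧ allB okW gens = true ∧
    Nat.beq gens.length 4 = true := by decide +kernel

attribute [local irreducible] wkey SData.row

theorem row_ok {i : ℕ} (hi : i < 512) : rowOk i = true := by
  rcases Nat.lt_or_ge i 128 with h | h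
  · exact allBelow_eq_true.1 rows_ok0 i h
  rcases Nat.lt_or_ge i 256 with h' | h'
  · have := allBelow_eq_true.1 rows_ok1 (i - 128) (by omega)
    rwa [show Nat.add 128 (i - 128) = i by show 128 + (i - 128) = i; omega] at this
  rcases Nat.lt_or_ge i 384 with h'' | h''
  · have := allBelow_eq_true.1 rows_ok2 (i - 256) (by omega)
    rwa [show Nat.add 256 (i - 256) = i by show 256 + (i - 256) = i; omega] at this
  · have := allBelow_eq_true.1 rows_ok3 (i - 384) (by omega)
    rwa [show Nat.add 384 (i - 384) = i by show 384 + (i - 384) = i; omega] at this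

/-- The element of the table. -/
noncomputable def qel (i : ℕ) : Sp := ew (rw_ i)

/-- The subgroup. -/
noncomputable def Q2 : Subgroup Sp := Subgroup.closure {g | ∃ k < 4, g = ew (gens.getD k [])}

theorem Q2_mem {g : Sp} (hg : g ∈ Q2) : ∃ i < 512, g = qel i := by
  rw [Q2, ← Subgroup.mem_toSubmonoid, Subgroup.closure_toSubmonoid_of_finite] at hg
  induction hg using Submonoid.closure_induction_left with
  | one =>
    exact ⟨0, by norm_num, (ew_eq_of_key (a := []) rfl (by
      have := row_ok (i := 0) (by norm_num)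
      simp only [rowOk, Bool.and_eq_true] at this
      exact this.1.1.1.1) (Nat.eq_of_beq_eq_true table_base.1).symm)⟩
  | mul_left x hx y _ ih =>
    obtain ⟨k, hk, rfl⟩ := hx
    obtain ⟨i, hi, rfl⟩ := ih
    have h := row_ok hi
    simp only [rowOk, Bool.and_eq_true] at h
    have h2 := allBelow_eq_true.1 h.1.1.2 k hk
    simp only [Bool.and_eq_true, Nat.blt_eq] at h2
    exact ⟨_, h2.1, by rw [qel, qel, ← sameW_spec h2.2, ew_append]⟩

theorem wkey_mono {i j : ℕ} (hij : i < j) (hj : j < 512) : wkey (rw_ i) < wkey (rw_ j) := by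
  induction j with
  | zero => omega
  | succ j ih =>
    have h := allBelow_eq_true.1 keys_incr j (by omega)
    rw [Nat.blt_eq] at h
    rcases Nat.lt_or_ge i j with h' | h'
    · exact lt_trans (ih h' (by omega)) h
    · obtain rfl : i = j := by omega
      exact h

theorem qel_inj {i j : ℕ} (hi : i < 512) (hj : j < 512) (h : qel i = qel j) : i = j := by
  have ok : ∀ {k : ℕ}, k < 512 → okW (rw_ k) = true := fun hk => by
    have := row_ok hk
    simp only [rowOk, Bool.and_eq_true] at this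
    exact this.1.1.1.1
  have hk := wkey_eq_of_ew (ok hi) (ok hj) h
  rcases Nat.lt_trichotomy i j with h' | h' | h'
  · have := wkey_mono h' hj; omega
  · exact h'
  · have := wkey_mono h' hi; omega

theorem exists_nx {i k : ℕ} (hi : i < 512) (hk : k < 4) :
    ∃ j < 512, ew (gens.getD k []) * qel i = qel j := by
  have h := row_ok hi
  simp only [rowOk, Bool.and_eq_true] at h
  have h2 := allBelow_eq_true.1 h.1.1.2 k hk
  simp only [Bool.and_eq_true, Nat.blt_eq] at h2
  exact ⟨_, h2.1, by rw [qel, qel, ← sameW_spec h2.2, ew_append]⟩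

/-- The word is a product of generators. -/
noncomputable def parseB : ℕ → List ℕ → Bool :=
  Nat.rec (fun w => Nat.beq w.length 0) fun _ ih w =>
    Nat.beq w.length 0 || allBelow 4 (fun k => !(natsEq (w.take (gens.getD k []).length) (gens.getD k []))) == false &&
      allBelow 4 (fun k => !(natsEq (w.take (gens.getD k []).length) (gens.getD k [])) ||
        ih (w.drop (gens.getD k []).length))

theorem parse_ok : allBelow 512 (fun i => parseB 40 (rw_ i)) = true := by decide +kernel

theorem parse_mem : ∀ (n : ℕ) (w : List ℕ), parseB n w = true → ew w ∈ Q2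
  | 0, w, h => by
    have : w = [] := List.eq_nil_of_length_eq_zero (Nat.eq_of_beq_eq_true h)
    subst this
    exact one_mem _
  | n + 1, w, h => by
    have h' : (Nat.beq w.length 0 || allBelow 4 (fun k => !(natsEq (w.take (gens.getD k []).length) (gens.getD k []))) == false &&
      allBelow 4 (fun k => !(natsEq (w.take (gens.getD k []).length) (gens.getD k [])) ||
        parseB n (w.drop (gens.getD k []).length))) = true := h
    simp only [Bool.or_eq_true, Bool.and_eq_true, beq_iff_eq] at h'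
    rcases h' with h0 | ⟨h1, h2⟩
    · have : w = [] := List.eq_nil_of_length_eq_zero (Nat.eq_of_beq_eq_true h0)
      subst this
      exact one_mem _
    · have : ∃ k < 4, natsEq (w.take (gens.getD k []).length) (gens.getD k []) = true := by
        by_contra hne
        push Not at hne
        rw [allBelow_eq_true.2 fun k hk => by rw [Bool.eq_false_of_not_eq_true (hne k hk)]; rfl] at h1
        exact Bool.noConfusion h1
      obtain ⟨k, hk, he⟩ := this
      have h3 := allBelow_eq_true.1 h2 k hk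
      simp only [he, Bool.not_true, Bool.false_or] at h3
      rw [← List.take_append_drop (gens.getD k []).length w, ew_append, natsEq_eq he]
      exact mul_mem (Subgroup.subset_closure ⟨k, hk, rfl⟩) (parse_mem n _ h3)

theorem qel_mem {i : ℕ} (hi : i < 512) : qel i ∈ Q2 :=
  parse_mem 40 _ (allBelow_eq_true.1 parse_ok i hi)

theorem card_Q2 : Nat.card Q2 = 512 := by
  have hb : Function.Bijective (fun i : Fin 512 => (⟨qel i, qel_mem i.2⟩ : Q2)) := by
    refine ⟨fun i j h => Fin.ext (qel_inj i.2 j.2 (congrArg Subtype.val h)), fun g => ?_⟩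
    obtain ⟨i, hi, e⟩ := Q2_mem g.2
    exact ⟨⟨i, hi⟩, Subtype.ext e.symm⟩
  rw [← Nat.card_congr (Equiv.ofBijective _ hb), Nat.card_fin]

/-- Every two-subgroup is conjugate into the table. -/
theorem two_group_conj (P : Subgroup Sp) (hP : IsPGroup 2 P) :
    ∃ c : Sp, ∀ g ∈ P, ∃ i < 512, c * g * c⁻¹ = qel i := by
  have : Fact (Nat.Prime 2) := ⟨Nat.prime_two⟩
  have hf : (Nat.card Sp).factorization 2 = 9 := by
    rw [SympMult.SpSix.card_sp z2_card, show (1451520 : ℕ) = 2 ^ 9 * 2835 by norm_num,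
      Nat.factorization_mul (by norm_num) (by norm_num), Finsupp.add_apply,
      Nat.prime_two.factorization_pow, Finsupp.single_eq_same,
      Nat.factorization_eq_zero_of_not_dvd (by norm_num)]
  obtain ⟨R, hR⟩ := hP.exists_le_sylow
  obtain ⟨c, hc⟩ := MulAction.exists_smul_eq Sp R (Sylow.ofCard Q2 (by rw [card_Q2, hf]; norm_num))
  refine ⟨c, fun g hg => ?_⟩
  have h1 : c * g * c⁻¹ ∈ ((c • R : Sylow 2 Sp) : Subgroup Sp) :=
    ⟨g, hR hg, rfl⟩
  rw [hc] at h1
  exact Q2_mem h1

theorem cl_conj {i : ℕ} (hi : i < 512) (h1 : qel i ≠ 1) (h2 : qel i * qel i = 1) :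
    ∃ (c : Sp) (j : ℕ), (j = 1 ∨ j = 2 ∨ j = 3 ∨ j = 4) ∧ c * ew (repW j) * c⁻¹ = qel i := by
  have h := row_ok hi
  simp only [rowOk, Bool.and_eq_true] at h
  have hok := h.1.1.1.1
  have hne : ¬ (Nat.beq (wkey (rw_ i)) (wkey []) = true) := fun e =>
    h1 (ew_eq_of_key (b := []) hok rfl (Nat.eq_of_beq_eq_true e))
  have h3 := h.1.2
  simp only [Bool.or_eq_true] at h3
  rcases h3 with h3 | h3
  · exact absurd h3 hne
  have hok2 : okW (rw_ i ++ rw_ i) = true := allB_intro fun v hv => by
    rcases List.mem_append.1 hv with hv | hv <;> exact allB_spec hok v hv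
  have hs : sameW (rw_ i ++ rw_ i) [] = true := by
    simp only [sameW, Bool.and_eq_true, Nat.beq_eq]
    exact ⟨⟨hok2, rfl⟩, wkey_eq_of_ew hok2 rfl (by rw [ew_append, ew_nil]; exact h2)⟩
  rw [hs] at h3
  simp only [cond_true, Bool.and_eq_true, Bool.or_eq_true, Nat.beq_eq] at h3
  refine ⟨ew (row i).cj, (row i).cl, by tauto, ?_⟩
  rw [← ew_append, sameW_spec h3.1, ew_append, mul_inv_cancel_right]
  rfl

/-- Every involution is conjugate to one of the four representatives. -/
theorem involution_cases (z : Sp) (hz : orderOf z = 2) :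
    ∃ (c : Sp) (j : ℕ), (j = 1 ∨ j = 2 ∨ j = 3 ∨ j = 4) ∧ c * ew (repW j) * c⁻¹ = z := by
  have : Fact (Nat.Prime 2) := ⟨Nat.prime_two⟩
  have hzz : z * z = 1 := by
    have h := pow_orderOf_eq_one z
    rwa [hz, pow_two] at h
  obtain ⟨c, hc⟩ := two_group_conj (Subgroup.zpowers z)
    (IsPGroup.of_card (n := 1) (by rw [Nat.card_zpowers, hz, pow_one]))
  obtain ⟨i, hi, e⟩ := hc z (Subgroup.mem_zpowers z)
  have h1 : qel i ≠ 1 := by
    rw [← e]
    intro h
    rw [conj_eq_one_iff] at h
    rw [h, orderOf_one] at hz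
    omega
  have h2 : qel i * qel i = 1 := by
    rw [← e, show c * z * c⁻¹ * (c * z * c⁻¹) = c * (z * z) * c⁻¹ by group, hzz, mul_one, mul_inv_cancel]
  obtain ⟨d, j, hj, hd⟩ := cl_conj hi h1 h2
  refine ⟨c⁻¹ * d, j, hj, ?_⟩
  calc c⁻¹ * d * ew (repW j) * (c⁻¹ * d)⁻¹ = c⁻¹ * (d * ew (repW j) * d⁻¹) * c := by group
    _ = z := by rw [hd, ← e]; group

/-- A transvection is not a square. -/
theorem sq_ne_tv (q : Sp) (v : ℕ) (hv : v < 64) (hv0 : v ≠ 0) : q * q ≠ tv v := by
  have : Fact (Nat.Prime 2) := ⟨Nat.prime_two⟩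
  intro e
  have hne : tv v ≠ 1 := fun h => by
    have h' := wkey_eq_of_ew (a := [v]) (b := []) (allB_intro fun u hu => by simp at hu; subst hu; simpa [Nat.blt_eq] using hv) rfl
      (by rw [ew_single, h, ew_nil])
    revert h'
    have : ∀ w < 64, w ≠ 0 → wkey [w] ≠ wkey [] := by
      have hb : allBelow 64 (fun w => Nat.beq w 0 || !(Nat.beq (wkey [w]) (wkey []))) = true := by
        decide +kernel
      intro w hw h0 h1
      have := allBelow_eq_true.1 hb w hw
      simp [Nat.beq_eq, h0, h1] at this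
    exact this v hv hv0
  have h4 : q ^ 4 = 1 := by
    rw [show (4 : ℕ) = 2 + 2 from rfl, pow_add, pow_two, e, tv_mul_self]
  obtain ⟨c, hc⟩ := two_group_conj (Subgroup.zpowers q) (by
    intro ⟨x, hx⟩
    obtain ⟨n, rfl⟩ := Subgroup.mem_zpowers_iff.1 hx
    refine ⟨2, Subtype.ext ?_⟩
    show (q ^ n) ^ (2 ^ 2) = 1
    rw [← zpow_natCast, ← _root_.zpow_mul, mul_comm, _root_.zpow_mul, zpow_natCast,
      show (2 : ℕ) ^ 2 = 4 from rfl, h4, _root_.one_zpow])
  obtain ⟨i, hi, ei⟩ := hc q (Subgroup.mem_zpowers q)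
  obtain ⟨v', hv', e'⟩ := exists_conj_tv c (v := v)
  have h := row_ok hi
  simp only [rowOk, Bool.and_eq_true] at h
  have hok := h.1.1.1.1
  have hok2 : okW (rw_ i ++ rw_ i) = true := allB_intro fun u hu => by
    rcases List.mem_append.1 hu with hu | hu <;> exact allB_spec hok u hu
  have hq : ew (rw_ i ++ rw_ i) = tv v' := by
    rw [ew_append]
    show qel i * qel i = _
    rw [← ei, show c * q * c⁻¹ * (c * q * c⁻¹) = c * (q * q) * c⁻¹ by group, e, e']
  have h5 := h.2
  simp only [Bool.or_eq_true, Bool.not_eq_true'] at h5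
  rcases h5 with h5 | h5
  · have := ew_eq_of_key (b := []) hok2 rfl (Nat.eq_of_beq_eq_true h5)
    rw [hq, ← e', ew_nil, conj_eq_one_iff] at this
    exact hne this
  · exact ne_tv hok2 h5 hv' hq

/-- The table element of the second class. -/
noncomputable def tQ : Sp := qel 2

theorem tQ_conj : ew (row 2).cj * spT * (ew (row 2).cj)⁻¹ = tQ := by
  have h : sameW ((row 2).cj ++ repW 2) (rw_ 2 ++ (row 2).cj) = true := by decide +kernel
  rw [← repW_two, ← ew_append, sameW_spec h, ew_append, mul_inv_cancel_right]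
  rfl

/-- Words of order three commuting with the representatives. -/
def threeW : ℕ → List ℕ
  | 1 => [2, 16]
  | 2 => [1, 8]
  | 3 => [4, 32]
  | _ => [24, 27, 40, 45]

theorem three_spec {j : ℕ} (hj : j = 1 ∨ j = 2 ∨ j = 3 ∨ j = 4) :
    ew (threeW j) ^ 3 = 1 ∧ ew (threeW j) ≠ 1 ∧ ew (threeW j) * ew (repW j) = ew (repW j) * ew (threeW j) := by
  have H : (sameW (threeW j ++ threeW j ++ threeW j) [] && !(Nat.beq (wkey (threeW j)) (wkey [])) &&
      sameW (threeW j ++ repW j) (repW j ++ threeW j) && okW (threeW j)) = true := by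
    rcases hj with rfl | rfl | rfl | rfl <;> decide +kernel
  simp only [Bool.and_eq_true, Bool.not_eq_true'] at H
  refine ⟨?_, fun h => ?_, ?_⟩
  · rw [pow_succ, pow_two, ← ew_append, ← ew_append, sameW_spec H.1.1.1, ew_nil]
  · have := wkey_eq_of_ew (b := []) H.2 rfl (h.trans ew_nil.symm)
    rw [this] at H
    simp at H
  · rw [← ew_append, ← ew_append, sameW_spec H.1.2]

theorem rep_order {j : ℕ} (hj : j = 1 ∨ j = 2 ∨ j = 3 ∨ j = 4) : orderOf (ew (repW j)) = 2 := by
  have H : (sameW (repW j ++ repW j) [] && okW (repW j) && !(Nat.beq (wkey (repW j)) (wkey []))) = true := by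
    rcases hj with rfl | rfl | rfl | rfl <;> decide +kernel
  simp only [Bool.and_eq_true, Bool.not_eq_true'] at H
  refine orderOf_eq_prime (by rw [pow_two, ← ew_append, sameW_spec H.1.1, ew_nil]) fun h => ?_
  rw [wkey_eq_of_ew (b := []) H.1.2 rfl (h.trans ew_nil.symm)] at H
  simp at H

/-- The four-group data for the two classes with a central transvection product. -/
theorem four_data {j : ℕ} (hj : j = 3 ∨ j = 4) :
    ∃ (s : ℕ) (q : Sp), s < 64 ∧ (∀ y : Sp, y * ew (repW j) = ew (repW j) * y → y * tv s = tv s * y) ∧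
      q * ew (repW j) = ew (repW j) * q ∧ q ≠ ew (repW j) * tv s ∧
      q * (ew (repW j) * tv s) = ew (repW j) * tv s * q ∧
      IsConj spT (ew (repW j) * tv s) ∧ IsConj spT q ∧ IsConj spT (ew (repW j) * tv s * q) := by
  let cw : ℕ → List (List ℕ) := fun j => if j = 3 then
      [[8, 3, 16, 6, 2, 16, 3, 8, 32, 6, 16, 3, 6, 32], [32, 6, 16, 6, 2, 32], [16, 32, 6, 2, 16, 3]]
    else [[32, 6, 16, 3, 6, 32], [32, 6, 16, 6, 2, 32], [8, 1, 3, 8, 32, 6, 16, 3, 6, 32]]
  let s : ℕ := if j = 3 then 3 else 7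
  have H : (sameW ((cw j).getD 0 [] ++ repW 2) (repW j ++ [s] ++ (cw j).getD 0 []) &&
      sameW ((cw j).getD 1 [] ++ repW 2) ([2, 4, 6] ++ (cw j).getD 1 []) &&
      sameW ((cw j).getD 2 [] ++ repW 2) (repW j ++ [s] ++ [2, 4, 6] ++ (cw j).getD 2 []) &&
      sameW ([2, 4, 6] ++ repW j) (repW j ++ [2, 4, 6]) &&
      sameW ([2, 4, 6] ++ (repW j ++ [s])) (repW j ++ [s] ++ [2, 4, 6]) &&
      okW (repW j ++ [s]) && !(Nat.beq (wkey [2, 4, 6]) (wkey (repW j ++ [s]))) &&
      allBelow 64 (fun x => bB x (tvApp (repW j) x) == bB x s) && Nat.blt s 64) = true := by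
    rcases hj with rfl | rfl <;> decide +kernel
  simp only [Bool.and_eq_true, Bool.not_eq_true', Nat.blt_eq, allBelow_eq_true, beq_iff_eq] at H
  obtain ⟨⟨⟨⟨⟨⟨⟨⟨h0, h1⟩, h2⟩, h3⟩, h4⟩, hok⟩, hne⟩, hB⟩, hs⟩ := H
  have conjOf : ∀ {c b : List ℕ}, sameW (c ++ repW 2) (b ++ c) = true → IsConj spT (ew b) := fun {c b} h =>
    isConj_iff.2 ⟨ew c, by rw [← repW_two, ← ew_append, sameW_spec h, ew_append, mul_inv_cancel_right]⟩
  have hbs : ew (repW j) * tv s = ew (repW j ++ [s]) := by rw [ew_append, ew_single]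
  refine ⟨s, ew [2, 4, 6], hs, fun y hy => ?_, by rw [← ew_append, ← ew_append, sameW_spec h3],
    fun h => ?_, by rw [hbs, ← ew_append, ← ew_append, sameW_spec h4], hbs ▸ conjOf h0, conjOf h1,
    by rw [hbs, ← ew_append]; exact conjOf h2⟩
  · -- the form `x ↦ B(x, z x)` is `B(·, s)` and is invariant under the centraliser
    have hform : ∀ u, sympB 3 (ZMod 2) u ((ew (repW j)).1 *ᵥ u) = sympB 3 (ZMod 2) u (dv s) := by
      intro u
      obtain ⟨x, hx, rfl⟩ := dv_surjective u
      rw [ew_mulVec, sympB_decode z2_card, sympB_decode z2_card, hB x hx]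
    have hys : y.1 *ᵥ dv s = dv s := by
      have hy' : y⁻¹ * ew (repW j) = ew (repW j) * y⁻¹ := (Commute.inv_left hy).eq
      have hmat : y.1 * (y⁻¹).1 = 1 := by rw [← Submonoid.coe_mul, mul_inv_cancel]; rfl
      have hall : ∀ u, sympB 3 (ZMod 2) u (y.1 *ᵥ dv s) = sympB 3 (ZMod 2) u (dv s) := fun u => by
        have hu : y.1 *ᵥ ((y⁻¹).1 *ᵥ u) = u := by rw [Matrix.mulVec_mulVec, hmat, Matrix.one_mulVec]
        rw [← hform u]
        conv_lhs => rw [← hu, bB_lin, ← hform]
        rw [Matrix.mulVec_mulVec, ← Submonoid.coe_mul, ← hy', Submonoid.coe_mul, ← Matrix.mulVec_mulVec,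
          bB_lin]
      have h0' : y.1 *ᵥ dv s - dv s = 0 := sympB_nondeg.2 _ fun u => by
        rw [map_sub, hall u, sub_self]
      exact sub_eq_zero.1 h0'
    exact mul_inv_eq_iff_eq_mul.1 (conj_tv y hys)
  · rw [hbs] at h
    have := wkey_eq_of_ew (by decide +kernel) hok h
    rw [this] at hne
    simp at hne

/-- The transvection class differs from the others, and `spT` commutes with `spD`. -/
theorem class_data : lineB (repW 2) = false ∧ lineB ([2, 4, 6] ++ [1]) = false ∧
    sameW ([2, 4, 6] ++ [1]) ([1] ++ [2, 4, 6]) = true ∧ sameW ([1] ++ [2]) ([2] ++ [1]) = true ∧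
    Nat.beq (wkey [2]) (wkey [1]) = false ∧ lineB [2, 4, 6] = false ∧
    Nat.beq (wkey [2, 4, 6]) (wkey [1]) = false ∧
    allBelow 64 (fun v => Nat.beq v 0 || Nat.beq v 1 || !(lineB [v, 1])) = true := by
  decide +kernel

theorem conj_246 : IsConj spT (ew [2, 4, 6]) := by
  have h : sameW ([32, 6, 16, 6, 2, 32] ++ repW 2) ([2, 4, 6] ++ [32, 6, 16, 6, 2, 32]) = true := by
    decide +kernel
  exact isConj_iff.2 ⟨_, by rw [← repW_two, ← ew_append, sameW_spec h, ew_append, mul_inv_cancel_right]⟩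

end Cfsg.Agent.Sp6Local
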