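import Cfsg.Agent.Sp6Local.Gen
import Cfsg.Agent.Sp6Local.SpCalc

/-!
# The subgroup isomorphic to the symplectic group controls fusion of three-elements
-/

set_option autoImplicit false
set_option synthInstance.maxSize 4000
set_option synthInstance.maxHeartbeats 400000

namespace Cfsg.Agent.Sp6Local

open Cfsg Cfsg.Agent Equiv Subgroup Cfsg.Agent.Sym9ThreeLocal

universe u

/-- The word in the generators of the second complement giving the exchange. -/
theorem pw_word : (pw : P6) = swap 0 3 * (swap 0 1 * swap 0 3 * swap 3 4 * swap 0 3 * swap 0 1) *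
    (swap 1 2 * (swap 0 1 * swap 0 3 * swap 3 4 * swap 0 3 * swap 0 1) * swap 4 5 *
      (swap 0 1 * swap 0 3 * swap 3 4 * swap 0 3 * swap 0 1) * swap 1 2) ∧
    (pa : P6) = swap 0 1 * swap 1 2 ∧ (pb : P6) = swap 3 4 * swap 4 5 ∧
    swap (0 : Fin 6) 3 * p1 = p1 * swap 0 3 := by
  decide +kernel

namespace Conf

variable {G : Type u} [Group G] [Finite G] (h : Conf G) {hk : h.k = .eight} (s : h.Six hk)

/-- A three-element whose centraliser is not the whole Sylow line has a local or known centraliser. -/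
theorem cent_vec_le (F : h.Facts) {Y : Subgroup G} (hN : h.N ≤ Y) (h1 : centralizer ({h.j e1} : Set G) ≤ Y)
    (hx : centralizer ({h.x} : Set G) ≤ Y) {v : A} (hv : v ≠ 1) : centralizer ({h.j v} : Set G) ≤ Y := by
  classical
  have key : ∀ (w : KG h.k) (a : A), centralizer ({h.j a} : Set G) ≤ Y →
      centralizer ({h.j (act w a)} : Set G) ≤ Y := fun w a ha g hg => by
    have hq : h.q w ∈ Y := hN (h.q_mem_N w)
    have hc : (h.q w)⁻¹ * g * h.q w ∈ centralizer ({h.j a} : Set G) := by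
      refine mem_centralizer_singleton_iff.2 ?_
      have := mem_centralizer_singleton_iff.1 hg
      rw [← h.conj_j] at this
      calc (h.q w)⁻¹ * g * h.q w * h.j a = (h.q w)⁻¹ * (g * (h.q w * h.j a * (h.q w)⁻¹)) * h.q w := by group
        _ = h.j a * ((h.q w)⁻¹ * g * h.q w) := by rw [this]; group
    have := mul_mem (mul_mem hq (ha hc)) (inv_mem hq)
    rwa [show h.q w * ((h.q w)⁻¹ * g * h.q w) * (h.q w)⁻¹ = g by group] at this
  by_cases hX : XLike h.k v
  · obtain ⟨w, hw, e | e⟩ := hX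
    · rw [← e]; exact key ⟨w, hw⟩ xA hx
    · rw [show v = (act w xA)⁻¹ by rw [e, inv_inv], map_inv, A9ThreeLocal.centralizer_inv]
      exact key ⟨w, hw⟩ xA hx
  by_cases hE : EType h.k v
  · obtain ⟨hk8, w, rfl⟩ := hE
    exact key ⟨w, by rw [hk8]; trivial⟩ e1 h1
  · exact (F.loc v hv hX hE).trans hN

/-- Fusion of elements of order three is controlled by a subgroup with the local subgroups. -/
theorem three_strong (F : h.Facts) (hk' : h.k = .eight) {Y : Subgroup G} (hN : h.N ≤ Y)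
    (h1 : centralizer ({h.j e1} : Set G) ≤ Y) (hx : centralizer ({h.x} : Set G) ≤ Y) :
    ∀ y ∈ Y, y ^ 3 = 1 → y ≠ 1 → ∀ g : G, g * y * g⁻¹ ∈ Y → g ∈ Y := by
  classical
  haveI : Fact (Nat.Prime 3) := ⟨Nat.prime_three⟩
  have hSY : h.S ≤ Y := h.S_le_N.trans hN
  -- elements of order three of the subgroup are conjugate in it to vectors
  have conjJ : ∀ y ∈ Y, y ^ 3 = 1 → ∃ a ∈ Y, a * y * a⁻¹ ∈ h.J := by
    intro y hy hy3
    obtain ⟨P, hP⟩ := (h.S_isPGroup.comap_subtype (K := Y)).exists_le_sylow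
    set PG := (P : Subgroup Y).map Y.subtype
    have hSP : h.S ≤ PG := fun g hg => ⟨⟨g, hSY hg⟩, hP hg, rfl⟩
    have hPS : PG = h.S := by
      refine (eq_of_le_of_card_ge hSP ?_).symm
      obtain ⟨g, hg⟩ := F.sylow PG (P.2.map _)
      refine Nat.card_le_card_of_injective (fun p : PG => (⟨g * p * g⁻¹, hg p p.2⟩ : h.S)) fun p q e => ?_
      exact Subtype.ext (mul_left_cancel (mul_right_cancel (congrArg Subtype.val e)))
    have hyp : IsPGroup 3 (zpowers (⟨y, hy⟩ : Y)) := by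
      intro g
      obtain ⟨n, hn⟩ := mem_zpowers_iff.1 g.2
      exact ⟨1, Subtype.ext (by
        rw [SubmonoidClass.coe_pow, ← hn, pow_one, ← zpow_natCast, ← zpow_mul, mul_comm, zpow_mul, zpow_natCast,
          show (⟨y, hy⟩ : Y) ^ 3 = 1 from Subtype.ext hy3, one_zpow]; rfl)⟩
    obtain ⟨Q, hQ⟩ := hyp.exists_le_sylow
    obtain ⟨c, hc⟩ := MulAction.exists_smul_eq Y Q P
    have hm : c * ⟨y, hy⟩ * c⁻¹ ∈ (P : Subgroup Y) := by
      rw [← hc, Sylow.coe_subgroup_smul]; exact ⟨_, hQ (mem_zpowers _), rfl⟩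
    have hcS : (c : G) * y * (c : G)⁻¹ ∈ h.S := by rw [← hPS]; exact ⟨_, hm, rfl⟩
    rcases h.S_three hcS (by rw [conj_pow, hy3, mul_one, mul_inv_cancel]) with e | e
    · exact ⟨c, c.2, e⟩
    by_cases hz : (c : G) * y * (c : G)⁻¹ ∈ zpowers h.x
    · exact ⟨c, c.2, zpowers_le.2 (h.j_mem xA) hz⟩
    obtain ⟨d, hd, hdy⟩ := h.R_fuse e hz
    refine ⟨d * c, mul_mem (hx hd) c.2, ?_⟩
    rw [show d * (c : G) * y * (d * (c : G))⁻¹ = d * ((c : G) * y * (c : G)⁻¹) * d⁻¹ by group, hdy]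
    exact h.j_mem _
  intro y hy hy3 hy1 g hg
  obtain ⟨a, ha, v, hv⟩ := conjJ y hy hy3
  obtain ⟨b, hb, v', hv'⟩ := conjJ _ hg (by rw [conj_pow, hy3, mul_one, mul_inv_cancel])
  have hv1 : v ≠ 1 := fun e => hy1 (by
    rw [e, map_one] at hv; exact conj_eq_one_iff.1 hv.symm)
  have e : b * g * a⁻¹ * h.j v * (b * g * a⁻¹)⁻¹ = h.j v' := by rw [hv, hv']; group
  obtain ⟨w, hw, hwv⟩ := F.ctrl _ v v' hv1 e
  have hn : h.q ⟨w, hw⟩ * h.j v * (h.q ⟨w, hw⟩)⁻¹ = h.j v' := by rw [h.conj_j, hwv]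
  have hc : (h.q ⟨w, hw⟩)⁻¹ * (b * g * a⁻¹) ∈ centralizer ({h.j v} : Set G) := by
    refine mem_centralizer_singleton_iff.2 (mul_inv_eq_iff_eq_mul.1 ?_)
    calc (h.q ⟨w, hw⟩)⁻¹ * (b * g * a⁻¹) * h.j v * ((h.q ⟨w, hw⟩)⁻¹ * (b * g * a⁻¹))⁻¹
        = (h.q ⟨w, hw⟩)⁻¹ * (b * g * a⁻¹ * h.j v * (b * g * a⁻¹)⁻¹) * h.q ⟨w, hw⟩ := by group
      _ = h.j v := by rw [e, ← hn]; group
  have hz := mul_mem (hN (h.q_mem_N ⟨w, hw⟩)) (h.cent_vec_le F hN h1 hx hv1 hc)
  rw [mul_inv_cancel_left] at hz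
  have := mul_mem (mul_mem (inv_mem hb) hz) ha
  rwa [show b⁻¹ * (b * g * a⁻¹) * a = g by group] at this

/-- A subgroup with the normaliser and an element outside it centralising the given one has its whole
centraliser. -/
theorem cent_x_le (F : h.Facts) {Y : Subgroup G} (hN : h.N ≤ Y) {y : G} (hy : y ∈ Y)
    (hyx : y * h.x = h.x * y) (hyN : y ∉ h.N) : centralizer ({h.x} : Set G) ≤ Y := by
  classical
  set C := centralizer ({h.x} : Set G) with hC
  obtain ⟨f, hfs, hf⟩ := h.projX'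
  set H := Y.subgroupOf C with hH
  set NC := h.N.subgroupOf C with hNC
  have hle : NC ≤ H := fun g hg => hN hg
  have hlt : NC < H := lt_of_le_of_ne hle fun e => hyN (by
    have : (⟨y, mem_centralizer_singleton_iff.2 hyx⟩ : C) ∈ NC := e ▸ (show _ ∈ H from hy)
    exact this)
  have h4 : NC.index = 4 := by
    have h1 := card_mul_index NC
    have h2 : Nat.card NC = 162 := by
      rw [← F.card_x_inf, hNC, ← inf_subgroupOf_right,
        Nat.card_congr (subgroupOfEquivOfLe (inf_le_right : h.N ⊓ C ≤ C)).toEquiv]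
    rw [h2, F.card_x] at h1
    omega
  have hidx : H.index ∣ 4 := h4 ▸ index_dvd_of_le hle
  have hlt4 : H.index < 4 := h4 ▸ index_strictAnti hlt
  have hker : ∀ g : C, f g = 1 → g ∈ H := fun g hg => hN (h.S_le_N (h.R_le_S ((hf g).1 hg)))
  suffices htop : H = ⊤ by
    intro g hg
    exact (htop ▸ mem_top (⟨g, hg⟩ : C) : (⟨g, hg⟩ : C) ∈ H)
  have h12 : H.index = 1 ∨ H.index = 2 := by
    have h0 : H.index ≠ 0 := index_ne_zero_of_finite
    have h3 : H.index ≠ 3 := fun e => by rw [e] at hidx; exact absurd hidx (by norm_num)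
    omega
  rcases h12 with e | e
  · exact index_eq_one.1 e
  refine eq_top_iff.2 fun g _ => ?_
  obtain ⟨b, c, hbc⟩ := PSp43Amalgam.sl_squares (f g)
  obtain ⟨b', rfl⟩ := hfs b
  obtain ⟨c', rfl⟩ := hfs c
  have hq : g * (b' * b' * (c' * c'))⁻¹ ∈ H := hker _ (by
    rw [map_mul, map_inv, map_mul, map_mul, map_mul, hbc, mul_inv_cancel])
  have := mul_mem hq (mul_mem (mul_self_mem_of_index_two e b') (mul_self_mem_of_index_two e c'))
  rwa [inv_mul_cancel_right] at this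

/-- The centraliser of the exchange lies in a subgroup with the other centralisers. -/
theorem cent_tau_le (F : h.Facts) (f : h.Frame hk) {Y : Subgroup G} (hN : h.N ≤ Y)
    (h1 : centralizer ({h.j e1} : Set G) ≤ Y) (hx : centralizer ({h.x} : Set G) ≤ Y) : h.ctau ≤ Y := by
  classical
  have hd := h.centTwo hk F f
  set K : Subgroup h.TX := (Y.subgroupOf h.ctau).map h.prT with hK
  have hmem : ∀ d : h.ctau, (d : G) ∈ Y → h.prT d ∈ K := fun d hd' => ⟨d, hd', rfl⟩
  have hle : centralizer ({(h.tauData hk).e} : Set h.TX) ⊔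
      centralizer ({(h.tauData hk).e * (h.tauData hk).u} : Set h.TX) ⊔
      normalizer ((zpowers (h.tauData hk).e ⊔ zpowers (h.tauData hk).u : Subgroup h.TX) : Set h.TX) ≤ K := by
    refine sup_le (sup_le (fun g hg => ?_) (fun g hg => ?_)) (fun g hg => ?_)
    · obtain ⟨d, rfl⟩ := h.prT_surj g
      exact hmem d (h1 (mem_centralizer_singleton_iff.2
        (h.prT_comm (h.vT_cube hk e1 tau_facts.1) (mem_centralizer_singleton_iff.1 hg))))
    · obtain ⟨d, rfl⟩ := h.prT_surj g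
      have hg' := mem_centralizer_singleton_iff.1 hg
      rw [show (h.tauData hk).e * (h.tauData hk).u =
        h.prT (h.vT hk e1 tau_facts.1 * h.vT hk vu vec_types.2.2.2.2.2.2.2.1) from (map_mul _ _ _).symm] at hg'
      have hX : ((h.vT hk e1 tau_facts.1 * h.vT hk vu vec_types.2.2.2.2.2.2.2.1 : h.ctau) : G) = h.x :=
        (map_mul h.j e1 vu).symm.trans (congrArg h.j tau_facts.2.1)
      have hc := h.prT_comm (by rw [hX]; exact h.J_cube _ (h.j_mem xA)) hg'
      rw [hX] at hc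
      exact hmem d (hx (mem_centralizer_singleton_iff.2 hc))
    · obtain ⟨i, j, k, l, rfl⟩ := hd.norm g hg
      refine mul_mem (mul_mem (mul_mem ?_ ?_) ?_) ?_
      · exact pow_mem (hmem _ (hN (h.j_mem_N _))) _
      · exact pow_mem (hmem _ (hN (h.j_mem_N _))) _
      · exact pow_mem (hmem _ (hN ((h.mem_N_emb hk).2 ⟨_, rfl⟩))) _
      · exact pow_mem (hmem _ (hN ((h.mem_N_emb hk).2 ⟨_, rfl⟩))) _
  intro g hg
  obtain ⟨d, hd', hde⟩ : h.prT ⟨g, hg⟩ ∈ K := hle (hd.gen ▸ mem_top _)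
  rcases h.prT_eq hde.symm with e | e
  · rw [show g = d from e]; exact hd'
  · rw [show g = d * h.tau from e]; exact mul_mem hd' (hN (h.q_mem_N _))

/-- The hypotheses of the recognition of the symplectic group inside the subgroup of the seven. -/
theorem y7_props (F : h.Facts) (E : h.Y7 s ≃* Sp)
    (hE : ∀ i, E ⟨h.e7Gen s i, h.gen_mem s i⟩ = tv (e7Vec i)) :
    (∀ y ∈ h.Y7 s, y ^ 3 = 1 → y ≠ 1 → ∀ g : G, g * y * g⁻¹ ∈ h.Y7 s → g ∈ h.Y7 s) ∧
      centralizer ({(E.symm spT : G)} : Set G) ≤ h.Y7 s := by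
  classical
  set f := Six.frame h s with hf
  have h27 : 27 ∣ Nat.card (h.Y7 s) := by
    rw [Nat.card_congr E.toEquiv, SympMult.SpSix.card_sp card_two]; norm_num
  have hJ := h.J_le_of_card (hk := hk) F (h.Y7 s) (h.j_one_mem s) (h.j_two_mem s) h27
  have hN := h.N_le s hJ
  have h1 := h.cent_one_le s hJ
  -- images of the complements
  let EA : P6 →* Sp := E.toMonoidHom.comp (s.ψ.codRestrict _ (h.psi_mem s))
  let EB : P6 →* Sp := E.toMonoidHom.comp (f.ψ.codRestrict _ (h.frame_mem s hJ))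
  obtain ⟨o1, o2, -⟩ := h.gen_overlap s
  have gA : ∀ i σ, s.ψ σ = h.e7Gen s i → EA σ = tv (e7Vec i) := fun i σ e => by
    rw [← hE i]; exact congrArg E (Subtype.ext e)
  have gB : ∀ i σ, f.ψ σ = h.e7Gen s i → EB σ = tv (e7Vec i) := fun i σ e => by
    rw [← hE i]; exact congrArg E (Subtype.ext e)
  have a01 : EA (swap 0 1) = tv 8 := gA 5 _ rfl
  have a12 : EA (swap 1 2) = tv 1 := gA 6 _ rfl
  have a03 : EA (swap 0 3) = tv 3 := gA 4 _ rfl
  have a34 : EA (swap 3 4) = tv 16 := gA 3 _ rfl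
  have a45 : EA (swap 4 5) = tv 2 := gA 1 _ rfl
  have b34 : EB (swap 3 4) = tv 32 := gB 0 _ rfl
  have b03 : EB (swap 0 3) = tv 6 := gB 2 _ rfl
  have b01 : EB (swap 0 1) = tv 16 := gB 3 _ o2
  have b12 : EB (swap 1 2) = tv 2 := gB 1 _ o1
  obtain ⟨hpw, hpa, hpb, h03⟩ := pw_word
  -- the flip of the third block
  have hM : EB (swap 4 5) = tv 4 := by
    rw [shift_p6.2.1]
    have hcA : ∀ σ, EB p1 * EA σ = EA σ * EB p1 := fun σ => by
      show E _ * E _ = E _ * E _
      rw [← map_mul, ← map_mul]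
      refine congrArg E (Subtype.ext ?_)
      show f.ψ p1 * s.ψ σ = s.ψ σ * f.ψ p1
      rw [f.map_1]; exact (s.comm_f σ).eq
    have key : EB p1 = 1 ∨ EB p1 = tv 4 := flip_image fun v hv => by
      simp only [List.mem_cons, List.not_mem_nil, or_false] at hv
      rcases hv with rfl | rfl | rfl | rfl | rfl | rfl
      · rw [← a12]; exact hcA _
      · rw [← a01]; exact hcA _
      · rw [← a03]; exact hcA _
      · rw [← a34]; exact hcA _
      · rw [← a45]; exact hcA _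
      · rw [← b03, ← map_mul, ← map_mul, h03]
    rcases key with e | e
    · exfalso
      have h0 : f.ψ p1 = 1 := congrArg Subtype.val ((map_eq_one_iff E E.injective).1 e)
      exact absurd (f.inj (h0.trans (map_one _).symm)) (show p1 ≠ (1 : P6) by decide +kernel)
    · exact e
  have hw1 : spWord [8, 1] = EA pa := by
    rw [hpa, map_mul, a01, a12]; simp [spWord, StemCert.evalW]
  -- the given element
  have hxw : E ⟨h.x, hN (h.j_mem_N _)⟩ = spWord [8, 1, 16, 2, 32, 4] := by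
    have e : (⟨h.x, hN (h.j_mem_N _)⟩ : h.Y7 s) =
        (⟨h.j e1, h.j_one_mem s⟩ * ⟨h.j e2, h.j_two_mem s⟩) * ⟨h.j e3, hJ (h.j_mem _)⟩ :=
      Subtype.ext (by
        show h.j xA = h.j e1 * h.j e2 * h.j e3
        rw [← map_mul, ← map_mul]; exact congrArg h.j (by decide +kernel))
    rw [e, map_mul, map_mul]
    have x1 : E ⟨h.j e1, h.j_one_mem s⟩ = EA pa := congrArg E (Subtype.ext s.map_a.symm)
    have x2 : E ⟨h.j e2, h.j_two_mem s⟩ = EA pb := congrArg E (Subtype.ext s.map_b.symm)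
    have x3 : E ⟨h.j e3, hJ (h.j_mem _)⟩ = EB pb := congrArg E (Subtype.ext f.map_b.symm)
    rw [x1, x2, x3, hpa, hpb, map_mul, map_mul, map_mul, a01, a12, a34, a45, b34, hM]
    simp [spWord, StemCert.evalW, mul_assoc]
  obtain ⟨m1, m2, m3⟩ := mover_word
  set y : h.Y7 s := E.symm (spWord [7, 56]) with hy
  have hyE : E y = spWord [7, 56] := E.apply_symm_apply _
  have hyinv : E y⁻¹ = spWord [56, 7] := by
    rw [map_inv, hyE]; exact inv_eq_of_mul_eq_one_right (by rw [← spWord_append]; exact m3)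
  have hyx : (y : G) * h.x = h.x * y := congrArg Subtype.val (E.injective (a₁ := y * ⟨h.x, hN (h.j_mem_N _)⟩)
    (a₂ := ⟨h.x, hN (h.j_mem_N _)⟩ * y) (by rw [map_mul, map_mul, hyE, hxw, ← spWord_append, ← spWord_append, m1]))
  have hyN : (y : G) ∉ h.N := fun hm => by
    obtain ⟨b, hb⟩ := h.mem_N_iff.1 hm e1
    refine m2 ?_
    have hcomm : (y * ⟨h.j e1, h.j_one_mem s⟩ * y⁻¹) * ⟨h.j e1, h.j_one_mem s⟩ =
        (⟨h.j e1, h.j_one_mem s⟩ : h.Y7 s) * (y * ⟨h.j e1, h.j_one_mem s⟩ * y⁻¹) := Subtype.ext (by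
      show (y : G) * h.j e1 * (y : G)⁻¹ * h.j e1 = h.j e1 * ((y : G) * h.j e1 * (y : G)⁻¹)
      rw [hb]; exact h.j_comm _ _)
    have x1 : E ⟨h.j e1, h.j_one_mem s⟩ = spWord [8, 1] :=
      (congrArg E (Subtype.ext s.map_a.symm)).trans hw1.symm
    generalize (⟨h.j e1, h.j_one_mem s⟩ : h.Y7 s) = a at hcomm x1
    calc spWord [7, 56] * spWord [8, 1] * spWord [56, 7] * spWord [8, 1]
        = E y * E a * E y⁻¹ * E a := by rw [hyE, hyinv, x1]
      _ = E (y * a * y⁻¹ * a) := by rw [E.map_mul, E.map_mul, E.map_mul]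
      _ = E (a * (y * a * y⁻¹)) := congrArg E hcomm
      _ = E a * (E y * E a * E y⁻¹) := by rw [E.map_mul, E.map_mul, E.map_mul]
      _ = spWord [8, 1] * (spWord [7, 56] * spWord [8, 1] * spWord [56, 7]) := by rw [hyE, hyinv, x1]
  have hx := h.cent_x_le F hN y.2 hyx hyN
  refine ⟨h.three_strong F hk hN h1 hx, ?_⟩
  have htau : E ⟨h.tau, hN (h.q_mem_N _)⟩ = spT := by
    rw [show (⟨h.tau, hN (h.q_mem_N _)⟩ : h.Y7 s) = (f.ψ.codRestrict _ (h.frame_mem s hJ)) pw from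
      Subtype.ext f.map_w.symm, ← exchange_word]
    show EB pw = _
    rw [hpw]
    simp only [map_mul, b03, b01, b34, b12, hM]
    simp [spWord, StemCert.evalW, mul_assoc]
  rw [← htau, E.symm_apply_apply]
  exact h.cent_tau_le F f hN h1 hx

end Conf

end Cfsg.Agent.Sp6Local
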